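import Groth.Agent.Lib.FC16.Fiber

/-! Transfer of cartesian morphisms along equivalences over the base. -/

universe v₃ u₃ v₂ u₂ v u

open CategoryTheory CategoryTheory.Functor

set_option linter.style.haveILetI false
set_option linter.unusedSimpArgs false

namespace Groth.Agent.FC16

variable {C : Type u} [Category.{v} C] {𝒳 : BasedCategory.{v₂, u₂} C} {𝒴 : BasedCategory.{v₃, u₃} C}
  {F : 𝒳 ⥤ᵇ 𝒴}

lemma invObj_lift' (hs : EssSurjOver F) (η : 𝒴.obj) {U : C} (h : 𝒴.p.obj η = U) :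
    𝒴.p.IsHomLift (𝟙 U) (invIso hs η).hom := by
  subst h; infer_instance

lemma isStronglyCartesian_map (hF : FibCat.IsEquivOver F) {R S : C} (f : R ⟶ S) {a b : 𝒳.obj}
    (φ : a ⟶ b) (h : 𝒳.p.IsStronglyCartesian f φ) : 𝒴.p.IsStronglyCartesian f (F.map φ) where
  toIsHomLift := by haveI := h.toIsHomLift; infer_instance
  universal_property' := fun {z} g ψ hψ => by
    haveI := h; haveI := hψ
    have := isEquivalence_of_isEquivOver hF
    have hs := essSurjOver_of_isEquivOver hF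
    let i := invIso hs z
    let ψ₀ := F.toFunctor.preimage (i.hom ≫ ψ)
    haveI : 𝒳.p.IsHomLift (g ≫ f) ψ₀ := by
      haveI : 𝒴.p.IsHomLift (g ≫ f) (F.map ψ₀) := by
        rw [F.toFunctor.map_preimage]; infer_instance
      exact BasedFunctor.isHomLift_map F _ _
    let χ₀ := IsStronglyCartesian.map 𝒳.p f φ (g := g) (f' := g ≫ f) rfl ψ₀
    have fc : χ₀ ≫ φ = ψ₀ := IsStronglyCartesian.fac ..
    refine ⟨i.inv ≫ F.map χ₀, ⟨?_, ?_⟩, ?_⟩
    · exact inferInstanceAs (𝒴.p.IsHomLift g (i.inv ≫ F.map χ₀))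
    · rw [Category.assoc, ← F.map_comp, fc, F.toFunctor.map_preimage, Iso.inv_hom_id_assoc]
    · rintro χ ⟨hχ, hχ'⟩
      haveI := hχ
      have key : F.toFunctor.preimage (i.hom ≫ χ) = χ₀ := by
        haveI : 𝒳.p.IsHomLift g (F.toFunctor.preimage (i.hom ≫ χ)) := by
          haveI : 𝒴.p.IsHomLift g (F.map (F.toFunctor.preimage (i.hom ≫ χ))) := by
            rw [F.toFunctor.map_preimage]; infer_instance
          exact BasedFunctor.isHomLift_map F _ _
        refine IsStronglyCartesian.map_uniq 𝒳.p f φ (rfl : g ≫ f = g ≫ f) ψ₀ _ (F.toFunctor.map_injective ?_)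
        rw [F.map_comp, F.toFunctor.map_preimage, F.toFunctor.map_preimage, Category.assoc, hχ']
      rw [← key, F.toFunctor.map_preimage, Iso.inv_hom_id_assoc]

lemma isStronglyCartesian_of_map (hF : FibCat.IsEquivOver F) {R S : C} (f : R ⟶ S) {a b : 𝒳.obj}
    (φ : a ⟶ b) (h : 𝒴.p.IsStronglyCartesian f (F.map φ)) : 𝒳.p.IsStronglyCartesian f φ where
  toIsHomLift := by haveI := h.toIsHomLift; exact BasedFunctor.isHomLift_map F _ _
  universal_property' := fun {z} g ψ hψ => by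
    haveI := h; haveI := hψ
    have := isEquivalence_of_isEquivOver hF
    let g' : 𝒴.p.obj (F.obj z) ⟶ R := eqToHom (F.w_obj z) ≫ g
    let χ := IsStronglyCartesian.map 𝒴.p f (F.map φ) (g := g) (f' := g ≫ f) rfl (F.map ψ)
    have fc : χ ≫ F.map φ = F.map ψ := IsStronglyCartesian.fac ..
    refine ⟨F.toFunctor.preimage χ, ⟨?_, F.toFunctor.map_injective ?_⟩, ?_⟩
    · haveI : 𝒴.p.IsHomLift g (F.map (F.toFunctor.preimage χ)) := by
        rw [F.toFunctor.map_preimage]; infer_instance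
      exact BasedFunctor.isHomLift_map F _ _
    · rw [F.map_comp, F.toFunctor.map_preimage, fc]
    · rintro χ' ⟨hχ, hχ'⟩
      haveI := hχ
      apply F.toFunctor.map_injective
      rw [F.toFunctor.map_preimage]
      exact IsStronglyCartesian.map_uniq 𝒴.p f (F.map φ) (rfl : g ≫ f = g ≫ f) (F.map ψ) (F.map χ')
        (by rw [← F.map_comp, hχ'])

lemma isCartesian_map (hF : FibCat.IsEquivOver F) {R S : C} (f : R ⟶ S) {a b : 𝒳.obj}
    (φ : a ⟶ b) (h : 𝒳.p.IsCartesian f φ) : 𝒴.p.IsCartesian f (F.map φ) where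
  toIsHomLift := by haveI := h.toIsHomLift; infer_instance
  universal_property := fun {z} ψ hψ => by
    haveI := h; haveI := hψ
    have := isEquivalence_of_isEquivOver hF
    have hs := essSurjOver_of_isEquivOver hF
    let i := invIso hs z
    haveI : 𝒴.p.IsHomLift (𝟙 R) i.hom := invObj_lift' hs z (IsHomLift.domain_eq 𝒴.p f ψ)
    let ψ₀ := F.toFunctor.preimage (i.hom ≫ ψ)
    haveI : 𝒳.p.IsHomLift f ψ₀ := by
      haveI : 𝒴.p.IsHomLift f (F.map ψ₀) := by
        rw [F.toFunctor.map_preimage]; infer_instance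
      exact BasedFunctor.isHomLift_map F _ _
    let χ₀ := IsCartesian.map 𝒳.p f φ ψ₀
    have fc : χ₀ ≫ φ = ψ₀ := IsCartesian.fac ..
    refine ⟨i.inv ≫ F.map χ₀, ⟨?_, ?_⟩, ?_⟩
    · exact inferInstanceAs (𝒴.p.IsHomLift (𝟙 R) (i.inv ≫ F.map χ₀))
    · rw [Category.assoc, ← F.map_comp, fc, F.toFunctor.map_preimage, Iso.inv_hom_id_assoc]
    · rintro χ ⟨hχ, hχ'⟩
      haveI := hχ
      have key : F.toFunctor.preimage (i.hom ≫ χ) = χ₀ := by
        haveI : 𝒳.p.IsHomLift (𝟙 R) (F.toFunctor.preimage (i.hom ≫ χ)) := by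
          haveI : 𝒴.p.IsHomLift (𝟙 R) (F.map (F.toFunctor.preimage (i.hom ≫ χ))) := by
            rw [F.toFunctor.map_preimage]; infer_instance
          exact BasedFunctor.isHomLift_map F _ _
        refine IsCartesian.map_uniq 𝒳.p f φ ψ₀ _ (F.toFunctor.map_injective ?_)
        rw [F.map_comp, F.toFunctor.map_preimage, F.toFunctor.map_preimage, Category.assoc, hχ']
      rw [← key, F.toFunctor.map_preimage, Iso.inv_hom_id_assoc]

lemma isCartesian_of_map (hF : FibCat.IsEquivOver F) {R S : C} (f : R ⟶ S) {a b : 𝒳.obj}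
    (φ : a ⟶ b) (h : 𝒴.p.IsCartesian f (F.map φ)) : 𝒳.p.IsCartesian f φ where
  toIsHomLift := by haveI := h.toIsHomLift; exact BasedFunctor.isHomLift_map F _ _
  universal_property := fun {z} ψ hψ => by
    haveI := h; haveI := hψ
    have := isEquivalence_of_isEquivOver hF
    let χ := IsCartesian.map 𝒴.p f (F.map φ) (F.map ψ)
    have fc : χ ≫ F.map φ = F.map ψ := IsCartesian.fac ..
    refine ⟨F.toFunctor.preimage χ, ⟨?_, F.toFunctor.map_injective ?_⟩, ?_⟩
    · haveI : 𝒴.p.IsHomLift (𝟙 R) (F.map (F.toFunctor.preimage χ)) := by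
        rw [F.toFunctor.map_preimage]; infer_instance
      exact BasedFunctor.isHomLift_map F _ _
    · rw [F.map_comp, F.toFunctor.map_preimage, fc]
    · rintro χ' ⟨hχ, hχ'⟩
      haveI := hχ
      apply F.toFunctor.map_injective
      rw [F.toFunctor.map_preimage]
      exact IsCartesian.map_uniq 𝒴.p f (F.map φ) (F.map ψ) (F.map χ')
        (by rw [← F.map_comp, hχ'])

lemma isFibered_of_isEquivOver (hF : FibCat.IsEquivOver F) [𝒳.p.IsFibered] : 𝒴.p.IsFibered :=
  IsFibered.of_exists_isStronglyCartesian fun η R f => by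
    have hs := essSurjOver_of_isEquivOver hF
    obtain ⟨ξ, i, hi⟩ := hs η
    haveI := hi
    have hξ : 𝒳.p.obj ξ = 𝒴.p.obj η :=
      (F.w_obj ξ).symm.trans (IsHomLift.domain_eq 𝒴.p (𝟙 (𝒴.p.obj η)) i.hom)
    obtain ⟨a, φ, hφ⟩ := exists_isStronglyCartesian (p := 𝒳.p) hξ f
    haveI := isStronglyCartesian_map hF f φ hφ
    refine ⟨F.obj a, F.map φ ≫ i.hom, ?_⟩
    have : 𝒴.p.IsStronglyCartesian (f ≫ 𝟙 _) (F.map φ ≫ i.hom) := inferInstance
    simpa using this

lemma isFibGrpd_of_isEquivOver (hF : FibCat.IsEquivOver F) (h : FibCat.IsFibGrpd 𝒳.p) :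
    FibCat.IsFibGrpd 𝒴.p := by
  haveI := isFibered h
  haveI := isFibered_of_isEquivOver hF
  refine isFibGrpd_of_isFibered fun U => ?_
  have := isEquivalence_fib_of_isEquivOver hF U
  have := isGroupoid_fiber h U
  refine ⟨fun {a b} φ => ?_⟩
  let e := (fib F U).asEquivalence
  have : IsIso (e.inverse.map φ) := IsGroupoid.all_isIso _
  exact isIso_of_reflects_iso φ e.inverse

lemma isFibGrpd_iff_of_isEquivOver (hF : FibCat.IsEquivOver F) :
    FibCat.IsFibGrpd 𝒳.p ↔ FibCat.IsFibGrpd 𝒴.p := by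
  obtain ⟨G, hG, -, -⟩ := exists_inverse hF
  exact ⟨isFibGrpd_of_isEquivOver hF, isFibGrpd_of_isEquivOver hG⟩

lemma isFibered_iff_of_isEquivOver (hF : FibCat.IsEquivOver F) :
    𝒳.p.IsFibered ↔ 𝒴.p.IsFibered := by
  obtain ⟨G, hG, -, -⟩ := exists_inverse hF
  exact ⟨fun _ => isFibered_of_isEquivOver hF, fun _ => isFibered_of_isEquivOver hG⟩

end Groth.Agent.FC16
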