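import Groth.Agent.Lib.FC16.Fp
import Groth.Agent.Lib.FC16.Transfer

/-! Representable categories and 1-morphisms. -/

universe v₇ u₇ v₆ u₆ v₅ u₅ v₄ u₄ v₃ u₃ v₂ u₂ v u

open CategoryTheory CategoryTheory.Functor

set_option linter.style.haveILetI false
set_option linter.unusedSimpArgs false
set_option backward.isDefEq.respectTransparency false
set_option backward.isDefEq.respectTransparency.types false

namespace Groth.Agent.FC16

variable {C : Type u} [Category.{v} C]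

section Repr

variable {𝒳 : BasedCategory.{v₂, u₂} C} {𝒴 : BasedCategory.{v₃, u₃} C}

lemma isRepresentable_congr {F : 𝒳 ⥤ᵇ 𝒴} (hF : FibCat.IsEquivOver F) :
    FibCat.IsRepresentable 𝒳 ↔ FibCat.IsRepresentable 𝒴 := by
  obtain ⟨G, hG, -, -⟩ := exists_inverse hF
  exact ⟨fun ⟨U, E, hE⟩ => ⟨U, _, isEquivOver_comp hG hE⟩,
    fun ⟨U, E, hE⟩ => ⟨U, _, isEquivOver_comp hF hE⟩⟩

lemma isFibGrpd_of_isRepresentable (h : FibCat.IsRepresentable 𝒳) : FibCat.IsFibGrpd 𝒳.p := by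
  obtain ⟨U, E, hE⟩ := h
  exact (isFibGrpd_iff_of_isEquivOver hE).2 (overCat_isFibGrpd U)

lemma exists_terminal (h : FibCat.IsRepresentable 𝒳) :
    ∃ ξ : 𝒳.obj, ∀ ρ : 𝒳.obj, Nonempty (Unique (ρ ⟶ ξ)) := by
  obtain ⟨U, E, hE⟩ := h
  obtain ⟨G, hG, -, -⟩ := exists_inverse hE
  have := isEquivalence_of_isEquivOver hG
  refine ⟨G.obj (Over.mk (𝟙 U)), fun ρ => ?_⟩
  obtain ⟨a, i, -⟩ := essSurjOver_of_isEquivOver hG ρ
  refine ⟨⟨⟨i.inv ≫ G.map (toTerm a)⟩, fun m => ?_⟩⟩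
  rw [← cancel_epi i.hom]
  show i.hom ≫ m = i.hom ≫ i.inv ≫ G.map (toTerm a)
  rw [Iso.hom_inv_id_assoc]
  obtain ⟨g, hg⟩ := G.toFunctor.map_surjective (i.hom ≫ m)
  rw [← hg]
  congr 1
  apply Over.OverMorphism.ext
  exact (Category.comp_id _).symm.trans (Over.w g)

lemma isRepresentable_of_terminal (h : FibCat.IsFibGrpd 𝒳.p) (ξ : 𝒳.obj)
    (hξ : ∀ ρ : 𝒳.obj, Nonempty (Unique (ρ ⟶ ξ))) : FibCat.IsRepresentable 𝒳 := by
  haveI := isFibered h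
  haveI : ∀ ρ : 𝒳.obj, Subsingleton (ρ ⟶ ξ) := fun ρ => (hξ ρ).elim fun i => inferInstance
  let G := ofObj (U := 𝒳.p.obj ξ) (x := ξ) rfl
  have : G.toFunctor.Faithful := ⟨fun {a b g g'} e => by
    apply Over.OverMorphism.ext
    haveI h1 : 𝒳.p.IsHomLift g.left (G.map g) := map_over_lift G g
    haveI h2 : 𝒳.p.IsHomLift g'.left (G.map g) := by rw [e]; exact map_over_lift G g'
    exact isHomLift_unique (p := 𝒳.p) g.left g'.left (G.map g)⟩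
  have : G.toFunctor.Full := ⟨fun {a b} m => by
    let pa := IsPreFibered.pullbackMap (p := 𝒳.p) (a := ξ) rfl a.hom
    let pb := IsPreFibered.pullbackMap (p := 𝒳.p) (a := ξ) rfl b.hom
    have e : m ≫ pb = pa := Subsingleton.elim _ _
    let f : a.left ⟶ b.left := eqToHom (G.w_obj a).symm ≫ 𝒳.p.map m ≫ eqToHom (G.w_obj b)
    haveI : 𝒳.p.IsHomLift f m := IsHomLift.of_fac 𝒳.p f m (G.w_obj a) (G.w_obj b) rfl
    haveI : 𝒳.p.IsHomLift (f ≫ b.hom) pa := by rw [← e]; infer_instance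
    let k : a ⟶ b := Over.homMk f (isHomLift_unique (p := 𝒳.p) (f ≫ b.hom) a.hom pa)
    haveI hk : 𝒳.p.IsHomLift f (G.map k) := map_over_lift G k
    exact ⟨k, IsStronglyCartesian.ext 𝒳.p b.hom pb f (Subsingleton.elim _ _)⟩⟩
  have hs : EssSurjOver G := fun x => by
    obtain ⟨⟨⟨m⟩, -⟩⟩ := hξ x
    haveI := h.isStronglyCartesian m
    let e := IsCartesian.domainUniqueUpToIso 𝒳.p (𝒳.p.map m) m
      (IsPreFibered.pullbackMap (p := 𝒳.p) (a := ξ) rfl (𝒳.p.map m))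
    exact ⟨Over.mk (𝒳.p.map m), e,
      IsCartesian.map_isHomLift 𝒳.p (𝒳.p.map m) m (IsPreFibered.pullbackMap (p := 𝒳.p) (a := ξ) rfl (𝒳.p.map m))⟩
  obtain ⟨E, hE, -, -⟩ := exists_inverse (isEquivOver_of G hs)
  exact ⟨_, E, hE⟩

lemma isRepresentable_overCat (U : C) : FibCat.IsRepresentable (FibCat.overCat U) :=
  ⟨U, BasedFunctor.id _, isEquivOver_id⟩

lemma isRepresentable_iff [𝒳.p.IsFibered] : FibCat.IsRepresentable 𝒳 ↔
    (FibCat.IsFibGrpd 𝒳.p ∧ ∃ ξ : 𝒳.obj, ∀ ρ : 𝒳.obj, Nonempty (Unique (ρ ⟶ ξ))) :=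
  ⟨fun h => ⟨isFibGrpd_of_isRepresentable h, exists_terminal h⟩,
    fun ⟨h, ξ, hξ⟩ => isRepresentable_of_terminal h ξ hξ⟩

end Repr

section Congr

variable {𝒳 : BasedCategory.{v₂, u₂} C} {𝒴 : BasedCategory.{v₃, u₃} C}
  {𝒮 : BasedCategory.{v₄, u₄} C} {𝒳' : BasedCategory.{v₅, u₅} C}

lemma isRepresentable_fp_iso {F F' : 𝒳 ⥤ᵇ 𝒮} {G G' : 𝒴 ⥤ᵇ 𝒮} (i : F ≅ F') (j : G ≅ G') :
    FibCat.IsRepresentable (FibCat.fp F G) ↔ FibCat.IsRepresentable (FibCat.fp F' G') :=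
  haveI : (BasedFunctor.id 𝒮).toFunctor.Full := inferInstanceAs (Functor.id 𝒮.obj).Full
  haveI : (BasedFunctor.id 𝒮).toFunctor.Faithful := inferInstanceAs (Functor.id 𝒮.obj).Faithful
  isRepresentable_congr (fpMap_isEquivOver (a := BasedFunctor.id 𝒳) (b := BasedFunctor.id 𝒴)
    (s := BasedFunctor.id 𝒮) (F := F) (G := G) (F' := F') (G' := G') i.symm j.symm
    isEquivOver_id isEquivOver_id)

lemma isRepresentable_fp_comp_left {F : 𝒳 ⥤ᵇ 𝒮} {G : 𝒴 ⥤ᵇ 𝒮} {a : 𝒳' ⥤ᵇ 𝒳}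
    (ha : FibCat.IsEquivOver a) :
    FibCat.IsRepresentable (FibCat.fp (BasedFunctor.comp a F) G) ↔
      FibCat.IsRepresentable (FibCat.fp F G) :=
  haveI : (BasedFunctor.id 𝒮).toFunctor.Full := inferInstanceAs (Functor.id 𝒮.obj).Full
  haveI : (BasedFunctor.id 𝒮).toFunctor.Faithful := inferInstanceAs (Functor.id 𝒮.obj).Faithful
  isRepresentable_congr (fpMap_isEquivOver (a := a) (b := BasedFunctor.id 𝒴) (s := BasedFunctor.id 𝒮)
    (F := BasedFunctor.comp a F) (G := G) (F' := F) (G' := G) (Iso.refl _) (Iso.refl _) ha isEquivOver_id)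

lemma isRepresentable_fp_comp_right {F : 𝒳 ⥤ᵇ 𝒮} {G : 𝒴 ⥤ᵇ 𝒮} {a : 𝒳' ⥤ᵇ 𝒴}
    (ha : FibCat.IsEquivOver a) :
    FibCat.IsRepresentable (FibCat.fp F (BasedFunctor.comp a G)) ↔
      FibCat.IsRepresentable (FibCat.fp F G) :=
  haveI : (BasedFunctor.id 𝒮).toFunctor.Full := inferInstanceAs (Functor.id 𝒮.obj).Full
  haveI : (BasedFunctor.id 𝒮).toFunctor.Faithful := inferInstanceAs (Functor.id 𝒮.obj).Faithful
  isRepresentable_congr (fpMap_isEquivOver (a := BasedFunctor.id 𝒳) (b := a) (s := BasedFunctor.id 𝒮)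
    (F := F) (G := BasedFunctor.comp a G) (F' := F) (G' := G) (Iso.refl _) (Iso.refl _) isEquivOver_id ha)

lemma isRepresentable_fp_comp_target {F : 𝒳 ⥤ᵇ 𝒮} {G : 𝒴 ⥤ᵇ 𝒮} {s : 𝒮 ⥤ᵇ 𝒳'}
    [s.toFunctor.Full] [s.toFunctor.Faithful] :
    FibCat.IsRepresentable (FibCat.fp F G) ↔
      FibCat.IsRepresentable (FibCat.fp (BasedFunctor.comp F s) (BasedFunctor.comp G s)) :=
  isRepresentable_congr (fpMap_isEquivOver (a := BasedFunctor.id 𝒳) (b := BasedFunctor.id 𝒴) (s := s)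
    (F := F) (G := G) (F' := BasedFunctor.comp F s) (G' := BasedFunctor.comp G s)
    (Iso.refl _) (Iso.refl _) isEquivOver_id isEquivOver_id)

end Congr

section PasteR

variable {𝒳 : BasedCategory.{v₂, u₂} C} {𝒴 : BasedCategory.{v₃, u₃} C}
  {𝒮 : BasedCategory.{v₄, u₄} C} {𝒵 : BasedCategory.{v₅, u₅} C}
  (F : 𝒳 ⥤ᵇ 𝒮) (G : 𝒴 ⥤ᵇ 𝒮) (H : 𝒵 ⥤ᵇ 𝒴)

/-- iso part of the pasting functor -/
noncomputable def pasteRIso (Q : (FibCat.fp (FibCat.fpSnd F G) H).obj) :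
    F.obj Q.obj.fst.obj.fst ≅ G.obj (H.obj Q.obj.snd) :=
  Q.obj.fst.obj.iso ≪≫ G.toFunctor.mapIso Q.obj.iso

lemma pasteRIso_lift (Q : (FibCat.fp (FibCat.fpSnd F G) H).obj) :
    𝒮.p.IsHomLift (𝟙 (𝒳.p.obj Q.obj.fst.obj.fst)) (pasteRIso F G H Q).hom := by
  haveI := iso_lift Q.obj.fst (U := 𝒳.p.obj Q.obj.fst.obj.fst) rfl
  haveI := iso_lift Q (U := 𝒳.p.obj Q.obj.fst.obj.fst) rfl
  exact inferInstanceAs (𝒮.p.IsHomLift (𝟙 _) (Q.obj.fst.obj.iso.hom ≫ G.map Q.obj.iso.hom))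

/-- `(𝒳 ×_𝒮 𝒴) ×_𝒴 𝒵 ⟶ 𝒳 ×_𝒮 𝒵` -/
noncomputable def pasteR :
    FibCat.fp (FibCat.fpSnd F G) H ⥤ᵇ FibCat.fp F (BasedFunctor.comp H G) :=
  FibCat.fpLift (BasedFunctor.comp (FibCat.fpFst _ _) (FibCat.fpFst F G)) (FibCat.fpSnd _ _)
    (BasedNatIso.mkNatIso
      (NatIso.ofComponents (fun Q => pasteRIso F G H Q) (fun {Q Q'} φ => by
        have h1 := fp_w φ.hom.fst
        have h2 := congrArg G.map (fp_w φ)
        simp only [Functor.map_comp] at h2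
        show F.map φ.hom.fst.hom.fst ≫ Q'.obj.fst.obj.iso.hom ≫ G.map Q'.obj.iso.hom =
          (Q.obj.fst.obj.iso.hom ≫ G.map Q.obj.iso.hom) ≫ G.map (H.map φ.hom.snd)
        rw [reassoc_of% h1]
        change Q.obj.fst.obj.iso.hom ≫ G.map φ.hom.fst.hom.snd ≫ G.map Q'.obj.iso.hom = _
        rw [Category.assoc, ← h2]
        rfl))
      (fun Q => pasteRIso_lift F G H Q))

lemma pasteR_isEquivOver : FibCat.IsEquivOver (pasteR F G H) := by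
  have : (pasteR F G H).toFunctor.Faithful := ⟨fun {Q Q' φ φ'} h => by
    have h1 : φ.hom.fst.hom.fst = φ'.hom.fst.hom.fst := congrArg (fun t => t.hom.fst) h
    have h2 : φ.hom.snd = φ'.hom.snd := congrArg (fun t => t.hom.snd) h
    refine fp_hom_ext (fp_hom_ext h1 ?_) h2
    have e := fp_w φ
    rw [h2, ← fp_w φ'] at e
    exact (cancel_mono Q'.obj.iso.hom).1 e⟩
  have : (pasteR F G H).toFunctor.Full := ⟨fun {Q Q'} φ => by
    let m : Q.obj.fst.obj.snd ⟶ Q'.obj.fst.obj.snd := Q.obj.iso.hom ≫ H.map φ.hom.snd ≫ Q'.obj.iso.inv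
    have e : F.map φ.hom.fst ≫ Q'.obj.fst.obj.iso.hom ≫ G.map Q'.obj.iso.hom =
        (Q.obj.fst.obj.iso.hom ≫ G.map Q.obj.iso.hom) ≫ G.map (H.map φ.hom.snd) := fp_w φ
    have w : F.map φ.hom.fst ≫ Q'.obj.fst.obj.iso.hom = Q.obj.fst.obj.iso.hom ≫ G.map m := by
      rw [← cancel_mono (G.toFunctor.mapIso Q'.obj.iso).hom, Category.assoc]
      refine e.trans ?_
      simp [m, ← Functor.map_comp]
    exact ⟨fpHom (fpHom φ.hom.fst m w) φ.hom.snd (by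
      show m ≫ Q'.obj.iso.hom = Q.obj.iso.hom ≫ H.map φ.hom.snd
      simp [m]), fp_hom_ext rfl rfl⟩⟩
  refine isEquivOver_of _ fun η => ?_
  let P : (FibCat.fp F G).obj := fpObj η.obj.fst (H.obj η.obj.snd) η.obj.iso rfl (iso_lift η rfl)
  have hP : (FibCat.fpSnd F G).toFunctor.obj P = H.obj η.obj.snd := rfl
  let Q : (FibCat.fp (FibCat.fpSnd F G) H).obj :=
    fpObj P η.obj.snd (Iso.refl (H.obj η.obj.snd)) (U := (FibCat.fp F G).p.obj P) rfl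
      (IsHomLift.id ((H.w_obj _).trans (snd_p η)))
  refine ⟨Q, fpIsoMk (Iso.refl _) (Iso.refl _) ?_, ?_⟩
  · show F.map (𝟙 _) ≫ η.obj.iso.hom = (η.obj.iso.hom ≫ G.map (𝟙 _)) ≫ G.map (H.map (𝟙 _))
    simp
    exact (Category.comp_id _).symm
  · exact @isHomLift_of_fst _ _ _ _ _ _ _ _ _ _ _ _ _ (IsHomLift.id (fst_p η))

end PasteR

section PasteL

variable {𝒳 : BasedCategory.{v₂, u₂} C} {𝒴 : BasedCategory.{v₃, u₃} C}
  {𝒮 : BasedCategory.{v₄, u₄} C} {𝒵 : BasedCategory.{v₅, u₅} C}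
  (F : 𝒳 ⥤ᵇ 𝒴) (G : 𝒴 ⥤ᵇ 𝒮) (H : 𝒵 ⥤ᵇ 𝒮)

/-- iso part of the pasting functor -/
noncomputable def pasteLIso (Q : (FibCat.fp F (FibCat.fpFst G H)).obj) :
    G.obj (F.obj Q.obj.fst) ≅ H.obj Q.obj.snd.obj.snd :=
  G.toFunctor.mapIso Q.obj.iso ≪≫ Q.obj.snd.obj.iso

lemma pasteLIso_lift (Q : (FibCat.fp F (FibCat.fpFst G H)).obj) :
    𝒮.p.IsHomLift (𝟙 (𝒳.p.obj Q.obj.fst)) (pasteLIso F G H Q).hom := by
  haveI := iso_lift Q (U := 𝒳.p.obj Q.obj.fst) rfl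
  haveI := iso_lift Q.obj.snd (U := 𝒳.p.obj Q.obj.fst) (snd_p Q)
  exact inferInstanceAs (𝒮.p.IsHomLift (𝟙 _) (G.map Q.obj.iso.hom ≫ Q.obj.snd.obj.iso.hom))

/-- `𝒳 ×_𝒴 (𝒴 ×_𝒮 𝒵) ⟶ 𝒳 ×_𝒮 𝒵` -/
noncomputable def pasteL :
    FibCat.fp F (FibCat.fpFst G H) ⥤ᵇ FibCat.fp (BasedFunctor.comp F G) H :=
  FibCat.fpLift (FibCat.fpFst _ _) (BasedFunctor.comp (FibCat.fpSnd _ _) (FibCat.fpSnd G H))
    (BasedNatIso.mkNatIso
      (NatIso.ofComponents (fun Q => pasteLIso F G H Q) (fun {Q Q'} φ => by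
        have h1 := congrArg G.map (fp_w φ)
        simp only [Functor.map_comp] at h1
        have h2 : G.map φ.hom.snd.hom.fst ≫ Q'.obj.snd.obj.iso.hom =
            Q.obj.snd.obj.iso.hom ≫ H.map φ.hom.snd.hom.snd := fp_w φ.hom.snd
        show G.map (F.map φ.hom.fst) ≫ G.map Q'.obj.iso.hom ≫ Q'.obj.snd.obj.iso.hom =
          (G.map Q.obj.iso.hom ≫ Q.obj.snd.obj.iso.hom) ≫ H.map φ.hom.snd.hom.snd
        rw [reassoc_of% h1]
        change G.map Q.obj.iso.hom ≫ G.map φ.hom.snd.hom.fst ≫ Q'.obj.snd.obj.iso.hom = _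
        rw [h2, Category.assoc]))
      (fun Q => pasteLIso_lift F G H Q))

lemma pasteL_isEquivOver : FibCat.IsEquivOver (pasteL F G H) := by
  have : (pasteL F G H).toFunctor.Faithful := ⟨fun {Q Q' φ φ'} h => by
    have h1 : φ.hom.fst = φ'.hom.fst := congrArg (fun t => t.hom.fst) h
    have h2 : φ.hom.snd.hom.snd = φ'.hom.snd.hom.snd := congrArg (fun t => t.hom.snd) h
    refine fp_hom_ext h1 (fp_hom_ext ?_ h2)
    have e := fp_w φ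
    rw [h1, fp_w φ'] at e
    exact ((cancel_epi Q.obj.iso.hom).1 e).symm⟩
  have : (pasteL F G H).toFunctor.Full := ⟨fun {Q Q'} φ => by
    let m : Q.obj.snd.obj.fst ⟶ Q'.obj.snd.obj.fst := Q.obj.iso.inv ≫ F.map φ.hom.fst ≫ Q'.obj.iso.hom
    have e : G.map (F.map φ.hom.fst) ≫ G.map Q'.obj.iso.hom ≫ Q'.obj.snd.obj.iso.hom =
        (G.map Q.obj.iso.hom ≫ Q.obj.snd.obj.iso.hom) ≫ H.map φ.hom.snd := fp_w φ
    have w : G.map m ≫ Q'.obj.snd.obj.iso.hom = Q.obj.snd.obj.iso.hom ≫ H.map φ.hom.snd := by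
      rw [← cancel_epi (G.toFunctor.mapIso Q.obj.iso).hom]
      refine Eq.trans ?_ (e.trans (Category.assoc _ _ _))
      have hm : G.map Q.obj.iso.hom ≫ G.map m = G.map (F.map φ.hom.fst) ≫ G.map Q'.obj.iso.hom := by
        rw [← Functor.map_comp, ← Functor.map_comp]; simp [m]
      exact (reassoc_of% hm) _
    exact ⟨fpHom φ.hom.fst (fpHom m φ.hom.snd w) (by
      show F.map φ.hom.fst ≫ Q'.obj.iso.hom = Q.obj.iso.hom ≫ m
      simp [m]), fp_hom_ext rfl rfl⟩⟩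
  refine isEquivOver_of _ fun η => ?_
  let P : (FibCat.fp G H).obj :=
    fpObj (F.obj η.obj.fst) η.obj.snd η.obj.iso (F.w_obj _) (iso_lift η rfl)
  let Q : (FibCat.fp F (FibCat.fpFst G H)).obj :=
    fpObj η.obj.fst P (Iso.refl (F.obj η.obj.fst)) (U := 𝒳.p.obj η.obj.fst) rfl
      (IsHomLift.id (F.w_obj _))
  refine ⟨Q, fpIsoMk (Iso.refl _) (Iso.refl _) ?_, ?_⟩
  · show G.map (F.map (𝟙 _)) ≫ η.obj.iso.hom = (G.map (𝟙 _) ≫ η.obj.iso.hom) ≫ H.map (𝟙 _)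
    simp
  · exact @isHomLift_of_fst _ _ _ _ _ _ _ _ _ _ _ _ _ (IsHomLift.id (fst_p η))

end PasteL

section Diag

variable {𝒜 : BasedCategory.{v₂, u₂} C} {ℬ : BasedCategory.{v₃, u₃} C} {𝒴 : BasedCategory.{v₄, u₄} C}
  {𝒵 : BasedCategory.{v₅, u₅} C} {g : 𝒴 ⥤ᵇ 𝒵}
  {G : 𝒜 ⥤ᵇ 𝒴} {F : ℬ ⥤ᵇ 𝒴} {a : 𝒜 ⥤ᵇ 𝒵} {b : ℬ ⥤ᵇ 𝒵}
  (ea : BasedFunctor.comp G g ≅ a) (eb : BasedFunctor.comp F g ≅ b)

/-- The pair `(G, F)` as a functor into `𝒴 ×_𝒵 𝒴`. -/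
noncomputable def pair : FibCat.fp a b ⥤ᵇ FibCat.fp g g :=
  fpMap (a := G) (b := F) (s := BasedFunctor.id 𝒵) (F := a) (G := b) ea eb

/-- iso part of `diagFun` -/
noncomputable def diagFunIso (Q : (FibCat.fp (pair ea eb) (FibCat.diag g)).obj) :
    G.obj Q.obj.fst.obj.fst ≅ F.obj Q.obj.fst.obj.snd :=
  (FibCat.fpFst g g).toFunctor.mapIso Q.obj.iso ≪≫ ((FibCat.fpSnd g g).toFunctor.mapIso Q.obj.iso).symm

lemma diagFunIso_lift (Q : (FibCat.fp (pair ea eb) (FibCat.diag g)).obj) :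
    𝒴.p.IsHomLift (𝟙 (𝒜.p.obj Q.obj.fst.obj.fst)) (diagFunIso ea eb Q).hom := by
  haveI := iso_lift Q (U := 𝒜.p.obj Q.obj.fst.obj.fst) rfl
  haveI : 𝒴.p.IsHomLift (𝟙 (𝒜.p.obj Q.obj.fst.obj.fst))
      ((FibCat.fpFst g g).toFunctor.mapIso Q.obj.iso).hom :=
    BasedFunctor.preserves_isHomLift (FibCat.fpFst g g) _ Q.obj.iso.hom
  haveI : 𝒴.p.IsHomLift (𝟙 (𝒜.p.obj Q.obj.fst.obj.fst))
      ((FibCat.fpSnd g g).toFunctor.mapIso Q.obj.iso).hom :=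
    BasedFunctor.preserves_isHomLift (FibCat.fpSnd g g) _ Q.obj.iso.hom
  exact inferInstanceAs (𝒴.p.IsHomLift (𝟙 _) (((FibCat.fpFst g g).toFunctor.mapIso Q.obj.iso).hom ≫
    ((FibCat.fpSnd g g).toFunctor.mapIso Q.obj.iso).inv))

/-- `(𝒜 ×_𝒵 ℬ) ×_{𝒴 ×_𝒵 𝒴} 𝒴 ⟶ 𝒜 ×_𝒴 ℬ` -/
noncomputable def diagFun : FibCat.fp (pair ea eb) (FibCat.diag g) ⥤ᵇ FibCat.fp G F :=
  FibCat.fpLift (BasedFunctor.comp (FibCat.fpFst _ _) (FibCat.fpFst a b))
    (BasedFunctor.comp (FibCat.fpFst _ _) (FibCat.fpSnd a b))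
    (BasedNatIso.mkNatIso
      (NatIso.ofComponents (fun Q => diagFunIso ea eb Q) (fun {Q Q'} φ => by
        have h1 : G.map φ.hom.fst.hom.fst ≫ Q'.obj.iso.hom.hom.fst = Q.obj.iso.hom.hom.fst ≫ φ.hom.snd :=
          congrArg (fun t => t.hom.fst) (fp_w φ)
        have h2 : F.map φ.hom.fst.hom.snd ≫ Q'.obj.iso.hom.hom.snd = Q.obj.iso.hom.hom.snd ≫ φ.hom.snd :=
          congrArg (fun t => t.hom.snd) (fp_w φ)
        let d := (FibCat.fpSnd g g).toFunctor.mapIso Q.obj.iso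
        let d' := (FibCat.fpSnd g g).toFunctor.mapIso Q'.obj.iso
        show G.map φ.hom.fst.hom.fst ≫ Q'.obj.iso.hom.hom.fst ≫ d'.inv =
          (Q.obj.iso.hom.hom.fst ≫ d.inv) ≫ F.map φ.hom.fst.hom.snd
        rw [← Category.assoc, h1, Category.assoc, Category.assoc]
        congr 1
        rw [Iso.eq_inv_comp, ← Category.assoc, Iso.comp_inv_eq]
        exact h2.symm))
      (fun Q => diagFunIso_lift ea eb Q))

lemma diagFun_isEquivOver : FibCat.IsEquivOver (diagFun ea eb) := by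
  let F1 := fun Q : (FibCat.fp (pair ea eb) (FibCat.diag g)).obj =>
    (FibCat.fpFst g g).toFunctor.mapIso Q.obj.iso
  let F2 := fun Q : (FibCat.fp (pair ea eb) (FibCat.diag g)).obj =>
    (FibCat.fpSnd g g).toFunctor.mapIso Q.obj.iso
  -- the isomorphism of an object of `𝒜 ×_𝒵 ℬ` is determined by the one in `𝒴 ×_𝒵 𝒴`
  have key : ∀ Q : (FibCat.fp (pair ea eb) (FibCat.diag g)).obj,
      Q.obj.fst.obj.iso.hom = (appIso ea Q.obj.fst.obj.fst).inv ≫ g.map (diagFunIso ea eb Q).hom ≫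
        (appIso eb Q.obj.fst.obj.snd).hom := fun Q => by
    have e : g.map Q.obj.iso.hom.hom.fst ≫ 𝟙 _ =
        ((appIso ea Q.obj.fst.obj.fst).hom ≫ Q.obj.fst.obj.iso.hom ≫
          (appIso eb Q.obj.fst.obj.snd).inv) ≫ g.map Q.obj.iso.hom.hom.snd := fp_w Q.obj.iso.hom
    rw [Category.comp_id] at e
    have e' : g.map (diagFunIso ea eb Q).hom = g.map Q.obj.iso.hom.hom.fst ≫ g.map (F2 Q).inv :=
      g.toFunctor.map_comp _ _
    rw [e', e]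
    have : g.map Q.obj.iso.hom.hom.snd ≫ g.map (F2 Q).inv = 𝟙 _ := by
      rw [← Functor.map_comp]
      exact (congrArg g.map (F2 Q).hom_inv_id).trans (g.toFunctor.map_id _)
    simp [this]
    erw [Category.id_comp, Iso.inv_hom_id, Category.comp_id]
  have : (diagFun ea eb).toFunctor.Faithful := ⟨fun {Q Q' φ φ'} h => by
    have h1 : φ.hom.fst.hom.fst = φ'.hom.fst.hom.fst := congrArg (fun t => t.hom.fst) h
    have h2 : φ.hom.fst.hom.snd = φ'.hom.fst.hom.snd := congrArg (fun t => t.hom.snd) h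
    have h3 : φ.hom.fst = φ'.hom.fst := fp_hom_ext h1 h2
    refine fp_hom_ext h3 ?_
    have e : G.map φ.hom.fst.hom.fst ≫ Q'.obj.iso.hom.hom.fst = Q.obj.iso.hom.hom.fst ≫ φ.hom.snd :=
      congrArg (fun t => t.hom.fst) (fp_w φ)
    have e' : G.map φ'.hom.fst.hom.fst ≫ Q'.obj.iso.hom.hom.fst = Q.obj.iso.hom.hom.fst ≫ φ'.hom.snd :=
      congrArg (fun t => t.hom.fst) (fp_w φ')
    rw [h1, e'] at e
    exact ((cancel_epi (F1 Q).hom).1 e).symm⟩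
  have : (diagFun ea eb).toFunctor.Full := ⟨fun {Q Q'} φ => by
    have e : G.map φ.hom.fst ≫ (diagFunIso ea eb Q').hom = (diagFunIso ea eb Q).hom ≫ F.map φ.hom.snd :=
      fp_w φ
    have wP : a.map φ.hom.fst ≫ Q'.obj.fst.obj.iso.hom = Q.obj.fst.obj.iso.hom ≫ b.map φ.hom.snd := by
      have n1 : g.map (G.map φ.hom.fst) ≫ (appIso ea Q'.obj.fst.obj.fst).hom =
          (appIso ea Q.obj.fst.obj.fst).hom ≫ a.map φ.hom.fst :=
        ea.hom.toNatTrans.naturality φ.hom.fst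
      have n2 : g.map (F.map φ.hom.snd) ≫ (appIso eb Q'.obj.fst.obj.snd).hom =
          (appIso eb Q.obj.fst.obj.snd).hom ≫ b.map φ.hom.snd :=
        eb.hom.toNatTrans.naturality φ.hom.snd
      have n3 := congrArg g.map e
      simp only [Functor.map_comp] at n3
      rw [key, key, ← cancel_epi (appIso ea Q.obj.fst.obj.fst).hom, ← reassoc_of% n1]
      simp only [Category.assoc, Iso.hom_inv_id_assoc]
      rw [reassoc_of% n3, n2]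
    let m : Q.obj.snd ⟶ Q'.obj.snd := (F1 Q).inv ≫ G.map φ.hom.fst ≫ (F1 Q').hom
    refine ⟨fpHom (fpHom φ.hom.fst φ.hom.snd wP) m (fp_hom_ext ?_ ?_), fp_hom_ext rfl rfl⟩
    · show G.map φ.hom.fst ≫ (F1 Q').hom = (F1 Q).hom ≫ m
      simp [m]
    · show F.map φ.hom.snd ≫ (F2 Q').hom = (F2 Q).hom ≫ m
      have e2 : G.map φ.hom.fst ≫ (F1 Q').hom ≫ (F2 Q').inv =
          ((F1 Q).hom ≫ (F2 Q).inv) ≫ F.map φ.hom.snd := e
      rw [← cancel_mono (F2 Q').inv, ← cancel_epi (F2 Q).inv]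
      simp only [Category.assoc, Iso.hom_inv_id, Category.comp_id, Iso.inv_hom_id_assoc, m]
      rw [e2]
      simp⟩
  refine isEquivOver_of _ fun η => ?_
  have hU : 𝒜.p.obj η.obj.fst = (FibCat.fp G F).p.obj η := rfl
  haveI := iso_lift η hU
  haveI := isHomLift_appIso_hom ea η.obj.fst hU
  haveI := isHomLift_appIso_hom eb η.obj.snd (snd_p η)
  let d : a.obj η.obj.fst ≅ b.obj η.obj.snd :=
    (appIso ea η.obj.fst).symm ≪≫ g.toFunctor.mapIso η.obj.iso ≪≫ appIso eb η.obj.snd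
  have hd : 𝒵.p.IsHomLift (𝟙 ((FibCat.fp G F).p.obj η)) d.hom :=
    inferInstanceAs (𝒵.p.IsHomLift (𝟙 _) ((appIso ea η.obj.fst).inv ≫ g.map η.obj.iso.hom ≫
      (appIso eb η.obj.snd).hom))
  let P : (FibCat.fp a b).obj := fpObj η.obj.fst η.obj.snd d hU hd
  let i : (pair ea eb).obj P ≅ (FibCat.diag g).obj (F.obj η.obj.snd) :=
    fpIsoMk η.obj.iso (Iso.refl _) (by
      show g.map η.obj.iso.hom ≫ 𝟙 _ = ((appIso ea η.obj.fst).hom ≫ d.hom ≫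
          (appIso eb η.obj.snd).inv) ≫ g.map (𝟙 _)
      simp [d]
      exact (Category.comp_id _).symm)
  have hi : (FibCat.fp g g).p.IsHomLift (𝟙 ((FibCat.fp G F).p.obj η)) i.hom :=
    @isHomLift_of_fst _ _ _ _ _ _ _ _ _ _ _ _ _ (iso_lift η hU)
  refine ⟨fpObj P (F.obj η.obj.snd) i (U := (FibCat.fp G F).p.obj η) rfl hi,
    fpIsoMk (Iso.refl _) (Iso.refl _) ?_, ?_⟩
  · show G.map (𝟙 _) ≫ η.obj.iso.hom = (η.obj.iso.hom ≫ 𝟙 _) ≫ F.map (𝟙 _)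
    simp
  · exact @isHomLift_of_fst _ _ _ _ _ _ _ _ _ _ _ _ _ (IsHomLift.id (fst_p η))

end Diag

end Groth.Agent.FC16
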