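import Groth.Agent.Lib.FC16.Fiber

/-! Categories fibred in setoids. -/

universe v₂ u₂ v u

open CategoryTheory CategoryTheory.Functor

set_option linter.style.haveILetI false

namespace Groth.Agent.FC16

variable {C : Type u} [Category.{v} C] {𝒳 : Type u₂} [Category.{v₂} 𝒳] {p : 𝒳 ⥤ C}

lemma hom_ext_of_thin (hU : ∀ U : C, Quiver.IsThin (p.Fiber U)) {U : C} {a b : 𝒳} (φ ψ : a ⟶ b)
    [hφ : p.IsHomLift (𝟙 U) φ] [hψ : p.IsHomLift (𝟙 U) ψ] : φ = ψ :=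
  congrArg Subtype.val (@Subsingleton.elim _
    (hU U ⟨a, IsHomLift.domain_eq p (𝟙 U) φ⟩ ⟨b, IsHomLift.codomain_eq p (𝟙 U) φ⟩) ⟨φ, hφ⟩ ⟨ψ, hψ⟩)

lemma hom_ext_of_isFibSetoid (h : FibCat.IsFibSetoid p) {R S : C} (f : R ⟶ S) {a b : 𝒳} (φ ψ : a ⟶ b)
    [p.IsHomLift f φ] [p.IsHomLift f ψ] : φ = ψ := by
  haveI := isStronglyCartesian h.1 f ψ
  haveI : p.IsHomLift (𝟙 R) (𝟙 a) := IsHomLift.id (IsHomLift.domain_eq p f φ)
  have := hom_ext_of_thin h.2 (U := R) (IsCartesian.map p f ψ φ) (𝟙 a)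
  have e := IsCartesian.fac p f ψ φ
  rwa [this, Category.id_comp, eq_comm] at e

lemma isIso_of_vertical (h : FibCat.IsFibGrpd p) {U : C} {a b : 𝒳} (φ : a ⟶ b)
    [p.IsHomLift (𝟙 U) φ] : IsIso φ :=
  isIso_of_isHomLift h (𝟙 U) φ

end Groth.Agent.FC16
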