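import Groth.Agent.Lib.FC16.Yoneda

/-! 2-fibre products over the base. -/

universe v₇ u₇ v₆ u₆ v₅ u₅ v₄ u₄ v₃ u₃ v₂ u₂ v u

open CategoryTheory CategoryTheory.Functor

set_option linter.style.haveILetI false
set_option linter.unusedSimpArgs false
set_option backward.isDefEq.respectTransparency false
set_option backward.isDefEq.respectTransparency.types false

namespace Groth.Agent.FC16

variable {C : Type u} [Category.{v} C] {𝒳 : BasedCategory.{v₂, u₂} C} {𝒴 : BasedCategory.{v₃, u₃} C}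
  {𝒮 : BasedCategory.{v₄, u₄} C}

section Basic

variable {F : 𝒳 ⥤ᵇ 𝒮} {G : 𝒴 ⥤ᵇ 𝒮}

@[reassoc (attr := simp)]
lemma fp_comp_fst {x y z : (FibCat.fp F G).obj} (φ : x ⟶ y) (ψ : y ⟶ z) :
    (φ ≫ ψ).hom.fst = φ.hom.fst ≫ ψ.hom.fst := rfl

@[reassoc (attr := simp)]
lemma fp_comp_snd {x y z : (FibCat.fp F G).obj} (φ : x ⟶ y) (ψ : y ⟶ z) :
    (φ ≫ ψ).hom.snd = φ.hom.snd ≫ ψ.hom.snd := rfl

@[simp] lemma fp_id_fst (x : (FibCat.fp F G).obj) : (𝟙 x : x ⟶ x).hom.fst = 𝟙 _ := rfl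

@[simp] lemma fp_id_snd (x : (FibCat.fp F G).obj) : (𝟙 x : x ⟶ x).hom.snd = 𝟙 _ := rfl

/-- object of the fibre product -/
def fpObj (x : 𝒳.obj) (y : 𝒴.obj) (e : F.obj x ≅ G.obj y) {U : C} (hx : 𝒳.p.obj x = U)
    (he : 𝒮.p.IsHomLift (𝟙 U) e.hom) : (FibCat.fp F G).obj :=
  ⟨{ fst := x, snd := y, iso := e }, by subst hx; exact he⟩

@[simp] lemma fpObj_fst (x : 𝒳.obj) (y : 𝒴.obj) (e : F.obj x ≅ G.obj y) {U : C} (hx : 𝒳.p.obj x = U)
    (he : 𝒮.p.IsHomLift (𝟙 U) e.hom) : (fpObj x y e hx he).obj.fst = x := rfl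

@[simp] lemma fpObj_snd (x : 𝒳.obj) (y : 𝒴.obj) (e : F.obj x ≅ G.obj y) {U : C} (hx : 𝒳.p.obj x = U)
    (he : 𝒮.p.IsHomLift (𝟙 U) e.hom) : (fpObj x y e hx he).obj.snd = y := rfl

@[simp] lemma fpObj_iso (x : 𝒳.obj) (y : 𝒴.obj) (e : F.obj x ≅ G.obj y) {U : C} (hx : 𝒳.p.obj x = U)
    (he : 𝒮.p.IsHomLift (𝟙 U) e.hom) : (fpObj x y e hx he).obj.iso = e := rfl

/-- morphism of the fibre product -/
def fpHom {x y : (FibCat.fp F G).obj} (a : x.obj.fst ⟶ y.obj.fst) (b : x.obj.snd ⟶ y.obj.snd)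
    (w : F.map a ≫ y.obj.iso.hom = x.obj.iso.hom ≫ G.map b) : x ⟶ y :=
  ObjectProperty.homMk { fst := a, snd := b, w := w }

@[simp] lemma fpHom_fst {x y : (FibCat.fp F G).obj} (a : x.obj.fst ⟶ y.obj.fst) (b : x.obj.snd ⟶ y.obj.snd)
    (w : F.map a ≫ y.obj.iso.hom = x.obj.iso.hom ≫ G.map b) : (fpHom a b w).hom.fst = a := rfl

@[simp] lemma fpHom_snd {x y : (FibCat.fp F G).obj} (a : x.obj.fst ⟶ y.obj.fst) (b : x.obj.snd ⟶ y.obj.snd)
    (w : F.map a ≫ y.obj.iso.hom = x.obj.iso.hom ≫ G.map b) : (fpHom a b w).hom.snd = b := rfl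

lemma fp_hom_ext {x y : (FibCat.fp F G).obj} {φ ψ : x ⟶ y} (h1 : φ.hom.fst = ψ.hom.fst)
    (h2 : φ.hom.snd = ψ.hom.snd) : φ = ψ :=
  ObjectProperty.hom_ext _ (Limits.CategoricalPullback.hom_ext h1 h2)

lemma fp_w {x y : (FibCat.fp F G).obj} (φ : x ⟶ y) :
    F.map φ.hom.fst ≫ y.obj.iso.hom = x.obj.iso.hom ≫ G.map φ.hom.snd := φ.hom.w

/-- isomorphism of the fibre product -/
def fpIsoMk {x y : (FibCat.fp F G).obj} (a : x.obj.fst ≅ y.obj.fst) (b : x.obj.snd ≅ y.obj.snd)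
    (w : F.map a.hom ≫ y.obj.iso.hom = x.obj.iso.hom ≫ G.map b.hom) : x ≅ y where
  hom := fpHom a.hom b.hom w
  inv := fpHom a.inv b.inv (by
    show (F.toFunctor.mapIso a).inv ≫ x.obj.iso.hom = y.obj.iso.hom ≫ (G.toFunctor.mapIso b).inv
    rw [Iso.inv_comp_eq, ← Category.assoc, Iso.eq_comp_inv]
    exact w.symm)
  hom_inv_id := fp_hom_ext a.hom_inv_id b.hom_inv_id
  inv_hom_id := fp_hom_ext a.inv_hom_id b.inv_hom_id

@[simp] lemma fpIsoMk_hom {x y : (FibCat.fp F G).obj} (a : x.obj.fst ≅ y.obj.fst)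
    (b : x.obj.snd ≅ y.obj.snd) (w : F.map a.hom ≫ y.obj.iso.hom = x.obj.iso.hom ≫ G.map b.hom) :
    (fpIsoMk a b w).hom = fpHom a.hom b.hom w := rfl

lemma isHomLift_fst {x y : (FibCat.fp F G).obj} {R S : C} (f : R ⟶ S) (φ : x ⟶ y)
    [(FibCat.fp F G).p.IsHomLift f φ] : 𝒳.p.IsHomLift f φ.hom.fst :=
  BasedFunctor.preserves_isHomLift (FibCat.fpFst F G) f φ

lemma isHomLift_snd {x y : (FibCat.fp F G).obj} {R S : C} (f : R ⟶ S) (φ : x ⟶ y)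
    [(FibCat.fp F G).p.IsHomLift f φ] : 𝒴.p.IsHomLift f φ.hom.snd :=
  BasedFunctor.preserves_isHomLift (FibCat.fpSnd F G) f φ

lemma isHomLift_of_fst {x y : (FibCat.fp F G).obj} {R S : C} (f : R ⟶ S) (φ : x ⟶ y)
    [h : 𝒳.p.IsHomLift f φ.hom.fst] : (FibCat.fp F G).p.IsHomLift f φ :=
  (BasedFunctor.isHomLift_iff (FibCat.fpFst F G) f φ).1 h

lemma isHomLift_of_snd {x y : (FibCat.fp F G).obj} {R S : C} (f : R ⟶ S) (φ : x ⟶ y)
    [h : 𝒴.p.IsHomLift f φ.hom.snd] : (FibCat.fp F G).p.IsHomLift f φ :=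
  (BasedFunctor.isHomLift_iff (FibCat.fpSnd F G) f φ).1 h

lemma fst_p (x : (FibCat.fp F G).obj) : 𝒳.p.obj x.obj.fst = (FibCat.fp F G).p.obj x := rfl

lemma snd_p (x : (FibCat.fp F G).obj) : 𝒴.p.obj x.obj.snd = (FibCat.fp F G).p.obj x :=
  (FibCat.fpSnd F G).w_obj x

lemma iso_lift (x : (FibCat.fp F G).obj) {U : C} (hx : 𝒳.p.obj x.obj.fst = U) :
    𝒮.p.IsHomLift (𝟙 U) x.obj.iso.hom := by
  subst hx; exact x.property

/-- A morphism with strongly cartesian components, the second one staying strongly cartesian in the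
target, is strongly cartesian. -/
lemma fp_isStronglyCartesian {x y : (FibCat.fp F G).obj} {R S : C} (f : R ⟶ S) (φ : x ⟶ y)
    (h1 : 𝒳.p.IsStronglyCartesian f φ.hom.fst) (h2 : 𝒴.p.IsStronglyCartesian f φ.hom.snd)
    (h3 : 𝒮.p.IsStronglyCartesian f (G.map φ.hom.snd)) :
    (FibCat.fp F G).p.IsStronglyCartesian f φ where
  toIsHomLift := isHomLift_of_fst f φ
  universal_property' := fun {z} g ψ hψ => by
    haveI := hψ
    haveI := isHomLift_fst (g ≫ f) ψ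
    haveI := isHomLift_snd (g ≫ f) ψ
    let a := IsStronglyCartesian.map 𝒳.p f φ.hom.fst (g := g) rfl ψ.hom.fst
    let b := IsStronglyCartesian.map 𝒴.p f φ.hom.snd (g := g) rfl ψ.hom.snd
    haveI := iso_lift z (U := (FibCat.fp F G).p.obj z) rfl
    haveI := iso_lift x (U := R) (IsHomLift.domain_eq 𝒳.p f φ.hom.fst)
    have fa : a ≫ φ.hom.fst = ψ.hom.fst := IsStronglyCartesian.fac ..
    have fb : b ≫ φ.hom.snd = ψ.hom.snd := IsStronglyCartesian.fac ..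
    have w : F.map a ≫ x.obj.iso.hom = z.obj.iso.hom ≫ G.map b := by
      apply IsStronglyCartesian.ext 𝒮.p f (G.map φ.hom.snd) g
      simp only [Category.assoc, ← G.map_comp, fb]
      rw [← fp_w φ, ← F.map_comp_assoc, fa]
      exact fp_w ψ
    refine ⟨fpHom a b w, ⟨?_, fp_hom_ext fa fb⟩, ?_⟩
    · haveI : 𝒳.p.IsHomLift g (fpHom a b w).hom.fst := inferInstanceAs (𝒳.p.IsHomLift g a)
      exact isHomLift_of_fst g (fpHom a b w)
    · rintro χ ⟨hχ, hχ'⟩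
      haveI := hχ
      haveI := isHomLift_fst g χ
      haveI := isHomLift_snd g χ
      apply fp_hom_ext
      · exact IsStronglyCartesian.map_uniq 𝒳.p f φ.hom.fst (rfl : g ≫ f = g ≫ f) ψ.hom.fst χ.hom.fst (by rw [← hχ']; rfl)
      · exact IsStronglyCartesian.map_uniq 𝒴.p f φ.hom.snd (rfl : g ≫ f = g ≫ f) ψ.hom.snd χ.hom.snd (by rw [← hχ']; rfl)

lemma fp_exists_lift (hF : PresCart F) (hG : PresCart G) [𝒳.p.IsFibered] [𝒴.p.IsFibered]
    (y : (FibCat.fp F G).obj) {R : C} (f : R ⟶ (FibCat.fp F G).p.obj y) :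
    ∃ (x : (FibCat.fp F G).obj) (φ : x ⟶ y), (FibCat.fp F G).p.IsStronglyCartesian f φ := by
  obtain ⟨a', a, ha⟩ := exists_isStronglyCartesian (p := 𝒳.p) (fst_p y) f
  obtain ⟨b', b, hb⟩ := exists_isStronglyCartesian (p := 𝒴.p) (snd_p y) f
  haveI := iso_lift y (fst_p y)
  haveI := hF f a ha
  haveI := hG f b hb
  haveI : 𝒮.p.IsCartesian f (F.map a ≫ y.obj.iso.hom) := inferInstance
  let e := IsCartesian.domainUniqueUpToIso 𝒮.p f (G.map b) (F.map a ≫ y.obj.iso.hom)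
  have he : 𝒮.p.IsHomLift (𝟙 R) e.hom :=
    IsCartesian.map_isHomLift 𝒮.p f (G.map b) (F.map a ≫ y.obj.iso.hom)
  have fe : e.hom ≫ G.map b = F.map a ≫ y.obj.iso.hom :=
    IsCartesian.fac 𝒮.p f (G.map b) (F.map a ≫ y.obj.iso.hom)
  exact ⟨fpObj a' b' e (IsHomLift.domain_eq 𝒳.p f a) he,
    fpHom a b fe.symm, fp_isStronglyCartesian f _ ha hb (hG f b hb)⟩

lemma fp_isFibered (hF : PresCart F) (hG : PresCart G) [𝒳.p.IsFibered] [𝒴.p.IsFibered] :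
    (FibCat.fp F G).p.IsFibered :=
  IsFibered.of_exists_isStronglyCartesian fun y _ f => fp_exists_lift hF hG y f

lemma fp_isFibGrpd (h𝒳 : FibCat.IsFibGrpd 𝒳.p) (h𝒴 : FibCat.IsFibGrpd 𝒴.p)
    (h𝒮 : FibCat.IsFibGrpd 𝒮.p) (F : 𝒳 ⥤ᵇ 𝒮) (G : 𝒴 ⥤ᵇ 𝒮) :
    FibCat.IsFibGrpd (FibCat.fp F G).p where
  exists_lift {y R} f := by
    haveI := isFibered h𝒳; haveI := isFibered h𝒴
    obtain ⟨x, φ, hφ⟩ := fp_exists_lift (presCart_of_isFibGrpd h𝒮 F) (presCart_of_isFibGrpd h𝒮 G) y f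
    exact ⟨x, φ, hφ.toIsHomLift⟩
  isStronglyCartesian {x y} φ := by
    haveI := isHomLift_fst ((FibCat.fp F G).p.map φ) φ
    haveI := isHomLift_snd ((FibCat.fp F G).p.map φ) φ
    exact fp_isStronglyCartesian _ φ (isStronglyCartesian h𝒳 _ _) (isStronglyCartesian h𝒴 _ _)
      (isStronglyCartesian h𝒮 _ _)

end Basic

lemma selfOver_isFibGrpd : FibCat.IsFibGrpd (FibCat.selfOver C).p where
  exists_lift {x V} f := ⟨V, f, CategoryTheory.IsHomLift.map (𝟭 C) (f : V ⟶ x)⟩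
  isStronglyCartesian {y x} φ :=
    { universal_property' := fun {z} g ψ hψ => by
        haveI : (𝟭 C).IsHomLift (g ≫ φ) ψ := hψ
        refine ⟨g, ⟨CategoryTheory.IsHomLift.map (𝟭 C) g, IsHomLift.eq_of_isHomLift (𝟭 C) (g ≫ φ) ψ⟩,
          fun χ ⟨hχ, _⟩ => ?_⟩
        haveI : (𝟭 C).IsHomLift g χ := hχ
        exact (IsHomLift.eq_of_isHomLift (𝟭 C) g χ).symm }

lemma selfOver_hom_ext {a b : (FibCat.selfOver C).obj} {R S : C} (f : R ⟶ S) (φ ψ : a ⟶ b)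
    [(FibCat.selfOver C).p.IsHomLift f φ] [(FibCat.selfOver C).p.IsHomLift f ψ] : φ = ψ := by
  have h1 : φ = _ := IsHomLift.fac' (FibCat.selfOver C).p f φ
  exact h1.trans (IsHomLift.fac' (FibCat.selfOver C).p f ψ).symm

section Map

variable {𝒳' : BasedCategory.{v₅, u₅} C} {𝒴' : BasedCategory.{v₆, u₆} C}
  {𝒮' : BasedCategory.{v₇, u₇} C} {F : 𝒳 ⥤ᵇ 𝒮} {G : 𝒴 ⥤ᵇ 𝒮} {F' : 𝒳' ⥤ᵇ 𝒮'} {G' : 𝒴' ⥤ᵇ 𝒮'}
  {a : 𝒳 ⥤ᵇ 𝒳'} {b : 𝒴 ⥤ᵇ 𝒴'} {s : 𝒮 ⥤ᵇ 𝒮'}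
  (e₁ : BasedFunctor.comp a F' ≅ BasedFunctor.comp F s)
  (e₂ : BasedFunctor.comp b G' ≅ BasedFunctor.comp G s)

/-- iso part of `fpMap` -/
noncomputable def fpMapIso (x : (FibCat.fp F G).obj) :
    F'.obj (a.obj x.obj.fst) ≅ G'.obj (b.obj x.obj.snd) :=
  appIso e₁ x.obj.fst ≪≫ s.toFunctor.mapIso x.obj.iso ≪≫ (appIso e₂ x.obj.snd).symm

lemma fpMapIso_lift (x : (FibCat.fp F G).obj) :
    𝒮'.p.IsHomLift (𝟙 (𝒳.p.obj x.obj.fst)) (fpMapIso e₁ e₂ x).hom := by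
  haveI := isHomLift_appIso_hom e₁ x.obj.fst (U := 𝒳.p.obj x.obj.fst) rfl
  haveI := isHomLift_appIso_hom e₂ x.obj.snd (U := 𝒳.p.obj x.obj.fst) (snd_p x)
  haveI := iso_lift x (U := 𝒳.p.obj x.obj.fst) rfl
  exact inferInstanceAs (𝒮'.p.IsHomLift (𝟙 _)
    ((appIso e₁ x.obj.fst).hom ≫ s.map x.obj.iso.hom ≫ (appIso e₂ x.obj.snd).inv))

/-- functoriality of the fibre product over the base -/
noncomputable def fpMap : FibCat.fp F G ⥤ᵇ FibCat.fp F' G' :=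
  FibCat.fpLift (BasedFunctor.comp (FibCat.fpFst F G) a) (BasedFunctor.comp (FibCat.fpSnd F G) b)
    (BasedNatIso.mkNatIso
      (NatIso.ofComponents (fun x => fpMapIso e₁ e₂ x) (fun {x y} φ => by
        have h1 := e₁.hom.toNatTrans.naturality φ.hom.fst
        have h2 := e₂.inv.toNatTrans.naturality φ.hom.snd
        have h3 := congrArg s.map (fp_w φ)
        show F'.map (a.map φ.hom.fst) ≫ e₁.hom.toNatTrans.app y.obj.fst ≫ s.map y.obj.iso.hom ≫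
            e₂.inv.toNatTrans.app y.obj.snd =
          (e₁.hom.toNatTrans.app x.obj.fst ≫ s.map x.obj.iso.hom ≫
            e₂.inv.toNatTrans.app x.obj.snd) ≫ G'.map (b.map φ.hom.snd)
        simp only [BasedFunctor.comp, Functor.comp_map, Functor.map_comp] at h1 h2 h3
        rw [reassoc_of% h1, reassoc_of% h3, h2]
        simp only [Category.assoc]))
      (fun x => fpMapIso_lift e₁ e₂ x))

@[simp] lemma fpMap_fst (x : (FibCat.fp F G).obj) :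
    ((fpMap e₁ e₂).obj x).obj.fst = a.obj x.obj.fst := rfl

@[simp] lemma fpMap_snd (x : (FibCat.fp F G).obj) :
    ((fpMap e₁ e₂).obj x).obj.snd = b.obj x.obj.snd := rfl

lemma fpMap_iso (x : (FibCat.fp F G).obj) :
    ((fpMap e₁ e₂).obj x).obj.iso.hom = (appIso e₁ x.obj.fst).hom ≫ s.map x.obj.iso.hom ≫
      (appIso e₂ x.obj.snd).inv := rfl

lemma fpMap_isEquivOver (ha : FibCat.IsEquivOver a) (hb : FibCat.IsEquivOver b)
    [s.toFunctor.Full] [s.toFunctor.Faithful] : FibCat.IsEquivOver (fpMap e₁ e₂) := by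
  have := isEquivalence_of_isEquivOver ha
  have := isEquivalence_of_isEquivOver hb
  have : (fpMap e₁ e₂).toFunctor.Faithful := ⟨fun {x y φ φ'} h => by
    apply fp_hom_ext
    · exact a.toFunctor.map_injective (congrArg (fun t => t.hom.fst) h)
    · exact b.toFunctor.map_injective (congrArg (fun t => t.hom.snd) h)⟩
  have : (fpMap e₁ e₂).toFunctor.Full := ⟨fun {x y} φ => by
    obtain ⟨α, hα⟩ := a.toFunctor.map_surjective φ.hom.fst
    obtain ⟨β, hβ⟩ := b.toFunctor.map_surjective φ.hom.snd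
    refine ⟨fpHom α β (s.toFunctor.map_injective ?_), fp_hom_ext hα hβ⟩
    have h := fp_w φ
    rw [fpMap_iso, fpMap_iso, ← hα, ← hβ] at h
    have h1 := e₁.hom.toNatTrans.naturality α
    have h2 := e₂.inv.toNatTrans.naturality β
    have h1' : F'.map (a.map α) ≫ (appIso e₁ y.obj.fst).hom = (appIso e₁ x.obj.fst).hom ≫ s.map (F.map α) := h1
    have h2' : s.map (G.map β) ≫ (appIso e₂ y.obj.snd).inv = (appIso e₂ x.obj.snd).inv ≫ G'.map (b.map β) := h2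
    rw [reassoc_of% h1'] at h
    rw [Category.assoc, Category.assoc, ← h2', Iso.cancel_iso_hom_left] at h
    rw [Functor.map_comp, Functor.map_comp, ← cancel_mono (appIso e₂ y.obj.snd).inv]
    simpa using h⟩
  refine isEquivOver_of _ fun η => ?_
  obtain ⟨x, i, hi⟩ := essSurjOver_of_isEquivOver ha η.obj.fst
  obtain ⟨y, j, hj⟩ := essSurjOver_of_isEquivOver hb η.obj.snd
  rw [fst_p] at hi
  rw [snd_p] at hj
  have hx : 𝒳.p.obj x = (FibCat.fp F' G').p.obj η :=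
    (a.w_obj x).symm.trans (IsHomLift.domain_eq 𝒳'.p (𝟙 _) i.hom)
  have hy : 𝒴.p.obj y = (FibCat.fp F' G').p.obj η :=
    (b.w_obj y).symm.trans (IsHomLift.domain_eq 𝒴'.p (𝟙 _) j.hom)
  haveI := hi; haveI := hj
  haveI := isHomLift_appIso_hom e₁ x hx
  haveI := isHomLift_appIso_hom e₂ y hy
  haveI := iso_lift η (fst_p η)
  let d : s.obj (F.obj x) ≅ s.obj (G.obj y) :=
    (appIso e₁ x).symm ≪≫ F'.toFunctor.mapIso i ≪≫ η.obj.iso ≪≫ (G'.toFunctor.mapIso j).symm ≪≫ appIso e₂ y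
  haveI : 𝒮'.p.IsHomLift (𝟙 ((FibCat.fp F' G').p.obj η)) d.hom := by
    haveI : 𝒮'.p.IsHomLift (𝟙 ((FibCat.fp F' G').p.obj η)) (F'.toFunctor.mapIso i).hom :=
      BasedFunctor.preserves_isHomLift F' _ i.hom
    haveI : 𝒮'.p.IsHomLift (𝟙 ((FibCat.fp F' G').p.obj η)) (G'.toFunctor.mapIso j).hom :=
      BasedFunctor.preserves_isHomLift G' _ j.hom
    exact inferInstanceAs (𝒮'.p.IsHomLift (𝟙 _) ((appIso e₁ x).inv ≫ (F'.toFunctor.mapIso i).hom ≫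
      η.obj.iso.hom ≫ (G'.toFunctor.mapIso j).inv ≫ (appIso e₂ y).hom))
  have he : 𝒮.p.IsHomLift (𝟙 ((FibCat.fp F' G').p.obj η)) (s.toFunctor.preimageIso d).hom := by
    haveI : 𝒮'.p.IsHomLift (𝟙 ((FibCat.fp F' G').p.obj η)) (s.map (s.toFunctor.preimageIso d).hom) := by
      rw [Functor.preimageIso_hom, Functor.map_preimage]; infer_instance
    exact BasedFunctor.isHomLift_map s _ _
  refine ⟨fpObj x y (s.toFunctor.preimageIso d) hx he, fpIsoMk i j ?_, ?_⟩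
  · rw [fpMap_iso]
    simp [d]
  · exact @isHomLift_of_fst _ _ _ _ _ _ _ _ _ _ _ _ _ hi

end Map

end Groth.Agent.FC16
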