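import Groth.Agent.Lib.FC16.Transfer
import Groth.Agent.Lib.FC16.Fp
import Groth.Agent.Lib.FC16.Setoid
import Groth.Prelude.Def_AlgSt

/-! Stacks: invariance under equivalence, 2-fibre products. -/

universe v₅ u₅ v₄ u₄ v₃ u₃ v₂ u₂ v u

open CategoryTheory CategoryTheory.Functor

set_option linter.style.haveILetI false
set_option linter.unusedSimpArgs false
set_option linter.unusedVariables false
set_option linter.unusedSectionVars false
set_option backward.isDefEq.respectTransparency false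
set_option backward.isDefEq.respectTransparency.types false

namespace Groth.Agent.FC16

variable {C : Type u} [Category.{v} C] {𝒳 : BasedCategory.{v₂, u₂} C} {𝒴 : BasedCategory.{v₃, u₃} C}

section Post

variable (𝒜 : BasedCategory.{v₅, u₅} C)

/-- postcomposition -/
def postFun (F : 𝒳 ⥤ᵇ 𝒴) : (𝒜 ⥤ᵇ 𝒳) ⥤ (𝒜 ⥤ᵇ 𝒴) where
  obj x := BasedFunctor.comp x F
  map α := BasedCategory.whiskerRight α F
  map_id x := by
    apply BasedNatTrans.homCategory.ext; ext a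
    exact F.toFunctor.map_id _
  map_comp α β := by
    apply BasedNatTrans.homCategory.ext; ext a
    exact F.toFunctor.map_comp _ _

variable {𝒜} in
/-- whiskering an iso on the left -/
def wlIso {ℬ : BasedCategory.{v₄, u₄} C} (x : 𝒜 ⥤ᵇ 𝒳) {G H : 𝒳 ⥤ᵇ ℬ} (i : G ≅ H) :
    BasedFunctor.comp x G ≅ BasedFunctor.comp x H where
  hom := BasedCategory.whiskerLeft x i.hom
  inv := BasedCategory.whiskerLeft x i.inv
  hom_inv_id := by
    apply BasedNatTrans.homCategory.ext; ext a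
    exact NatTrans.congr_app (congrArg BasedNatTrans.toNatTrans i.hom_inv_id) (x.obj a)
  inv_hom_id := by
    apply BasedNatTrans.homCategory.ext; ext a
    exact NatTrans.congr_app (congrArg BasedNatTrans.toNatTrans i.inv_hom_id) (x.obj a)

lemma postFun_isEquivalence {F : 𝒳 ⥤ᵇ 𝒴} (hF : FibCat.IsEquivOver F) :
    (postFun 𝒜 F).IsEquivalence := by
  obtain ⟨G, ⟨α⟩, ⟨β⟩⟩ := hF
  refine Functor.IsEquivalence.mk' (postFun 𝒜 G) ?_ ?_
  · refine NatIso.ofComponents (fun x => (wlIso x α).symm) (fun {x y} γ => ?_)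
    apply BasedNatTrans.homCategory.ext; ext a
    exact α.inv.toNatTrans.naturality (γ.toNatTrans.app a)
  · refine NatIso.ofComponents (fun x => wlIso x β) (fun {x y} γ => ?_)
    apply BasedNatTrans.homCategory.ext; ext a
    exact β.hom.toNatTrans.naturality (γ.toNatTrans.app a)

lemma restr_comm {ℬ : BasedCategory.{v₄, u₄} C} (ι : 𝒜 ⥤ᵇ ℬ) (F : 𝒳 ⥤ᵇ 𝒴) :
    Stk.restr ι 𝒳 ⋙ postFun 𝒜 F = postFun ℬ F ⋙ Stk.restr ι 𝒴 := rfl

end Post

lemma isPrestackFor_iff {F : 𝒳 ⥤ᵇ 𝒴} (hF : FibCat.IsEquivOver F) {U : C} (R : Sieve U) :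
    Stk.IsPrestackFor R 𝒳 ↔ Stk.IsPrestackFor R 𝒴 := by
  haveI := postFun_isEquivalence (Stk.sieveCat R) hF
  haveI := postFun_isEquivalence (FibCat.overCat U) hF
  let P := postFun (Stk.sieveCat R) F
  let Q := postFun (FibCat.overCat U) F
  have hc : Stk.resSieve R 𝒳 ⋙ P = Q ⋙ Stk.resSieve R 𝒴 := rfl
  constructor
  · rintro ⟨h1, h2⟩
    haveI := h1; haveI := h2
    let e : Q.inv ⋙ (Stk.resSieve R 𝒳 ⋙ P) ≅ Stk.resSieve R 𝒴 :=
      isoWhiskerLeft Q.inv (eqToIso hc) ≪≫ (Functor.associator _ _ _).symm ≪≫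
        isoWhiskerRight Q.asEquivalence.counitIso _ ≪≫ Functor.leftUnitor _
    exact ⟨Functor.Full.of_iso e, Functor.Faithful.of_iso e⟩
  · rintro ⟨h1, h2⟩
    haveI := h1; haveI := h2
    haveI : (Stk.resSieve R 𝒳 ⋙ P).Full := inferInstanceAs (Q ⋙ Stk.resSieve R 𝒴).Full
    haveI : (Stk.resSieve R 𝒳 ⋙ P).Faithful := inferInstanceAs (Q ⋙ Stk.resSieve R 𝒴).Faithful
    exact ⟨Functor.Full.of_comp_faithful (Stk.resSieve R 𝒳) P,
      Functor.Faithful.of_comp (Stk.resSieve R 𝒳) P⟩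

lemma isStackFor_iff {F : 𝒳 ⥤ᵇ 𝒴} (hF : FibCat.IsEquivOver F) {U : C} (R : Sieve U) :
    Stk.IsStackFor R 𝒳 ↔ Stk.IsStackFor R 𝒴 := by
  haveI := postFun_isEquivalence (Stk.sieveCat R) hF
  haveI := postFun_isEquivalence (FibCat.overCat U) hF
  let P := postFun (Stk.sieveCat R) F
  let Q := postFun (FibCat.overCat U) F
  constructor
  · intro h
    haveI : (Stk.resSieve R 𝒳).IsEquivalence := h
    haveI : (Q ⋙ Stk.resSieve R 𝒴).IsEquivalence := inferInstanceAs (Stk.resSieve R 𝒳 ⋙ P).IsEquivalence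
    exact Functor.isEquivalence_of_comp_left Q (Stk.resSieve R 𝒴)
  · intro h
    haveI : (Stk.resSieve R 𝒴).IsEquivalence := h
    haveI : (Stk.resSieve R 𝒳 ⋙ P).IsEquivalence := inferInstanceAs (Q ⋙ Stk.resSieve R 𝒴).IsEquivalence
    exact Functor.isEquivalence_of_comp_right (Stk.resSieve R 𝒳) P

variable (J : GrothendieckTopology C)

lemma isPrestack_iff_of_isEquivOver {F : 𝒳 ⥤ᵇ 𝒴} (hF : FibCat.IsEquivOver F) :
    Stk.IsPrestack J 𝒳 ↔ Stk.IsPrestack J 𝒴 :=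
  and_congr (isFibGrpd_iff_of_isEquivOver hF)
    (forall_congr' fun U => forall_congr' fun R => forall_congr' fun _ => isPrestackFor_iff hF R)

lemma isStack_iff_of_isEquivOver {F : 𝒳 ⥤ᵇ 𝒴} (hF : FibCat.IsEquivOver F) :
    Stk.IsStack J 𝒳 ↔ Stk.IsStack J 𝒴 :=
  and_congr (isFibGrpd_iff_of_isEquivOver hF)
    (forall_congr' fun U => forall_congr' fun R => forall_congr' fun _ => isStackFor_iff hF R)

lemma isPrestack_of_isStack (h : Stk.IsStack J 𝒳) : Stk.IsPrestack J 𝒳 :=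
  ⟨h.1, fun U R hR => haveI : (Stk.resSieve R 𝒳).IsEquivalence := h.2 R hR
    ⟨inferInstance, inferInstance⟩⟩

section Fp

variable {𝒮 : BasedCategory.{v₄, u₄} C} {F : 𝒳 ⥤ᵇ 𝒮} {G : 𝒴 ⥤ᵇ 𝒮}
  {𝒜 : BasedCategory.{v₅, u₅} C} {ℬ : BasedCategory.{v₅, u₅} C} (ι : 𝒜 ⥤ᵇ ℬ)

lemma fp_natTrans_ext {s t : ℬ ⥤ᵇ FibCat.fp F G} {α β : s ⟶ t}
    (h1 : BasedCategory.whiskerRight α (FibCat.fpFst F G) = BasedCategory.whiskerRight β (FibCat.fpFst F G))
    (h2 : BasedCategory.whiskerRight α (FibCat.fpSnd F G) = BasedCategory.whiskerRight β (FibCat.fpSnd F G)) :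
    α = β := by
  apply BasedNatTrans.homCategory.ext
  apply NatTrans.ext
  funext b
  exact fp_hom_ext (congrArg (fun γ => γ.toNatTrans.app b) h1)
    (congrArg (fun γ => γ.toNatTrans.app b) h2)

variable [(Stk.restr ι 𝒳).Faithful] [(Stk.restr ι 𝒴).Faithful]

lemma fp_restr_faithful : (Stk.restr ι (FibCat.fp F G)).Faithful where
  map_injective {s t α β} h := by
    refine fp_natTrans_ext ?_ ?_
    · apply (Stk.restr ι 𝒳).map_injective
      exact congrArg (fun γ => BasedCategory.whiskerRight γ (FibCat.fpFst F G)) h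
    · apply (Stk.restr ι 𝒴).map_injective
      exact congrArg (fun γ => BasedCategory.whiskerRight γ (FibCat.fpSnd F G)) h

variable [(Stk.restr ι 𝒳).Full] [(Stk.restr ι 𝒴).Full] [(Stk.restr ι 𝒮).Faithful]

lemma fp_restr_full : (Stk.restr ι (FibCat.fp F G)).Full where
  map_surjective {s t} γ := by
    obtain ⟨a, ha⟩ := (Stk.restr ι 𝒳).map_surjective (X := BasedFunctor.comp s (FibCat.fpFst F G))
      (Y := BasedFunctor.comp t (FibCat.fpFst F G)) (BasedCategory.whiskerRight γ (FibCat.fpFst F G))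
    obtain ⟨b, hb⟩ := (Stk.restr ι 𝒴).map_surjective (X := BasedFunctor.comp s (FibCat.fpSnd F G))
      (Y := BasedFunctor.comp t (FibCat.fpSnd F G)) (BasedCategory.whiskerRight γ (FibCat.fpSnd F G))
    have ha' : ∀ x : 𝒜.obj, a.toNatTrans.app (ι.obj x) = (γ.toNatTrans.app x).hom.fst :=
      fun x => congrArg (fun δ => δ.toNatTrans.app x) ha
    have hb' : ∀ x : 𝒜.obj, b.toNatTrans.app (ι.obj x) = (γ.toNatTrans.app x).hom.snd :=
      fun x => congrArg (fun δ => δ.toNatTrans.app x) hb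
    have key : BasedCategory.whiskerRight a F ≫ BasedCategory.whiskerLeft t (FibCat.fpIso F G).hom =
        BasedCategory.whiskerLeft s (FibCat.fpIso F G).hom ≫ BasedCategory.whiskerRight b G := by
      apply (Stk.restr ι 𝒮).map_injective
      apply BasedNatTrans.homCategory.ext
      ext x
      show F.map (a.toNatTrans.app (ι.obj x)) ≫ (t.obj (ι.obj x)).obj.iso.hom =
        (s.obj (ι.obj x)).obj.iso.hom ≫ G.map (b.toNatTrans.app (ι.obj x))
      rw [ha', hb']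
      exact fp_w (γ.toNatTrans.app x)
    have key' : ∀ z : ℬ.obj, F.map (a.toNatTrans.app z) ≫ (t.obj z).obj.iso.hom =
        (s.obj z).obj.iso.hom ≫ G.map (b.toNatTrans.app z) :=
      fun z => congrArg (fun δ => δ.toNatTrans.app z) key
    refine ⟨{ toNatTrans :=
                { app := fun z => fpHom (a.toNatTrans.app z) (b.toNatTrans.app z) (key' z)
                  naturality := fun z z' g => fp_hom_ext (a.toNatTrans.naturality g) (b.toNatTrans.naturality g) }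
              isHomLift' := fun z => ?_ }, ?_⟩
    · haveI := a.isHomLift' z
      exact @isHomLift_of_fst _ _ _ _ _ _ _ _ _ _ _ _ _ (a.isHomLift' z)
    · apply BasedNatTrans.homCategory.ext
      apply NatTrans.ext
      funext x
      exact fp_hom_ext (ha' x) (hb' x)

variable [(Stk.restr ι 𝒳).EssSurj] [(Stk.restr ι 𝒴).EssSurj] [(Stk.restr ι 𝒮).Full]

lemma fp_restr_essSurj : (Stk.restr ι (FibCat.fp F G)).EssSurj where
  mem_essImage t := by
    let t₁ := BasedFunctor.comp t (FibCat.fpFst F G)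
    let t₂ := BasedFunctor.comp t (FibCat.fpSnd F G)
    let a := (Stk.restr ι 𝒳).objPreimage t₁
    let i : BasedFunctor.comp ι a ≅ t₁ := (Stk.restr ι 𝒳).objObjPreimageIso t₁
    let b := (Stk.restr ι 𝒴).objPreimage t₂
    let j : BasedFunctor.comp ι b ≅ t₂ := (Stk.restr ι 𝒴).objObjPreimageIso t₂
    let d : (Stk.restr ι 𝒮).obj (BasedFunctor.comp a F) ≅ (Stk.restr ι 𝒮).obj (BasedFunctor.comp b G) :=
      (postFun 𝒜 F).mapIso i ≪≫ wlIso t (FibCat.fpIso F G) ≪≫ ((postFun 𝒜 G).mapIso j).symm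
    let e : BasedFunctor.comp a F ≅ BasedFunctor.comp b G := (Stk.restr ι 𝒮).preimageIso d
    have he : (Stk.restr ι 𝒮).map e.hom = d.hom := Functor.map_preimage _ _
    have he' : ∀ x : 𝒜.obj, e.hom.toNatTrans.app (ι.obj x) =
        F.map (i.hom.toNatTrans.app x) ≫ (t.obj x).obj.iso.hom ≫ G.map (j.inv.toNatTrans.app x) :=
      fun x => congrArg (fun δ => δ.toNatTrans.app x) he
    refine ⟨FibCat.fpLift a b e, ⟨BasedNatIso.mkNatIso (NatIso.ofComponents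
      (fun x => fpIsoMk (appIso i x) (appIso j x) ?_) ?_) ?_⟩⟩
    · show F.map (i.hom.toNatTrans.app x) ≫ (t.obj x).obj.iso.hom =
        e.hom.toNatTrans.app (ι.obj x) ≫ G.map (j.hom.toNatTrans.app x)
      rw [he']
      have hj : j.inv.toNatTrans.app x ≫ j.hom.toNatTrans.app x = 𝟙 _ :=
        NatTrans.congr_app (congrArg BasedNatTrans.toNatTrans j.inv_hom_id) x
      simp only [Category.assoc]
      erw [← G.toFunctor.map_comp, hj, G.toFunctor.map_id, Category.comp_id]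
    · intro x y g
      exact fp_hom_ext (i.hom.toNatTrans.naturality g) (j.hom.toNatTrans.naturality g)
    · intro x
      exact @isHomLift_of_fst _ _ _ _ _ _ _ _ _ _ _ _ _ (isHomLift_appIso_hom i x rfl)

end Fp

lemma isStack_fp {𝒮 : BasedCategory.{v₄, u₄} C} (F : 𝒳 ⥤ᵇ 𝒮) (G : 𝒴 ⥤ᵇ 𝒮)
    (h𝒳 : Stk.IsStack J 𝒳) (h𝒴 : Stk.IsStack J 𝒴) (h𝒮 : Stk.IsPrestack J 𝒮) :
    Stk.IsStack J (FibCat.fp F G) := by
  refine ⟨fp_isFibGrpd h𝒳.1 h𝒴.1 h𝒮.1 F G, fun U R hR => ?_⟩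
  haveI : (Stk.restr (Stk.sieveIncl R) 𝒳).IsEquivalence := h𝒳.2 R hR
  haveI : (Stk.restr (Stk.sieveIncl R) 𝒴).IsEquivalence := h𝒴.2 R hR
  haveI : (Stk.restr (Stk.sieveIncl R) 𝒮).Full := (h𝒮.2 R hR).1
  haveI : (Stk.restr (Stk.sieveIncl R) 𝒮).Faithful := (h𝒮.2 R hR).2
  haveI := fp_restr_faithful (F := F) (G := G) (Stk.sieveIncl R)
  haveI := fp_restr_full (F := F) (G := G) (Stk.sieveIncl R)
  haveI := fp_restr_essSurj (F := F) (G := G) (Stk.sieveIncl R)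
  exact { }

lemma isFibSetoid_of_faithful (F : 𝒳 ⥤ᵇ 𝒴) [F.toFunctor.Faithful] (hX : FibCat.IsFibGrpd 𝒳.p)
    (hY : FibCat.IsFibSetoid 𝒴.p) : FibCat.IsFibSetoid 𝒳.p :=
  ⟨hX, fun U a b => ⟨fun φ ψ => Subtype.ext (F.toFunctor.map_injective (by
    haveI := φ.2; haveI := ψ.2
    exact hom_ext_of_thin hY.2 (U := U) (F.map φ.1) (F.map ψ.1)))⟩⟩

lemma isFibSetoid_iff_of_isEquivOver {F : 𝒳 ⥤ᵇ 𝒴} (hF : FibCat.IsEquivOver F) :
    FibCat.IsFibSetoid 𝒳.p ↔ FibCat.IsFibSetoid 𝒴.p := by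
  obtain ⟨G, hG, -, -⟩ := exists_inverse hF
  haveI := isEquivalence_of_isEquivOver hF
  haveI := isEquivalence_of_isEquivOver hG
  exact ⟨fun h => isFibSetoid_of_faithful G ((isFibGrpd_iff_of_isEquivOver hF).1 h.1) h,
    fun h => isFibSetoid_of_faithful F ((isFibGrpd_iff_of_isEquivOver hF).2 h.1) h⟩

lemma fp_isFibSetoid {𝒮 : BasedCategory.{v₄, u₄} C} (F : 𝒳 ⥤ᵇ 𝒮) (G : 𝒴 ⥤ᵇ 𝒮)
    (h𝒳 : FibCat.IsFibSetoid 𝒳.p) (h𝒴 : FibCat.IsFibSetoid 𝒴.p) (h𝒮 : FibCat.IsFibGrpd 𝒮.p) :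
    FibCat.IsFibSetoid (FibCat.fp F G).p :=
  ⟨fp_isFibGrpd h𝒳.1 h𝒴.1 h𝒮 F G, fun U a b => ⟨fun φ ψ => Subtype.ext (by
    haveI := φ.2; haveI := ψ.2
    haveI := isHomLift_fst (𝟙 U) φ.1
    haveI := isHomLift_fst (𝟙 U) ψ.1
    haveI := isHomLift_snd (𝟙 U) φ.1
    haveI := isHomLift_snd (𝟙 U) ψ.1
    exact fp_hom_ext (hom_ext_of_thin h𝒳.2 (U := U) _ _) (hom_ext_of_thin h𝒴.2 (U := U) _ _))⟩⟩

end Groth.Agent.FC16
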