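import Groth.Agent.Lib.FC16.Basic

/-! Composites of functors and categories fibred in sets. -/

universe v₄ u₄ v₃ u₃ v₂ u₂ v u

open CategoryTheory CategoryTheory.Functor

set_option linter.style.haveILetI false
set_option linter.unusedSimpArgs false

namespace Groth.Agent.FC16

variable {C : Type u} [Category.{v} C] {ℬ : Type u₂} [Category.{v₂} ℬ] {𝒜 : Type u₃} [Category.{v₃} 𝒜]
  {F : 𝒜 ⥤ ℬ} {G : ℬ ⥤ C}

lemma isHomLift_comp_map {R S : C} (f : R ⟶ S) {a b : 𝒜} (φ : a ⟶ b) [(F ⋙ G).IsHomLift f φ] :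
    G.IsHomLift f (F.map φ) :=
  IsHomLift.of_fac' G f (F.map φ) (IsHomLift.domain_eq (F ⋙ G) f φ)
    (IsHomLift.codomain_eq (F ⋙ G) f φ) (IsHomLift.fac' (F ⋙ G) f φ)

lemma isHomLift_comp {R S : C} (f : R ⟶ S) {a b : 𝒜} (φ : a ⟶ b) [G.IsHomLift f (F.map φ)] :
    (F ⋙ G).IsHomLift f φ :=
  IsHomLift.of_fac' (F ⋙ G) f φ (IsHomLift.domain_eq G f (F.map φ))
    (IsHomLift.codomain_eq G f (F.map φ)) (IsHomLift.fac' G f (F.map φ))

lemma isStronglyCartesian_comp {a b : 𝒜} (φ : a ⟶ b)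
    [F.IsStronglyCartesian (F.map φ) φ] [G.IsStronglyCartesian (G.map (F.map φ)) (F.map φ)] :
    (F ⋙ G).IsStronglyCartesian ((F ⋙ G).map φ) φ where
  universal_property' := fun {z} g ψ hψ => by
    haveI := hψ
    haveI : G.IsHomLift (g ≫ G.map (F.map φ)) (F.map ψ) :=
      isHomLift_comp_map (g ≫ (F ⋙ G).map φ) ψ
    obtain ⟨χ, ⟨hχ, hχ'⟩, hu⟩ := IsStronglyCartesian.universal_property G (G.map (F.map φ)) (F.map φ)
      g (g ≫ G.map (F.map φ)) rfl (F.map ψ)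
    obtain ⟨τ, ⟨hτ, hτ'⟩, hv⟩ := IsStronglyCartesian.universal_property F (F.map φ) φ
      χ (F.map ψ) hχ'.symm ψ
    obtain rfl : χ = F.map τ := IsHomLift.eq_of_isHomLift F χ τ
    obtain rfl : g = G.map (F.map τ) := IsHomLift.eq_of_isHomLift G g (F.map τ)
    refine ⟨τ, ⟨IsHomLift.map (F ⋙ G) τ, hτ'⟩, fun τ' ⟨h1, h2⟩ => hv τ' ⟨?_, h2⟩⟩
    haveI := h1
    have e : F.map τ' = F.map τ :=
      hu _ ⟨isHomLift_comp_map (G.map (F.map τ)) τ', by rw [← F.map_comp, h2]⟩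
    rw [← e]
    exact IsHomLift.map F τ'

lemma isStronglyCartesian_of_comp {a b : 𝒜} (φ : a ⟶ b)
    [(F ⋙ G).IsStronglyCartesian ((F ⋙ G).map φ) φ]
    [G.IsStronglyCartesian (G.map (F.map φ)) (F.map φ)] :
    F.IsStronglyCartesian (F.map φ) φ where
  universal_property' := fun {z} g ψ hψ => by
    haveI := hψ
    have e : g ≫ F.map φ = F.map ψ := IsHomLift.eq_of_isHomLift F _ ψ
    haveI : G.IsHomLift (G.map g ≫ G.map (F.map φ)) (F.map ψ) := by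
      rw [← G.map_comp, e]; infer_instance
    haveI : (F ⋙ G).IsHomLift (G.map g ≫ (F ⋙ G).map φ) ψ :=
      isHomLift_comp (G.map g ≫ G.map (F.map φ)) ψ
    obtain ⟨χ, ⟨hχ, hχ'⟩, hu⟩ := IsStronglyCartesian.universal_property (F ⋙ G) ((F ⋙ G).map φ) φ
      (G.map g) (G.map g ≫ (F ⋙ G).map φ) rfl ψ
    haveI := hχ
    haveI : G.IsHomLift (G.map g) (F.map χ) := isHomLift_comp_map (G.map g) χ
    have hg : F.map χ = g := by
      apply IsStronglyCartesian.ext G (G.map (F.map φ)) (F.map φ) (G.map g)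
      rw [← F.map_comp, hχ', e]
    refine ⟨χ, ⟨?_, hχ'⟩, fun χ' ⟨h1, h2⟩ => hu χ' ⟨?_, h2⟩⟩
    · rw [← hg]; exact IsHomLift.map F χ
    · haveI := h1
      have : g = F.map χ' := IsHomLift.eq_of_isHomLift F g χ'
      rw [this]
      exact IsHomLift.map (F ⋙ G) χ'

lemma isFibGrpd_comp (hF : FibCat.IsFibGrpd F) (hG : FibCat.IsFibGrpd G) :
    FibCat.IsFibGrpd (F ⋙ G) where
  exists_lift {x V} f := by
    obtain ⟨b, ψ, hψ⟩ := hG.exists_lift f
    obtain ⟨y, φ, hφ⟩ := hF.exists_lift ψ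
    refine ⟨y, φ, ?_⟩
    have hb : F.obj y = b := IsHomLift.domain_eq F ψ φ
    subst hb
    obtain rfl : ψ = F.map φ := IsHomLift.eq_of_isHomLift F ψ φ
    exact isHomLift_comp f φ
  isStronglyCartesian φ :=
    have := hF.isStronglyCartesian φ
    have := hG.isStronglyCartesian (F.map φ)
    isStronglyCartesian_comp φ

lemma isFibered_comp [F.IsFibered] [G.IsFibered] : (F ⋙ G).IsFibered :=
  IsFibered.of_exists_isStronglyCartesian fun x V f => by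
    obtain ⟨b, ψ, hψ⟩ := exists_isStronglyCartesian (p := G) (rfl : G.obj (F.obj x) = _) f
    obtain ⟨y, φ, hφ⟩ := exists_isStronglyCartesian (p := F) (rfl : F.obj x = _) ψ
    refine ⟨y, φ, ?_⟩
    have hb : F.obj y = b := IsHomLift.domain_eq F ψ φ
    subst hb
    obtain rfl : ψ = F.map φ := IsHomLift.eq_of_isHomLift F ψ φ
    haveI := hψ.toIsHomLift
    haveI := hφ
    have hV : G.obj (F.obj y) = V := IsHomLift.domain_eq G f (F.map φ)
    subst hV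
    obtain rfl : f = G.map (F.map φ) := IsHomLift.eq_of_isHomLift G f (F.map φ)
    haveI := hψ
    exact isStronglyCartesian_comp φ

/-- unique lifts -/
def UniqueLifts (G : ℬ ⥤ C) : Prop :=
  ∀ (η : ℬ) (U : C) (f : U ⟶ G.obj η), ∃! φ : (Σ ξ : ℬ, (ξ ⟶ η)), G.IsHomLift f φ.2

lemma uniqueLifts_of_isFibSet (h : FibCat.IsFibSet G) : UniqueLifts G := by
  intro η U f
  obtain ⟨y, φ, hφ⟩ := h.1.exists_lift f
  refine ⟨⟨y, φ⟩, hφ, fun ⟨y', φ'⟩ hφ' => ?_⟩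
  haveI := hφ
  haveI : G.IsHomLift f φ' := hφ'
  haveI := isStronglyCartesian h.1 f φ
  haveI := isStronglyCartesian h.1 f φ'
  let e := IsCartesian.domainUniqueUpToIso G f φ φ'
  haveI := h.2 U
  let A : G.Fiber U := Fiber.mk (IsHomLift.domain_eq G f φ')
  let B : G.Fiber U := Fiber.mk (IsHomLift.domain_eq G f φ)
  let e' : A ⟶ B := ⟨e.hom, IsCartesian.map_isHomLift G f φ φ'⟩
  have hy := IsDiscrete.eq_of_hom e'
  obtain rfl : y' = y := congrArg Subtype.val hy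
  have : e' = 𝟙 _ := Subsingleton.elim _ _
  have h1 : e.hom = 𝟙 _ := congrArg Subtype.val this
  have h2 : e.hom ≫ φ = φ' := IsCartesian.fac G f φ φ'
  rw [h1, Category.id_comp] at h2
  rw [h2]

lemma isFibSet_of_uniqueLifts (h : UniqueLifts G) : FibCat.IsFibSet G := by
  refine ⟨{ exists_lift := fun {x V} f => ?_, isStronglyCartesian := fun {y x} φ => ?_ }, fun U => ?_⟩
  · obtain ⟨⟨y, φ⟩, hφ, -⟩ := h x V f
    exact ⟨y, φ, hφ⟩
  · refine { universal_property' := fun {z} g ψ hψ => ?_ }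
    haveI := hψ
    obtain ⟨⟨z', χ⟩, hχ, hu⟩ := h y (G.obj z) g
    haveI : G.IsHomLift g χ := hχ
    have e := (h x (G.obj z) (g ≫ G.map φ)).unique (y₁ := ⟨z', χ ≫ φ⟩) (y₂ := ⟨z, ψ⟩)
      inferInstance hψ
    obtain ⟨rfl, e⟩ := Sigma.mk.inj_iff.1 e
    exact ⟨χ, ⟨hχ, eq_of_heq e⟩,
      fun χ' hχ' => eq_of_heq (Sigma.mk.inj_iff.1 (hu ⟨_, χ'⟩ hχ'.1)).2⟩
  · have key : ∀ (a b : G.Fiber U) (φ : a ⟶ b),
        (⟨a.1, φ.1⟩ : Σ ξ : ℬ, (ξ ⟶ b.1)) = ⟨b.1, 𝟙 b.1⟩ := fun a b φ => by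
      haveI : G.IsHomLift (𝟙 U) φ.1 := φ.2
      exact (h b.1 U (𝟙 U ≫ eqToHom b.2.symm)).unique (y₁ := ⟨a.1, φ.1⟩) (y₂ := ⟨b.1, 𝟙 b.1⟩)
        (inferInstanceAs (G.IsHomLift (𝟙 U ≫ eqToHom b.2.symm) φ.1))
        (by haveI := IsHomLift.id (p := G) b.2; exact inferInstanceAs (G.IsHomLift _ _))
    exact
      { subsingleton := fun a b => ⟨fun φ φ' => Subtype.ext
          (eq_of_heq (Sigma.mk.inj_iff.1 ((key a b φ).trans (key a b φ').symm)).2)⟩
        eq_of_hom := fun {a b} φ => Subtype.ext (congrArg Sigma.fst (key a b φ)) }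

lemma exists_lift_of_uniqueLifts (hG : UniqueLifts G) {x : 𝒜} {b : ℬ} (ψ : b ⟶ F.obj x)
    {y : 𝒜} (φ : y ⟶ x) [(F ⋙ G).IsHomLift (G.map ψ) φ] : ∃ h : F.obj y = b, F.map φ = eqToHom h ≫ ψ := by
  haveI := isHomLift_comp_map (F := F) (G := G) (G.map ψ) φ
  have e := (hG (F.obj x) (G.obj b) (G.map ψ)).unique (y₁ := ⟨F.obj y, F.map φ⟩) (y₂ := ⟨b, ψ⟩)
    inferInstance (IsHomLift.map G ψ)
  obtain ⟨rfl, e⟩ := Sigma.mk.inj_iff.1 e
  exact ⟨rfl, by simp [eq_of_heq e]⟩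

lemma isFibered_of_comp (hG : FibCat.IsFibSet G) [(F ⋙ G).IsFibered] : F.IsFibered :=
  IsFibered.of_exists_isStronglyCartesian fun x b ψ => by
    obtain ⟨y, φ, hφ⟩ := exists_isStronglyCartesian (p := F ⋙ G) (rfl : (F ⋙ G).obj x = _) (G.map ψ)
    haveI := hφ
    obtain ⟨h, e⟩ := exists_lift_of_uniqueLifts (F := F) (x := x) (uniqueLifts_of_isFibSet hG) ψ φ
    subst h
    rw [eqToHom_refl, Category.id_comp] at e
    subst e
    haveI := hG.1.isStronglyCartesian (F.map φ)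
    haveI : (F ⋙ G).IsStronglyCartesian ((F ⋙ G).map φ) φ := hφ
    exact ⟨y, φ, isStronglyCartesian_of_comp (G := G) φ⟩

lemma isFibGrpd_of_comp (hG : FibCat.IsFibSet G) (h : FibCat.IsFibGrpd (F ⋙ G)) :
    FibCat.IsFibGrpd F where
  exists_lift {x b} ψ := by
    obtain ⟨y, φ, hφ⟩ := h.exists_lift (x := x) (G.map ψ)
    haveI := hφ
    obtain ⟨hy, e⟩ := exists_lift_of_uniqueLifts (F := F) (uniqueLifts_of_isFibSet hG) ψ φ
    subst hy
    rw [eqToHom_refl, Category.id_comp] at e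
    subst e
    exact ⟨y, φ, IsHomLift.map F φ⟩
  isStronglyCartesian φ :=
    have := h.isStronglyCartesian φ
    have := hG.1.isStronglyCartesian (F.map φ)
    isStronglyCartesian_of_comp (G := G) φ

lemma isFibSet_comp_iff (hG : FibCat.IsFibSet G) :
    FibCat.IsFibSet F ↔ FibCat.IsFibSet (F ⋙ G) := by
  have hu := uniqueLifts_of_isFibSet hG
  constructor
  · intro hF
    have hv := uniqueLifts_of_isFibSet hF
    refine isFibSet_of_uniqueLifts fun x V f => ?_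
    obtain ⟨⟨b, ψ⟩, hψ, -⟩ := hu (F.obj x) V f
    obtain ⟨⟨y, φ⟩, hφ, hφu⟩ := hv x b ψ
    have hb : F.obj y = b := @IsHomLift.domain_eq _ _ _ _ F _ _ _ _ ψ φ hφ
    subst hb
    haveI : F.IsHomLift ψ φ := hφ
    obtain rfl : ψ = F.map φ := IsHomLift.eq_of_isHomLift F ψ φ
    haveI : G.IsHomLift f (F.map φ) := hψ
    refine ⟨⟨y, φ⟩, isHomLift_comp f φ, fun ⟨y', φ'⟩ h' => ?_⟩
    haveI : (F ⋙ G).IsHomLift f φ' := h'
    have e := (hu (F.obj x) V f).unique (y₁ := ⟨F.obj y', F.map φ'⟩) (y₂ := ⟨F.obj y, F.map φ⟩)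
      (isHomLift_comp_map f φ') hψ
    obtain ⟨e1, e2⟩ := Sigma.mk.inj_iff.1 e
    refine hφu ⟨y', φ'⟩ ?_
    refine IsHomLift.of_fac' F _ _ e1 rfl ?_
    rw [eqToHom_refl, Category.comp_id]
    exact eq_of_heq (e2.trans (eqToHom_comp_heq (F.map φ) e1).symm)
  · intro h
    refine isFibSet_of_uniqueLifts fun x b ψ => ?_
    have hv := uniqueLifts_of_isFibSet h
    obtain ⟨⟨y, φ⟩, hφ, hφu⟩ := hv x (G.obj b) (G.map ψ)
    haveI : (F ⋙ G).IsHomLift (G.map ψ) φ := hφ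
    obtain ⟨hy, e⟩ := exists_lift_of_uniqueLifts (F := F) hu ψ φ
    refine ⟨⟨y, φ⟩, IsHomLift.of_fac' F ψ φ hy rfl (by simp [e]), fun ⟨y', φ'⟩ h' => hφu _ ?_⟩
    haveI : F.IsHomLift ψ φ' := h'
    haveI : G.IsHomLift (G.map ψ) (F.map φ') := by
      rw [IsHomLift.fac' F ψ φ', eqToHom_refl, Category.comp_id]; infer_instance
    exact isHomLift_comp (G.map ψ) φ'

lemma forget_isFibSet (U : C) : FibCat.IsFibSet (Over.forget U) := by
  refine isFibSet_of_uniqueLifts fun η V f => ?_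
  refine ⟨⟨Over.mk (f ≫ η.hom), Over.homMk f rfl⟩,
    IsHomLift.map (Over.forget U) (Over.homMk (U := Over.mk (f ≫ η.hom)) f rfl), ?_⟩
  rintro ⟨ξ, φ⟩ hφ
  haveI : (Over.forget U).IsHomLift f φ := hφ
  have hV : ξ.left = V := IsHomLift.domain_eq (Over.forget U) f φ
  subst hV
  have e : f = φ.left := @IsHomLift.eq_of_isHomLift _ _ _ _ (Over.forget U) _ _ f φ hφ
  subst e
  obtain ⟨l, r, h⟩ := ξ
  obtain ⟨g, d, w⟩ := φ
  change l ⟶ η.left at g
  have hh : g ≫ η.hom = h := by simpa using w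
  subst hh
  rfl

end Groth.Agent.FC16
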