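import Groth.Agent.Lib.FC16.Repr
import Mathlib.CategoryTheory.Limits.Shapes.Pullback.HasPullback
import Mathlib.CategoryTheory.Limits.Shapes.BinaryProducts

/-! Slices and functors between them. -/

universe v₄ u₄ v₃ u₃ v₂ u₂ v u

open CategoryTheory CategoryTheory.Functor CategoryTheory.Limits

set_option linter.style.haveILetI false
set_option linter.unusedSimpArgs false
set_option backward.isDefEq.respectTransparency false
set_option backward.isDefEq.respectTransparency.types false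

namespace Groth.Agent.FC16

variable {C : Type u} [Category.{v} C]

/-- composition with a morphism, as a functor over the base -/
abbrev overMap {X Y : C} (f : X ⟶ Y) : FibCat.overCat X ⥤ᵇ FibCat.overCat Y :=
  ⟨Over.map f, Over.mapForget_eq f⟩

lemma left_hom_eq {U : C} {a b : (FibCat.overCat U).obj} {R : C} (φ : a ⟶ b)
    [hφ : (FibCat.overCat U).p.IsHomLift (𝟙 R) φ] : ∃ h : a.left = b.left, φ.left = eqToHom h := by
  haveI : (Over.forget U).IsHomLift (𝟙 R) φ := hφ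
  exact ⟨(IsHomLift.domain_eq (Over.forget U) (𝟙 R) φ).trans
    (IsHomLift.codomain_eq (Over.forget U) (𝟙 R) φ).symm,
    (IsHomLift.fac' (Over.forget U) (𝟙 R) φ).trans (by simp)⟩

/-- Functors between slices come from morphisms. -/
lemma exists_iso_overMap {X Y : C} (G : FibCat.overCat X ⥤ᵇ FibCat.overCat Y) :
    ∃ f : X ⟶ Y, Nonempty (overMap f ≅ G) := by
  have hX : (G.obj (Over.mk (𝟙 X))).left = X := G.w_obj (Over.mk (𝟙 X))
  let f : X ⟶ Y := eqToHom hX.symm ≫ (G.obj (Over.mk (𝟙 X))).hom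
  let e : (overMap f).obj (Over.mk (𝟙 X)) ≅ G.obj (Over.mk (𝟙 X)) :=
    Over.isoMk (eqToIso hX.symm) (by
      show eqToHom hX.symm ≫ (G.obj (Over.mk (𝟙 X))).hom = 𝟙 X ≫ f
      rw [Category.id_comp])
  have he : (Over.forget Y).IsHomLift (𝟙 X) e.hom :=
    IsHomLift.of_fac' (Over.forget Y) _ _ rfl hX (by
      show eqToHom hX.symm = eqToHom _ ≫ 𝟙 X ≫ eqToHom _
      simp)
  exact ⟨f, ⟨(exists_iso (presCart_of_isFibGrpd (overCat_isFibGrpd Y) _)
    (presCart_of_isFibGrpd (overCat_isFibGrpd Y) G) e he).choose⟩⟩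

lemma isRepresentable_fp_overMap {A B Y : C} (f : A ⟶ Y) (g : B ⟶ Y) [HasPullback f g] :
    FibCat.IsRepresentable (FibCat.fp (overMap f) (overMap g)) := by
  refine isRepresentable_of_terminal
    (fp_isFibGrpd (overCat_isFibGrpd A) (overCat_isFibGrpd B) (overCat_isFibGrpd Y) _ _)
    (fpObj (Over.mk (pullback.fst f g)) (Over.mk (pullback.snd f g))
      (Over.isoMk (Iso.refl _) (by
        show 𝟙 _ ≫ pullback.snd f g ≫ g = pullback.fst f g ≫ f
        rw [Category.id_comp, pullback.condition]))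
      (U := pullback f g) rfl (IsHomLift.of_fac' (Over.forget Y) _ _ rfl rfl (by simp))) fun ρ => ?_
  haveI : (FibCat.overCat Y).p.IsHomLift (𝟙 (ρ.obj.fst.left)) ρ.obj.iso.hom := iso_lift ρ rfl
  obtain ⟨h, hh⟩ := left_hom_eq (R := ρ.obj.fst.left) ρ.obj.iso.hom
  have h' : ρ.obj.fst.left = ρ.obj.snd.left := h
  have hw : eqToHom h' ≫ ρ.obj.snd.hom ≫ g = ρ.obj.fst.hom ≫ f := by
    have := Over.w ρ.obj.iso.hom
    rw [hh] at this
    exact this
  let l : ρ.obj.fst.left ⟶ pullback f g :=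
    pullback.lift ρ.obj.fst.hom (eqToHom h' ≫ ρ.obj.snd.hom) (by rw [Category.assoc, hw])
  refine ⟨⟨⟨fpHom (Over.homMk l (pullback.lift_fst ..))
    (Over.homMk (eqToHom h'.symm ≫ l) (by
      show (eqToHom h'.symm ≫ l) ≫ pullback.snd f g = ρ.obj.snd.hom
      simp [l])) (Over.OverMorphism.ext ?_)⟩, fun m => ?_⟩⟩
  · show l ≫ 𝟙 _ = ρ.obj.iso.hom.left ≫ eqToHom h'.symm ≫ l
    rw [hh, Category.comp_id]
    simp
  · have e : m.hom.fst.left ≫ 𝟙 _ = ρ.obj.iso.hom.left ≫ m.hom.snd.left :=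
      congrArg CommaMorphism.left (fp_w m)
    rw [hh] at e
    have e' : m.hom.fst.left = eqToHom h' ≫ m.hom.snd.left := (Category.comp_id _).symm.trans e
    have e1 : m.hom.fst.left = l := by
      apply pullback.hom_ext
      · exact (Over.w m.hom.fst).trans (pullback.lift_fst _ _ _).symm
      · rw [e']
        erw [Category.assoc, Over.w m.hom.snd, pullback.lift_snd]
    refine fp_hom_ext (Over.OverMorphism.ext e1) (Over.OverMorphism.ext ?_)
    show m.hom.snd.left = eqToHom h'.symm ≫ l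
    rw [← e1, e']
    simp

/-- Any functor between representable categories is representable, given fibre products. -/
lemma isRepresentable_fp_of_isRepresentable [HasPullbacks C] {𝒳 : BasedCategory.{v₂, u₂} C}
    {𝒴 : BasedCategory.{v₃, u₃} C} {𝒮 : BasedCategory.{v₄, u₄} C} (h𝒳 : FibCat.IsRepresentable 𝒳)
    (h𝒴 : FibCat.IsRepresentable 𝒴) (h𝒮 : FibCat.IsRepresentable 𝒮) (F : 𝒳 ⥤ᵇ 𝒮) (G : 𝒴 ⥤ᵇ 𝒮) :
    FibCat.IsRepresentable (FibCat.fp F G) := by
  obtain ⟨A, EX, hEX⟩ := h𝒳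
  obtain ⟨B, EY, hEY⟩ := h𝒴
  obtain ⟨Y, D, hD⟩ := h𝒮
  obtain ⟨EX', hX', -, -⟩ := exists_inverse hEX
  obtain ⟨EY', hY', -, -⟩ := exists_inverse hEY
  have := isEquivalence_of_isEquivOver hD
  rw [← isRepresentable_fp_comp_left (a := EX') hX', ← isRepresentable_fp_comp_right (a := EY') hY',
    isRepresentable_fp_comp_target (s := D)]
  obtain ⟨f, ⟨i⟩⟩ := exists_iso_overMap (BasedFunctor.comp (BasedFunctor.comp EX' F) D)
  obtain ⟨g, ⟨j⟩⟩ := exists_iso_overMap (BasedFunctor.comp (BasedFunctor.comp EY' G) D)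
  rw [← isRepresentable_fp_iso i j]
  exact isRepresentable_fp_overMap f g

lemma isRepresentable_prod (A B : C) [HasBinaryProduct A B] :
    FibCat.IsRepresentable
      (FibCat.fp (FibCat.toSelf (FibCat.overCat A)) (FibCat.toSelf (FibCat.overCat B))) := by
  refine isRepresentable_of_terminal
    (fp_isFibGrpd (overCat_isFibGrpd A) (overCat_isFibGrpd B) selfOver_isFibGrpd _ _)
    (fpObj (Over.mk (prod.fst : A ⨯ B ⟶ A)) (Over.mk (prod.snd : A ⨯ B ⟶ B)) (Iso.refl _)
      (U := A ⨯ B) rfl (IsHomLift.id rfl)) fun ρ => ?_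
  haveI := iso_lift ρ (U := ρ.obj.fst.left) rfl
  have h' : ρ.obj.fst.left = ρ.obj.snd.left := (snd_p ρ).symm
  have hh : ρ.obj.iso.hom = eqToHom h' := by
    refine (IsHomLift.fac' (FibCat.selfOver C).p (𝟙 ρ.obj.fst.left) ρ.obj.iso.hom).trans ?_
    simp
  let l : ρ.obj.fst.left ⟶ A ⨯ B := prod.lift ρ.obj.fst.hom (eqToHom h' ≫ ρ.obj.snd.hom)
  refine ⟨⟨⟨fpHom (Over.homMk l (prod.lift_fst ..))
    (Over.homMk (eqToHom h'.symm ≫ l) (by
      show (eqToHom h'.symm ≫ l) ≫ prod.snd = ρ.obj.snd.hom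
      simp [l])) ?_⟩, fun m => ?_⟩⟩
  · show l ≫ 𝟙 _ = ρ.obj.iso.hom ≫ eqToHom h'.symm ≫ l
    rw [hh]
    simp
  · have e : m.hom.fst.left ≫ 𝟙 _ = ρ.obj.iso.hom ≫ m.hom.snd.left := fp_w m
    rw [hh, Category.comp_id] at e
    have e' : m.hom.fst.left = eqToHom h' ≫ m.hom.snd.left := e
    have e1 : m.hom.fst.left = l := by
      apply Limits.prod.hom_ext
      · exact (Over.w m.hom.fst).trans (prod.lift_fst _ _).symm
      · rw [e']
        erw [Category.assoc, Over.w m.hom.snd, prod.lift_snd]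
    refine fp_hom_ext (Over.OverMorphism.ext e1) (Over.OverMorphism.ext ?_)
    show m.hom.snd.left = eqToHom h'.symm ≫ l
    rw [← e1, e']
    simp

end Groth.Agent.FC16
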