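import Groth.Agent.Lib.FC16.Stack
import Groth.Agent.Lib.FC16.Slices
import Mathlib.CategoryTheory.Sites.InducedTopology
import Mathlib.CategoryTheory.Sites.CoverLifting
import Mathlib.CategoryTheory.Sites.CoverPreserving
import Mathlib.CategoryTheory.Sites.Over

/-! The inherited topology on a category fibred in groupoids. -/

universe v₃ u₃ v₂ u₂ v u

open CategoryTheory CategoryTheory.Functor Opposite

set_option linter.style.haveILetI false
set_option linter.unusedSimpArgs false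
set_option backward.isDefEq.respectTransparency false
set_option backward.isDefEq.respectTransparency.types false

namespace Groth.Agent.FC16

variable {C : Type u} [Category.{v} C] {𝒳 : Type u₂} [Category.{v₂} 𝒳] {p : 𝒳 ⥤ C}
  (hp : FibCat.IsFibGrpd p)

include hp

lemma push_map_iff {x z : 𝒳} (S : Sieve x) (φ : z ⟶ x) :
    S.functorPushforward p (p.map φ) ↔ S φ := by
  refine ⟨fun ⟨w, m, h, hm, e⟩ => ?_, fun h => Sieve.image_mem_functorPushforward p S h⟩
  haveI := hp.isStronglyCartesian m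
  haveI : p.IsHomLift (h ≫ p.map m) φ := e ▸ IsHomLift.map p φ
  rw [← IsStronglyCartesian.fac p (p.map m) m (rfl : h ≫ p.map m = h ≫ p.map m) φ]
  exact S.downward_closed hm _

lemma exists_map_eq {x : 𝒳} {V : C} (f : V ⟶ p.obj x) :
    ∃ (z : 𝒳) (φ : z ⟶ x) (e : p.obj z = V), p.map φ = eqToHom e ≫ f := by
  obtain ⟨z, φ, hφ⟩ := hp.exists_lift f
  haveI := hφ
  exact ⟨z, φ, IsHomLift.domain_eq p f φ, by simpa using IsHomLift.fac' p f φ⟩

lemma push_iff {x : 𝒳} (S : Sieve x) {V : C} {f : V ⟶ p.obj x} {z : 𝒳} (φ : z ⟶ x)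
    (e : p.obj z = V) (h : p.map φ = eqToHom e ≫ f) : S.functorPushforward p f ↔ S φ := by
  subst e
  rw [eqToHom_refl, Category.id_comp] at h
  subst h
  exact push_map_iff hp S φ

lemma push_pullback {x y : 𝒳} (S : Sieve x) (φ : y ⟶ x) :
    (S.pullback φ).functorPushforward p = (S.functorPushforward p).pullback (p.map φ) := by
  ext V g
  obtain ⟨z, ψ, e, hψ⟩ := exists_map_eq hp g
  rw [push_iff hp _ ψ e hψ, Sieve.pullback_apply, Sieve.pullback_apply,
    push_iff hp S (ψ ≫ φ) e (by rw [p.map_comp, hψ, Category.assoc])]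

lemma push_functorPullback {x : 𝒳} (T : Sieve (p.obj x)) :
    (T.functorPullback p).functorPushforward p = T := by
  ext V g
  obtain ⟨z, ψ, e, hψ⟩ := exists_map_eq hp g
  subst e
  rw [eqToHom_refl, Category.id_comp] at hψ
  subst hψ
  rw [push_map_iff hp]
  rfl

lemma mem_restrictedTopology_iff (J : GrothendieckTopology C) {x : 𝒳} (S : Sieve x) :
    S ∈ p.restrictedTopology J x ↔ S.functorPushforward p ∈ J (p.obj x) := by
  refine ⟨fun hS => ?_, p.mem_restrictedTopology_of_functorPushforward_mem⟩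
  rw [Functor.restrictedTopology] at hS
  induction hS with
  | of X S hS => rwa [← Sieve.generate_map_eq_functorPushforward]
  | top X => simp
  | pullback X S _ Y f ih => rw [push_pullback hp]; exact J.pullback_stable _ ih
  | transitive X S R _ _ hS H' =>
    refine J.transitive hS _ fun V f hf => ?_
    obtain ⟨z, ψ, e, hψ⟩ := exists_map_eq hp f
    have hψS := (push_iff hp S ψ e hψ).1 hf
    have h := H' hψS
    rw [push_pullback hp] at h
    subst e
    rw [eqToHom_refl, Category.id_comp] at hψ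
    rwa [← hψ]

lemma overPost_isEquivalence (x : 𝒳) :
    (Over.post p : Over x ⥤ Over (p.obj x)).IsEquivalence := by
  haveI : (Over.post p : Over x ⥤ Over (p.obj x)).Faithful := ⟨fun {a b φ ψ} h => by
    have h' : p.map φ.left = p.map ψ.left := congrArg CommaMorphism.left h
    haveI := hp.isStronglyCartesian b.hom
    haveI : p.IsHomLift (p.map φ.left) ψ.left := h' ▸ IsHomLift.map p ψ.left
    apply Over.OverMorphism.ext
    exact IsStronglyCartesian.ext p (p.map b.hom) b.hom (p.map φ.left) (by rw [Over.w, Over.w])⟩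
  haveI : (Over.post p : Over x ⥤ Over (p.obj x)).Full := ⟨fun {a b} g => by
    haveI := hp.isStronglyCartesian b.hom
    have hg : g.left ≫ p.map b.hom = p.map a.hom := Over.w g
    let χ := IsStronglyCartesian.map p (p.map b.hom) b.hom (g := g.left) (f' := p.map a.hom) hg.symm a.hom
    refine ⟨Over.homMk χ (IsStronglyCartesian.fac p (p.map b.hom) b.hom hg.symm a.hom), ?_⟩
    apply Over.OverMorphism.ext
    exact (IsHomLift.eq_of_isHomLift p g.left χ).symm⟩
  haveI : (Over.post p : Over x ⥤ Over (p.obj x)).EssSurj := ⟨fun b => by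
    obtain ⟨z, φ, e, hφ⟩ := exists_map_eq hp b.hom
    exact ⟨Over.mk φ, ⟨Over.isoMk (eqToIso e) hφ.symm⟩⟩⟩
  exact { }

lemma mem_over_restrictedTopology_iff (J : GrothendieckTopology C) (x : 𝒳) (a : Over x) (S : Sieve a) :
    S ∈ (p.restrictedTopology J).over x a ↔
      S.functorPushforward (Over.post p) ∈ (J.over (p.obj x)) ((Over.post p).obj a) := by
  rw [GrothendieckTopology.mem_over_iff, GrothendieckTopology.mem_over_iff,
    mem_restrictedTopology_iff hp, Sieve.overEquiv_functorPushforward_post]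
  rfl

omit hp

section Functor

variable {𝒳 : BasedCategory.{v₂, u₂} C} {𝒴 : BasedCategory.{v₃, u₃} C} (J : GrothendieckTopology C)

lemma push_comp_mem_iff (F : 𝒳 ⥤ᵇ 𝒴) {x : 𝒳.obj} (S : Sieve x) :
    (S.functorPushforward F.toFunctor).functorPushforward 𝒴.p ∈ J (𝒴.p.obj (F.obj x)) ↔
      S.functorPushforward 𝒳.p ∈ J (𝒳.p.obj x) := by
  rw [← Sieve.functorPushforward_comp]
  have : ∀ (q : 𝒳.obj ⥤ C), q = 𝒳.p → (S.functorPushforward q ∈ J (q.obj x) ↔
      S.functorPushforward 𝒳.p ∈ J (𝒳.p.obj x)) := by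
    rintro q rfl; rfl
  exact this _ F.w

variable (h𝒳 : FibCat.IsFibGrpd 𝒳.p) (h𝒴 : FibCat.IsFibGrpd 𝒴.p) (F : 𝒳 ⥤ᵇ 𝒴)

include h𝒳 h𝒴 in
lemma coverPreserving_basedFunctor :
    CoverPreserving (𝒳.p.restrictedTopology J) (𝒴.p.restrictedTopology J) F.toFunctor :=
  ⟨fun hS => (mem_restrictedTopology_iff h𝒴 J _).2
    ((push_comp_mem_iff J F _).2 ((mem_restrictedTopology_iff h𝒳 J _).1 hS))⟩

include h𝒳 h𝒴 in
lemma isCocontinuous_basedFunctor :
    F.toFunctor.IsCocontinuous (𝒳.p.restrictedTopology J) (𝒴.p.restrictedTopology J) where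
  cover_lift {x S} hS := by
    rw [mem_restrictedTopology_iff h𝒴] at hS
    rw [mem_restrictedTopology_iff h𝒳]
    have hx : 𝒴.p.obj (F.obj x) = 𝒳.p.obj x := F.w_obj x
    refine J.superset_covering ?_ (J.pullback_stable (eqToHom hx.symm) hS)
    intro V f hf
    obtain ⟨z, φ, e, hφ⟩ := exists_map_eq h𝒳 f
    refine (push_iff h𝒳 _ φ e hφ).2 ?_
    refine (push_iff h𝒴 S (F.map φ) ((F.w_obj z).trans e) ?_).1 hf
    rw [map_heq, hφ]
    simp

include h𝒳 h𝒴 in
lemma compatiblePreserving_basedFunctor.{w} (K : GrothendieckTopology 𝒴.obj) :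
    CompatiblePreserving.{w} K F.toFunctor where
  compatible ℱ {Z T x} hx {Y₁ Y₂ X} f₁ f₂ {g₁ g₂} hg₁ hg₂ e := by
    haveI := h𝒴.isStronglyCartesian f₁
    obtain ⟨z, χ₁, hχ₁⟩ := exists_lift h𝒳 (U := 𝒴.p.obj (F.obj Y₁)) (F.w_obj Y₁).symm (𝒴.p.map f₁)
    haveI := hχ₁
    haveI := isStronglyCartesian h𝒴 (𝒴.p.map f₁) (F.map χ₁)
    let i := IsCartesian.domainUniqueUpToIso 𝒴.p (𝒴.p.map f₁) (F.map χ₁) f₁
    have hi : i.hom ≫ F.map χ₁ = f₁ := IsCartesian.fac 𝒴.p (𝒴.p.map f₁) (F.map χ₁) f₁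
    haveI := h𝒳.isStronglyCartesian g₂
    have he : 𝒴.p.map f₁ ≫ 𝒴.p.map (F.map g₁) = 𝒴.p.map f₂ ≫ 𝒴.p.map (F.map g₂) := by
      rw [← 𝒴.p.map_comp, ← 𝒴.p.map_comp, e]
    haveI : 𝒳.p.IsHomLift (𝒴.p.map (F.map g₁)) g₁ := BasedFunctor.isHomLift_map F _ g₁
    haveI : 𝒳.p.IsHomLift (𝒴.p.map (F.map g₂)) g₂ := BasedFunctor.isHomLift_map F _ g₂
    haveI := isStronglyCartesian h𝒳 (𝒴.p.map (F.map g₂)) g₂
    haveI : 𝒳.p.IsHomLift (𝒴.p.map f₁ ≫ 𝒴.p.map (F.map g₁)) (χ₁ ≫ g₁) := inferInstance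
    let χ₂ := IsStronglyCartesian.map 𝒳.p (𝒴.p.map (F.map g₂)) g₂ (g := 𝒴.p.map f₂)
      (f' := 𝒴.p.map f₁ ≫ 𝒴.p.map (F.map g₁)) he (χ₁ ≫ g₁)
    have hχ₂ : χ₂ ≫ g₂ = χ₁ ≫ g₁ := IsStronglyCartesian.fac _ _ _ he _
    haveI := isStronglyCartesian h𝒴 (𝒴.p.map (F.map g₂)) (F.map g₂)
    haveI : 𝒴.p.IsHomLift (𝟙 (𝒴.p.obj X)) i.hom := inferInstance
    haveI : 𝒴.p.IsHomLift (𝒴.p.map f₂) (i.hom ≫ F.map χ₂) :=
      IsHomLift.comp_lift_id_left' (p := 𝒴.p) (𝒴.p.obj X) i.hom (𝒴.p.map f₂) (F.map χ₂)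
    have hi₂ : i.hom ≫ F.map χ₂ = f₂ := by
      apply IsStronglyCartesian.ext 𝒴.p (𝒴.p.map (F.map g₂)) (F.map g₂) (𝒴.p.map f₂)
      rw [Category.assoc, ← F.map_comp, hχ₂, F.map_comp, reassoc_of% hi, e]
    have := hx χ₁ χ₂ hg₁ hg₂ hχ₂.symm
    rw [← hi, ← hi₂, op_comp, op_comp, Functor.map_comp_apply, Functor.map_comp_apply]
    exact congrArg _ this

include h𝒳 h𝒴 in
lemma isContinuous_basedFunctor :
    F.toFunctor.IsContinuous (𝒳.p.restrictedTopology J) (𝒴.p.restrictedTopology J) :=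
  Functor.isContinuous_of_coverPreserving (compatiblePreserving_basedFunctor h𝒳 h𝒴 F _)
    (coverPreserving_basedFunctor J h𝒳 h𝒴 F)

end Functor

section Covering

variable {𝒳 𝒴 : BasedCategory.{v, max u v} C}

lemma comp_congr_left {𝒲 : BasedCategory.{v, max u v} C} {a b : 𝒳 ⥤ᵇ 𝒴} (i : a ≅ b) (G : 𝒴 ⥤ᵇ 𝒲) :
    Nonempty (BasedFunctor.comp a G ≅ BasedFunctor.comp b G) :=
  ⟨(postFun 𝒳 G).mapIso i⟩

end Covering

section FullyFaithful

variable {𝒳 𝒴 : BasedCategory.{v₂, u₂} C}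

lemma fullyFaithful_iff_postFun (h𝒳 : FibCat.IsFibGrpd 𝒳.p) (h𝒴 : FibCat.IsFibGrpd 𝒴.p)
    (F : 𝒳 ⥤ᵇ 𝒴) :
    (F.toFunctor.Full ∧ F.toFunctor.Faithful) ↔
      ∀ U : C, (postFun (FibCat.overCat U) F).Full ∧ (postFun (FibCat.overCat U) F).Faithful := by
  constructor
  · rintro ⟨_, _⟩ U
    refine ⟨⟨fun {a b} γ => ?_⟩, ⟨fun {a b α β} h => ?_⟩⟩
    · refine ⟨{ toNatTrans :=
                  { app := fun z => F.toFunctor.preimage (γ.toNatTrans.app z)
                    naturality := fun z z' g => F.toFunctor.map_injective ?_ }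
                isHomLift' := fun z => ?_ }, ?_⟩
      · rw [Functor.map_comp, Functor.map_comp, Functor.map_preimage, Functor.map_preimage]
        exact γ.toNatTrans.naturality g
      · haveI : 𝒴.p.IsHomLift (𝟙 ((FibCat.overCat U).p.obj z))
            (F.map (F.toFunctor.preimage (γ.toNatTrans.app z))) := by
          rw [Functor.map_preimage]; exact γ.isHomLift' z
        exact BasedFunctor.isHomLift_map F _ _
      · apply BasedNatTrans.homCategory.ext
        apply NatTrans.ext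
        funext z
        exact F.toFunctor.map_preimage _
    · apply BasedNatTrans.homCategory.ext
      apply NatTrans.ext
      funext z
      exact F.toFunctor.map_injective (congrArg (fun δ => δ.toNatTrans.app z) h)
  · intro H
    haveI := isFibered h𝒳
    have hF := presCart_of_isFibGrpd h𝒴 F
    have hff : FibFull F ∧ FibFaithful F := by
      refine ⟨?_, ?_⟩
      · intro U a b h hh
        have ha : 𝒳.p.obj a = U := (F.w_obj a).symm.trans (IsHomLift.domain_eq 𝒴.p (𝟙 U) h)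
        have hb : 𝒳.p.obj b = U := (F.w_obj b).symm.trans (IsHomLift.codomain_eq 𝒴.p (𝟙 U) h)
        haveI := hh
        let A := ofObj ha
        let B := ofObj hb
        let χ := F.map (ofObjIso ha).hom ≫ h ≫ F.map (ofObjIso hb).inv
        haveI : 𝒴.p.IsHomLift (𝟙 U) χ := by
          haveI := ofObjIso_lift ha; haveI := ofObjIso_lift hb
          dsimp only [χ]; infer_instance
        obtain ⟨γ, hγ⟩ := exists_natTrans (G := BasedFunctor.comp A F) (H := BasedFunctor.comp B F)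
          (presCart_of_isFibGrpd h𝒴 _) χ inferInstance
        obtain ⟨α, hα⟩ := (H U).1.map_surjective γ
        have hα' : F.map (α.toNatTrans.app (Over.mk (𝟙 U))) = χ :=
          (congrArg (fun δ => δ.toNatTrans.app (Over.mk (𝟙 U))) hα).trans hγ
        refine ⟨(ofObjIso ha).inv ≫ α.toNatTrans.app (Over.mk (𝟙 U)) ≫ (ofObjIso hb).hom, ?_, ?_⟩
        · haveI : 𝒳.p.IsHomLift (𝟙 U) (α.toNatTrans.app (Over.mk (𝟙 U))) := α.isHomLift' (Over.mk (𝟙 U))
          haveI := ofObjIso_lift ha; haveI := ofObjIso_lift hb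
          infer_instance
        · rw [F.map_comp, F.map_comp, hα']
          simp only [χ, Category.assoc, ← F.map_comp, Iso.inv_hom_id]
          simp [← F.toFunctor.map_comp_assoc]
      · intro U a b φ ψ hφ hψ h
        haveI := hφ; haveI := hψ
        have ha : 𝒳.p.obj a = U := IsHomLift.domain_eq 𝒳.p (𝟙 U) φ
        have hb : 𝒳.p.obj b = U := IsHomLift.codomain_eq 𝒳.p (𝟙 U) φ
        haveI := ofObjIso_lift ha; haveI := ofObjIso_lift hb
        let χ := (ofObjIso ha).hom ≫ φ ≫ (ofObjIso hb).inv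
        let χ' := (ofObjIso ha).hom ≫ ψ ≫ (ofObjIso hb).inv
        haveI : 𝒳.p.IsHomLift (𝟙 U) χ := by dsimp only [χ]; infer_instance
        haveI : 𝒳.p.IsHomLift (𝟙 U) χ' := by dsimp only [χ']; infer_instance
        obtain ⟨α, hα⟩ := exists_natTrans (G := ofObj ha) (H := ofObj hb) (ofObj_presCart hb) χ inferInstance
        obtain ⟨β, hβ⟩ := exists_natTrans (G := ofObj ha) (H := ofObj hb) (ofObj_presCart hb) χ' inferInstance
        have hαβ : α = β := (H U).2.map_injective (natTrans_ext (presCart_of_isFibGrpd h𝒴 _) _ _ (by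
          show F.map (α.toNatTrans.app _) = F.map (β.toNatTrans.app _)
          rw [hα, hβ]
          simp only [χ, χ', F.map_comp, h]))
        have := hβ
        rw [← hαβ, hα] at this
        simpa [χ, χ'] using this
    exact ⟨full_of_fib hF hff.1, faithful_of_fib hF hff.2⟩

end FullyFaithful

end Groth.Agent.FC16
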