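import Groth.Agent.Lib.FC16.BaseChange
import Groth.Agent.Lib.FC16.Topology
import Groth.Agent.Lib.FC16.Comp

/-! Stacks over a category fibred in groupoids. -/

universe v₇ u₇ v₆ u₆ v₅ u₅ v₄ u₄ v₃ u₃ v₂ u₂ v u

open CategoryTheory CategoryTheory.Functor

set_option linter.style.haveILetI false
set_option linter.unusedSimpArgs false
set_option linter.unusedVariables false
set_option linter.unusedSectionVars false
set_option backward.isDefEq.respectTransparency false
set_option backward.isDefEq.respectTransparency.types false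

namespace Groth.Agent.FC16

variable {C : Type u} [Category.{v} C]

section Square

variable {𝒳 : BasedCategory.{v₂, u₂} C} {𝒜 : BasedCategory.{v₃, u₃} C} {ℬ : BasedCategory.{v₄, u₄} C}
  {𝒜' : BasedCategory.{v₅, u₅} C} {ℬ' : BasedCategory.{v₆, u₆} C}

lemma restr_isEquivalence_of_square (hX : FibCat.IsFibGrpd 𝒳.p) {ι : 𝒜 ⥤ᵇ ℬ} {ι' : 𝒜' ⥤ᵇ ℬ'}
    (Φ : 𝒜 ⥤ᵇ 𝒜') (Ψ : ℬ ⥤ᵇ ℬ') [Φ.toFunctor.IsEquivalence] [Ψ.toFunctor.IsEquivalence]
    (h : BasedFunctor.comp Φ ι' = BasedFunctor.comp ι Ψ) [(Stk.restr ι' 𝒳).IsEquivalence] :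
    (Stk.restr ι 𝒳).IsEquivalence := by
  haveI := restr_isEquivalence_of_isEquivalence (𝒳 := 𝒳) Φ hX
  haveI := restr_isEquivalence_of_isEquivalence (𝒳 := 𝒳) Ψ hX
  haveI : (Stk.restr ι' 𝒳 ⋙ Stk.restr Φ 𝒳).IsEquivalence := inferInstance
  haveI : (Stk.restr (BasedFunctor.comp ι Ψ) 𝒳).IsEquivalence := by
    rw [← h]; exact inferInstanceAs (Stk.restr ι' 𝒳 ⋙ Stk.restr Φ 𝒳).IsEquivalence
  haveI : (Stk.restr Ψ 𝒳 ⋙ Stk.restr ι 𝒳).IsEquivalence :=
    inferInstanceAs (Stk.restr (BasedFunctor.comp ι Ψ) 𝒳).IsEquivalence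
  exact Functor.isEquivalence_of_comp_left (Stk.restr Ψ 𝒳) (Stk.restr ι 𝒳)

end Square

variable {𝒳 : BasedCategory.{v₂, u₂} C} (hX : FibCat.IsFibGrpd 𝒳.p)

section SliceOfBase

variable {U : C} (γ : FibCat.overCat U ⥤ᵇ 𝒳)

/-- the slice, over `𝒳` through a functor, maps to the slice of `𝒳` -/
def toSlice : BasedCategory.ofFunctor γ.toFunctor ⥤ᵇ FibCat.overCat (γ.obj (Over.mk (𝟙 U))) where
  toFunctor :=
    { obj := fun a => Over.mk (γ.map (toTerm a))
      map := fun {a b} g => Over.homMk (γ.map g) (by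
        show γ.map g ≫ γ.map (toTerm b) = γ.map (toTerm a)
        rw [← Functor.map_comp]
        exact congrArg γ.map (Over.OverMorphism.ext (Over.w g)))
      map_id := fun a => Over.OverMorphism.ext (γ.toFunctor.map_id a)
      map_comp := fun g g' => Over.OverMorphism.ext (γ.toFunctor.map_comp g g') }
  w := rfl

lemma map_toTerm_eq (a : Over U) :
    𝒳.p.map (γ.map (toTerm a)) ≫ eqToHom (γ.w_obj (Over.mk (𝟙 U))) = eqToHom (γ.w_obj a) ≫ a.hom := by
  rw [map_heq γ (toTerm a)]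
  simp
  rfl

/-- comparison with the slice of the base -/
def toSlicePost : (toSlice γ).toFunctor ⋙ Over.post 𝒳.p ≅
    (Over.mapIso (eqToIso (γ.w_obj (Over.mk (𝟙 U))).symm)).functor :=
  NatIso.ofComponents (fun a => Over.isoMk (eqToIso (γ.w_obj a)) (by
      show eqToHom (γ.w_obj a) ≫ a.hom ≫ eqToHom (γ.w_obj (Over.mk (𝟙 U))).symm =
        𝒳.p.map (γ.map (toTerm a))
      rw [← Category.assoc, comp_eqToHom_iff, ← map_toTerm_eq γ a]))
    (fun {a b} g => by
      apply Over.OverMorphism.ext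
      show 𝒳.p.map (γ.map g) ≫ eqToHom (γ.w_obj b) = eqToHom (γ.w_obj a) ≫ g.left
      rw [map_heq γ g]
      simp
      rfl)

include hX in
lemma toSlice_isEquivalence : (toSlice γ).toFunctor.IsEquivalence := by
  haveI := overPost_isEquivalence hX (γ.obj (Over.mk (𝟙 U)))
  haveI : ((toSlice γ).toFunctor ⋙ Over.post 𝒳.p).IsEquivalence :=
    Functor.isEquivalence_of_iso (toSlicePost γ).symm
  exact Functor.isEquivalence_of_comp_right (toSlice γ).toFunctor (Over.post 𝒳.p)

variable (R : Sieve U)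

/-- the induced sieve on the object of `𝒳` -/
abbrev sieveAt : Sieve (γ.obj (Over.mk (𝟙 U))) :=
  (R.pullback (eqToHom (γ.w_obj (Over.mk (𝟙 U))))).functorPullback 𝒳.p

lemma sieveAt_iff (a : Over U) : sieveAt γ R (γ.map (toTerm a)) ↔ R a.hom := by
  show R (𝒳.p.map (γ.map (toTerm a)) ≫ eqToHom (γ.w_obj (Over.mk (𝟙 U)))) ↔ _
  rw [map_toTerm_eq γ a]
  refine ⟨fun h => ?_, fun h => R.downward_closed h _⟩
  have := R.downward_closed h (eqToHom (γ.w_obj a).symm)
  simp at this
  exact this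

/-- the sieve, over `𝒳`, maps to the induced sieve -/
def toSliceSieve :
    BasedCategory.ofFunctor ((Stk.sieveIncl R).toFunctor ⋙ γ.toFunctor) ⥤ᵇ Stk.sieveCat (sieveAt γ R) where
  toFunctor :=
    { obj := fun a => ⟨(toSlice γ).obj a.obj, (sieveAt_iff γ R a.obj).2 a.property⟩
      map := fun g => ObjectProperty.homMk ((toSlice γ).map g.hom)
      map_id := fun a => ObjectProperty.hom_ext _ ((toSlice γ).toFunctor.map_id a.obj)
      map_comp := fun g g' => ObjectProperty.hom_ext _ ((toSlice γ).toFunctor.map_comp g.hom g'.hom) }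
  w := rfl

include hX in
lemma toSliceSieve_isEquivalence : (toSliceSieve γ R).toFunctor.IsEquivalence := by
  haveI := toSlice_isEquivalence hX γ
  let T := (toSlice γ).toFunctor
  haveI : (toSliceSieve γ R).toFunctor.Faithful := ⟨fun h =>
    ObjectProperty.hom_ext _ (T.map_injective (congrArg (fun m => m.hom) h))⟩
  haveI : (toSliceSieve γ R).toFunctor.Full := ⟨fun g =>
    ⟨ObjectProperty.homMk (T.preimage g.hom), ObjectProperty.hom_ext _ (T.map_preimage g.hom)⟩⟩
  haveI : (toSliceSieve γ R).toFunctor.EssSurj := ⟨fun b => by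
    let a := T.objPreimage b.obj
    let e : T.obj a ≅ b.obj := T.objObjPreimageIso b.obj
    have ha : R a.hom := (sieveAt_iff γ R a).1 (by
      have h2 : γ.map (toTerm a) = e.hom.left ≫ b.obj.hom := (Over.w e.hom).symm
      rw [h2]
      exact (sieveAt γ R).downward_closed b.property _)
    exact ⟨⟨a, ha⟩, ⟨ObjectProperty.isoMk _ e⟩⟩⟩
  exact { }

include hX in
lemma sieveAt_mem (J : GrothendieckTopology C) (hR : R ∈ J U) :
    sieveAt γ R ∈ 𝒳.p.restrictedTopology J (γ.obj (Over.mk (𝟙 U))) := by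
  rw [mem_restrictedTopology_iff hX, sieveAt, push_functorPullback hX]
  exact J.pullback_stable _ hR

end SliceOfBase

include hX in
lemma isStack_overBase (J : GrothendieckTopology C) (hS : Stk.IsStack J 𝒳)
    (𝒯 : BasedCategory.{v₄, u₄} 𝒳.obj) (hT : Stk.IsStack (𝒳.p.restrictedTopology J) 𝒯) :
    Stk.IsStack J (overBase 𝒯) := by
  refine ⟨isFibGrpd_comp hT.1 hX, fun U R hR => ?_⟩
  haveI : (Stk.restr (Stk.sieveIncl R) 𝒳).IsEquivalence := hS.2 R hR
  refine restr_comp_isEquivalence 𝒯 (Stk.sieveIncl R) hT.1 hX (fun γ => ?_)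
  haveI := toSlice_isEquivalence hX γ
  haveI := toSliceSieve_isEquivalence hX γ R
  haveI : (Stk.restr (Stk.sieveIncl (sieveAt γ R)) 𝒯).IsEquivalence := hT.2 _ (sieveAt_mem hX γ R J hR)
  exact restr_isEquivalence_of_square hT.1 (toSliceSieve γ R) (toSlice γ)
    (basedFunctor_ext rfl) (ι' := Stk.sieveIncl (sieveAt γ R))

section Forgetful

variable {𝒴 : BasedCategory.{v₃, u₃} C} (hY : FibCat.IsFibGrpd 𝒴.p) {y : 𝒴.obj} (R : Sieve y)

/-- the slice of an object maps to the slice of its image -/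
def postSlice (y : 𝒴.obj) : overBase (FibCat.overCat y) ⥤ᵇ FibCat.overCat (𝒴.p.obj y) where
  toFunctor := Over.post 𝒴.p
  w := rfl

/-- a sieve maps to its image -/
def postSieve : overBase (Stk.sieveCat R) ⥤ᵇ Stk.sieveCat (R.functorPushforward 𝒴.p) where
  toFunctor :=
    { obj := fun a => ⟨(Over.post 𝒴.p).obj a.obj, Sieve.image_mem_functorPushforward 𝒴.p R a.property⟩
      map := fun g => ObjectProperty.homMk ((Over.post 𝒴.p).map g.hom)
      map_id := fun a => ObjectProperty.hom_ext _ ((Over.post 𝒴.p).map_id a.obj)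
      map_comp := fun g g' => ObjectProperty.hom_ext _ ((Over.post 𝒴.p).map_comp g.hom g'.hom) }
  w := rfl

include hY in
lemma postSieve_isEquivalence : (postSieve R).toFunctor.IsEquivalence := by
  haveI := overPost_isEquivalence hY y
  let T : Over y ⥤ Over (𝒴.p.obj y) := Over.post 𝒴.p
  haveI : (postSieve R).toFunctor.Faithful := ⟨fun h =>
    ObjectProperty.hom_ext _ (T.map_injective (congrArg (fun m => m.hom) h))⟩
  haveI : (postSieve R).toFunctor.Full := ⟨fun g =>
    ⟨ObjectProperty.homMk (T.preimage g.hom), ObjectProperty.hom_ext _ (T.map_preimage g.hom)⟩⟩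
  haveI : (postSieve R).toFunctor.EssSurj := ⟨fun b => by
    let a := T.objPreimage b.obj
    let e : T.obj a ≅ b.obj := T.objObjPreimageIso b.obj
    have h2 : 𝒴.p.map a.hom = e.hom.left ≫ b.obj.hom := (Over.w e.hom).symm
    have ha : R a.hom := (push_map_iff hY R a.hom).1 (by
      rw [h2]
      exact (R.functorPushforward 𝒴.p).downward_closed b.property _)
    exact ⟨⟨a, ha⟩, ⟨ObjectProperty.isoMk _ e⟩⟩⟩
  exact { }

end Forgetful

lemma isStack_restricted (J : GrothendieckTopology C) {𝒴 : BasedCategory.{v₃, u₃} C}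
    (hX' : Stk.IsStack J 𝒳) (hY : Stk.IsStack J 𝒴) (F : 𝒳 ⥤ᵇ 𝒴) (hF : FibCat.IsFibGrpd F.toFunctor) :
    Stk.IsStack (𝒴.p.restrictedTopology J) (BasedCategory.ofFunctor F.toFunctor) := by
  refine ⟨hF, fun y R hR => ?_⟩
  have hR' := (mem_restrictedTopology_iff hY.1 J R).1 hR
  haveI := overPost_isEquivalence hY.1 y
  haveI : (postSlice y).toFunctor.IsEquivalence :=
    inferInstanceAs (Over.post 𝒴.p : Over y ⥤ Over (𝒴.p.obj y)).IsEquivalence
  haveI := postSieve_isEquivalence hY.1 R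
  haveI : (Stk.restr (Stk.sieveIncl (R.functorPushforward 𝒴.p)) 𝒳).IsEquivalence := hX'.2 _ hR'
  haveI : (Stk.restr (Stk.sieveIncl (R.functorPushforward 𝒴.p)) 𝒴).IsEquivalence := hY.2 _ hR'
  haveI : (Stk.restr (downBase (Stk.sieveIncl R)) 𝒳).IsEquivalence :=
    restr_isEquivalence_of_square hX'.1 (postSieve R) (postSlice y) (basedFunctor_ext rfl)
      (ι' := Stk.sieveIncl (R.functorPushforward 𝒴.p))
  haveI : (Stk.restr (downBase (Stk.sieveIncl R)) 𝒴).IsEquivalence :=
    restr_isEquivalence_of_square hY.1 (postSieve R) (postSlice y) (basedFunctor_ext rfl)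
      (ι' := Stk.sieveIncl (R.functorPushforward 𝒴.p))
  exact restr_over_isEquivalence F (Stk.sieveIncl R) hF

end Groth.Agent.FC16
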