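import Groth.Agent.Lib.FC16.Fp

/-! Inertia categories. -/

universe v₃ u₃ v₂ u₂ v u

open CategoryTheory CategoryTheory.Functor

set_option linter.style.haveILetI false
set_option backward.isDefEq.respectTransparency false
set_option backward.isDefEq.respectTransparency.types false

namespace Groth.Agent.FC16

variable {C : Type u} [Category.{v} C] {𝒳 : BasedCategory.{v₂, u₂} C} {𝒴 : BasedCategory.{v₃, u₃} C}
  {F : 𝒳 ⥤ᵇ 𝒴}

lemma aut_lift (x : (FibCat.inertia F).obj) {U : C} (hx : 𝒳.p.obj x.pt = U) :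
    𝒳.p.IsHomLift (𝟙 U) x.aut.hom := by
  haveI : 𝒴.p.IsHomLift (𝟙 U) (F.map x.aut.hom) := by
    rw [x.map_aut]; exact IsHomLift.id ((F.w_obj _).trans hx)
  exact BasedFunctor.isHomLift_map F _ _

lemma inertia_isStronglyCartesian {x y : (FibCat.inertia F).obj} {R S : C} (f : R ⟶ S) (φ : x ⟶ y)
    (h : 𝒳.p.IsStronglyCartesian f φ.hom) : (FibCat.inertia F).p.IsStronglyCartesian f φ where
  toIsHomLift := isHomLift_of_forget f φ h.toIsHomLift
  universal_property' := fun {z} g ψ hψ => by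
    haveI := h
    haveI : 𝒳.p.IsHomLift (g ≫ f) ψ.hom :=
      haveI := hψ; BasedFunctor.preserves_isHomLift (FibCat.inertiaToBase F) (g ≫ f) ψ
    let χ := IsStronglyCartesian.map 𝒳.p f φ.hom (g := g) (f' := g ≫ f) rfl ψ.hom
    have fc : χ ≫ φ.hom = ψ.hom := IsStronglyCartesian.fac ..
    haveI := aut_lift z (U := (FibCat.inertia F).p.obj z) rfl
    haveI := aut_lift x (U := R) (IsHomLift.domain_eq 𝒳.p f φ.hom)
    have hc : z.aut.hom ≫ χ = χ ≫ x.aut.hom := by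
      apply IsStronglyCartesian.ext 𝒳.p f φ.hom g
      rw [Category.assoc, fc, Category.assoc, φ.comm, ← Category.assoc, fc, ψ.comm]
    refine ⟨⟨χ, hc⟩, ⟨?_, FibCat.InertiaObj.hom_ext fc⟩, fun τ ⟨h1, h2⟩ => ?_⟩
    · exact isHomLift_of_forget g _ (inferInstanceAs (𝒳.p.IsHomLift g χ))
    · haveI : 𝒳.p.IsHomLift g τ.hom :=
        haveI := h1; BasedFunctor.preserves_isHomLift (FibCat.inertiaToBase F) g τ
      exact FibCat.InertiaObj.hom_ext
        (IsStronglyCartesian.map_uniq 𝒳.p f φ.hom (rfl : g ≫ f = g ≫ f) ψ.hom τ.hom (by rw [← h2]; rfl))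
where
  isHomLift_of_forget {a b : (FibCat.inertia F).obj} {R S : C} (f : R ⟶ S) (φ : a ⟶ b)
      (h : 𝒳.p.IsHomLift f φ.hom) : (FibCat.inertia F).p.IsHomLift f φ :=
    (BasedFunctor.isHomLift_iff (FibCat.inertiaToBase F) f φ).1 h

lemma inertia_exists_lift [𝒳.p.IsFibered] (hF : PresCart F) (y : (FibCat.inertia F).obj) {R : C}
    (f : R ⟶ (FibCat.inertia F).p.obj y) :
    ∃ (x : (FibCat.inertia F).obj) (φ : x ⟶ y), (FibCat.inertia F).p.IsStronglyCartesian f φ := by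
  obtain ⟨a, φ, hφ⟩ := exists_isStronglyCartesian (p := 𝒳.p) (rfl : 𝒳.p.obj y.pt = _) f
  haveI := aut_lift y (U := (FibCat.inertia F).p.obj y) rfl
  haveI := hφ
  haveI := hF f φ hφ
  haveI : 𝒳.p.IsCartesian f (φ ≫ y.aut.hom) := inferInstance
  let β := IsCartesian.domainUniqueUpToIso 𝒳.p f φ (φ ≫ y.aut.hom)
  have hβ : β.hom ≫ φ = φ ≫ y.aut.hom := IsCartesian.fac 𝒳.p f φ (φ ≫ y.aut.hom)
  haveI : 𝒳.p.IsHomLift (𝟙 R) β.hom := IsCartesian.map_isHomLift 𝒳.p f φ (φ ≫ y.aut.hom)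
  have hm : F.map β.hom = 𝟙 (F.obj a) := by
    haveI : 𝒴.p.IsHomLift (𝟙 R) (𝟙 (F.obj a)) :=
      IsHomLift.id ((F.w_obj a).trans (IsHomLift.domain_eq 𝒳.p f φ))
    apply IsCartesian.ext 𝒴.p f (F.map φ)
    rw [← F.map_comp, hβ, F.map_comp, y.map_aut, Category.comp_id, Category.id_comp]
  exact ⟨⟨a, β, hm⟩, ⟨φ, hβ⟩, inertia_isStronglyCartesian f _ hφ⟩

lemma inertia_isFibered [𝒳.p.IsFibered] (hF : PresCart F) : (FibCat.inertia F).p.IsFibered :=
  IsFibered.of_exists_isStronglyCartesian fun y _ f => inertia_exists_lift hF y f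

lemma inertia_isFibGrpd (h𝒳 : FibCat.IsFibGrpd 𝒳.p) (hF : PresCart F) :
    FibCat.IsFibGrpd (FibCat.inertia F).p where
  exists_lift {y R} f := by
    haveI := isFibered h𝒳
    obtain ⟨x, φ, h⟩ := inertia_exists_lift hF y f
    exact ⟨x, φ, h.toIsHomLift⟩
  isStronglyCartesian {x y} φ :=
    haveI : 𝒳.p.IsHomLift ((FibCat.inertia F).p.map φ) φ.hom := IsHomLift.map 𝒳.p φ.hom
    inertia_isStronglyCartesian _ φ (isStronglyCartesian h𝒳 _ φ.hom)

end Groth.Agent.FC16
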