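import Groth.Agent.Lib.FC16.Stack
import Groth.Agent.Lib.FC16.Slices

/-! Tools for gluing in stacks. -/

universe v₄ u₄ v₃ u₃ v₂ u₂ v u

open CategoryTheory CategoryTheory.Functor

set_option linter.style.haveILetI false
set_option linter.unusedSimpArgs false
set_option linter.unusedVariables false
set_option linter.unusedSectionVars false
set_option backward.isDefEq.respectTransparency false
set_option backward.isDefEq.respectTransparency.types false

namespace Groth.Agent.FC16

variable {C : Type u} [Category.{v} C] {𝒳 : BasedCategory.{v₂, u₂} C}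

/-- two lifts of the same morphism differ by a vertical isomorphism -/
lemma exists_iso_of_lifts {p : 𝒳.obj ⥤ C} (hp : FibCat.IsFibGrpd p) {V U : C} (h : V ⟶ U)
    {z z' x : 𝒳.obj} (π : z ⟶ x) (π' : z' ⟶ x) [p.IsHomLift h π] [p.IsHomLift h π'] :
    ∃ e : z ≅ z', p.IsHomLift (𝟙 V) e.hom ∧ e.hom ≫ π' = π := by
  haveI := isStronglyCartesian hp h π
  haveI := isStronglyCartesian hp h π'
  exact ⟨IsCartesian.domainUniqueUpToIso p h π' π, IsCartesian.map_isHomLift p h π' π,
    IsCartesian.fac p h π' π⟩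

lemma nat_app_sieve {U : C} {R : Sieve U} {s t : FibCat.overCat U ⥤ᵇ 𝒳}
    (α : (Stk.resSieve R 𝒳).obj s ⟶ (Stk.resSieve R 𝒳).obj t) {a b : (Stk.sieveCat R).obj} (g : a ⟶ b) :
    s.map ((Stk.sieveIncl R).map g) ≫ α.toNatTrans.app b =
      α.toNatTrans.app a ≫ t.map ((Stk.sieveIncl R).map g) :=
  α.toNatTrans.naturality g

/-- vertical endomorphisms that are trivial on a covering are trivial -/
lemma vertical_endo_eq_id (hX : FibCat.IsFibGrpd 𝒳.p) {U : C} (R : Sieve U)
    [(Stk.resSieve R 𝒳).Faithful] {x : 𝒳.obj} (χ : x ⟶ x) [𝒳.p.IsHomLift (𝟙 U) χ]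
    (hR : ∀ ⦃V : C⦄ (h : V ⟶ U), R h →
      ∃ (z : 𝒳.obj) (π : z ⟶ x), 𝒳.p.IsHomLift h π ∧ π ≫ χ = π) : χ = 𝟙 x := by
  haveI := isFibered hX
  have hx : 𝒳.p.obj x = U := IsHomLift.domain_eq 𝒳.p (𝟙 U) χ
  haveI := ofObjIso_lift hx
  let χ₀ := (ofObjIso hx).hom ≫ χ ≫ (ofObjIso hx).inv
  haveI : 𝒳.p.IsHomLift (𝟙 U) χ₀ := by dsimp only [χ₀]; infer_instance
  obtain ⟨α, hα⟩ := exists_natTrans (G := ofObj hx) (H := ofObj hx) (ofObj_presCart hx) χ₀ inferInstance
  have h1 : α = 𝟙 _ := by
    apply (Stk.resSieve R 𝒳).map_injective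
    apply BasedNatTrans.homCategory.ext
    apply NatTrans.ext
    funext a
    let b : Over U := (Stk.sieveIncl R).obj a
    show α.toNatTrans.app b = 𝟙 _
    haveI := map_toTerm_cart (ofObj_presCart hx) b
    haveI : 𝒳.p.IsHomLift (𝟙 b.left) (α.toNatTrans.app b) := BasedNatTrans.isHomLift α rfl
    haveI : 𝒳.p.IsHomLift (𝟙 b.left) (𝟙 ((ofObj hx).obj b)) := IsHomLift.id ((ofObj hx).w_obj b)
    apply IsStronglyCartesian.ext 𝒳.p b.hom ((ofObj hx).map (toTerm b)) (𝟙 b.left)
    rw [Category.id_comp, ← α.toNatTrans.naturality (toTerm b), hα]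
    obtain ⟨z, π, hπ, hχ⟩ := hR b.hom a.property
    haveI := hπ
    obtain ⟨e, -, he⟩ := exists_iso_of_lifts hX b.hom
      ((ofObj hx).map (toTerm b) ≫ (ofObjIso hx).hom) π
    simp only [χ₀, ← Category.assoc]
    rw [Iso.comp_inv_eq, ← he, Category.assoc, hχ]
  rw [h1] at hα
  have h2 : 𝟙 _ = χ₀ := hα
  have h3 : χ = (ofObjIso hx).inv ≫ χ₀ ≫ (ofObjIso hx).hom := by simp [χ₀]
  rw [h3, ← h2]
  erw [Category.id_comp, Iso.inv_hom_id]

/-- morphisms over a fixed morphism that agree on a covering are equal -/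
lemma hom_ext_of_cover (hX : FibCat.IsFibGrpd 𝒳.p) {U U' : C} (R : Sieve U)
    [(Stk.resSieve R 𝒳).Faithful] {f : U ⟶ U'} {x y : 𝒳.obj} (φ ψ : x ⟶ y)
    [𝒳.p.IsHomLift f φ] [𝒳.p.IsHomLift f ψ]
    (hR : ∀ ⦃V : C⦄ (h : V ⟶ U), R h →
      ∃ (z : 𝒳.obj) (π : z ⟶ x), 𝒳.p.IsHomLift h π ∧ π ≫ φ = π ≫ ψ) : φ = ψ := by
  haveI := isStronglyCartesian hX f ψ
  have hfac : IsCartesian.map 𝒳.p f ψ φ ≫ ψ = φ := IsCartesian.fac 𝒳.p f ψ φ
  suffices h : IsCartesian.map 𝒳.p f ψ φ = 𝟙 x by rw [← hfac, h, Category.id_comp]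
  refine vertical_endo_eq_id hX R _ (fun V h hh => ?_)
  obtain ⟨z, π, hπ, e⟩ := hR h hh
  haveI := hπ
  refine ⟨z, π, hπ, ?_⟩
  haveI : 𝒳.p.IsHomLift h (π ≫ IsCartesian.map 𝒳.p f ψ φ) :=
    IsHomLift.comp_lift_id_right' (p := 𝒳.p) h π U (IsCartesian.map 𝒳.p f ψ φ)
  apply IsStronglyCartesian.ext 𝒳.p f ψ h
  rw [Category.assoc, hfac, e]

section Conj

variable {𝒜 : BasedCategory.{v₃, u₃} C} (s : 𝒜 ⥤ᵇ 𝒳) {q : 𝒜.obj → 𝒳.obj}
  (e : ∀ a, s.obj a ≅ q a) (he : ∀ a, 𝒳.p.IsHomLift (𝟙 (𝒜.p.obj a)) (e a).hom)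

/-- change the objects of a based functor along vertical isomorphisms -/
def conjFunctor : 𝒜 ⥤ᵇ 𝒳 where
  toFunctor :=
    { obj := q
      map := fun {a b} g => (e a).inv ≫ s.map g ≫ (e b).hom
      map_id := fun a => by simp
      map_comp := fun {a b c} g g' => by simp }
  w := by
    refine CategoryTheory.Functor.ext (fun a => ?_) (fun a b g => ?_)
    · haveI := he a
      exact IsHomLift.codomain_eq 𝒳.p (𝟙 (𝒜.p.obj a)) (e a).hom
    · haveI := he a; haveI := he b
      exact IsHomLift.fac' 𝒳.p (𝒜.p.map g) ((e a).inv ≫ s.map g ≫ (e b).hom)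

/-- the isomorphism with the original functor -/
def conjIso : s ≅ conjFunctor s e he :=
  BasedNatIso.mkNatIso (NatIso.ofComponents e (fun {a b} g => by
    show s.map g ≫ (e b).hom = (e a).hom ≫ (e a).inv ≫ s.map g ≫ (e b).hom
    simp)) he

end Conj

section PostFF

variable {𝒴 : BasedCategory.{v₃, u₃} C} (𝒜 : BasedCategory.{v₄, u₄} C) (F : 𝒳 ⥤ᵇ 𝒴)
  [F.toFunctor.Faithful]

lemma postFun_faithful : (postFun 𝒜 F).Faithful :=
  ⟨fun {a b α β} h => by
    apply BasedNatTrans.homCategory.ext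
    apply NatTrans.ext
    funext z
    exact F.toFunctor.map_injective (congrArg (fun δ => δ.toNatTrans.app z) h)⟩

variable [F.toFunctor.Full]

lemma postFun_full : (postFun 𝒜 F).Full :=
  ⟨fun {a b} γ => by
    refine ⟨{ toNatTrans :=
                { app := fun z => F.toFunctor.preimage (γ.toNatTrans.app z)
                  naturality := fun z z' g => F.toFunctor.map_injective ?_ }
              isHomLift' := fun z => ?_ }, ?_⟩
    · rw [Functor.map_comp, Functor.map_comp, Functor.map_preimage, Functor.map_preimage]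
      exact γ.toNatTrans.naturality g
    · haveI : 𝒴.p.IsHomLift (𝟙 (𝒜.p.obj z)) (F.map (F.toFunctor.preimage (γ.toNatTrans.app z))) := by
        rw [Functor.map_preimage]; exact γ.isHomLift' z
      exact BasedFunctor.isHomLift_map F _ _
    · apply BasedNatTrans.homCategory.ext
      apply NatTrans.ext
      funext z
      exact F.toFunctor.map_preimage _⟩

end PostFF

section Refinement

variable {U : C} {S R : Sieve U}

/-- inclusion between sieves -/
def sieveLE (h : S ≤ R) : Stk.sieveCat S ⥤ᵇ Stk.sieveCat R where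
  toFunctor :=
    { obj := fun a => ⟨a.obj, h _ a.property⟩
      map := fun g => ObjectProperty.homMk g.hom
      map_id := fun _ => rfl
      map_comp := fun _ _ => rfl }
  w := rfl

/-- the slice over the source of an arrow of the sieve maps to the sieve -/
def sieveArrow {V : C} (f : V ⟶ U) (hf : R f) : FibCat.overCat V ⥤ᵇ Stk.sieveCat R where
  toFunctor :=
    { obj := fun a => ⟨(Over.map f).obj a, R.downward_closed hf a.hom⟩
      map := fun g => ObjectProperty.homMk ((Over.map f).map g)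
      map_id := fun a => ObjectProperty.hom_ext _ ((Over.map f).map_id a)
      map_comp := fun g g' => ObjectProperty.hom_ext _ ((Over.map f).map_comp g g') }
  w := Over.mapForget_eq f

variable (hX : FibCat.IsFibGrpd 𝒳.p) (hSR : S ≤ R)
  (hR : ∀ ⦃V : C⦄ (f : V ⟶ U), R f → Stk.IsPrestackFor (S.pullback f) 𝒳)

include hR in
lemma restr_sieveLE_faithful : (Stk.restr (sieveLE hSR) 𝒳).Faithful where
  map_injective {t t' α β} h := by
    apply BasedNatTrans.homCategory.ext
    apply NatTrans.ext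
    funext a
    let V := a.obj.left
    let f : V ⟶ U := a.obj.hom
    haveI := (hR f a.property).2
    let I := sieveArrow f a.property
    have key : BasedCategory.whiskerLeft I α = BasedCategory.whiskerLeft I β := by
      apply (Stk.resSieve (S.pullback f) 𝒳).map_injective
      apply BasedNatTrans.homCategory.ext
      apply NatTrans.ext
      funext b
      exact congrArg (fun δ => δ.toNatTrans.app ⟨(Over.map f).obj b.obj, b.property⟩) h
    let u : a ⟶ I.obj (Over.mk (𝟙 V)) := ObjectProperty.homMk (Over.homMk (𝟙 V) (by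
      show 𝟙 V ≫ 𝟙 V ≫ f = f
      simp))
    let u' : I.obj (Over.mk (𝟙 V)) ⟶ a := ObjectProperty.homMk (Over.homMk (𝟙 V) (by
      show 𝟙 V ≫ f = 𝟙 V ≫ f
      rfl))
    have hu : u ≫ u' = 𝟙 a := by
      apply ObjectProperty.hom_ext
      apply Over.OverMorphism.ext
      exact Category.id_comp _
    have hval : α.toNatTrans.app (I.obj (Over.mk (𝟙 V))) = β.toNatTrans.app (I.obj (Over.mk (𝟙 V))) :=
      congrArg (fun δ => δ.toNatTrans.app (Over.mk (𝟙 V))) key
    have : ∀ γ : t ⟶ t', γ.toNatTrans.app a =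
        t.map u ≫ γ.toNatTrans.app (I.obj (Over.mk (𝟙 V))) ≫ t'.map u' := by
      intro γ
      rw [← γ.toNatTrans.naturality u', ← t.toFunctor.map_comp_assoc, hu, t.toFunctor.map_id,
        Category.id_comp]
    rw [this α, this β, hval]

include hX hR in
lemma restr_sieveLE_full : (Stk.restr (sieveLE hSR) 𝒳).Full where
  map_surjective {t t'} γ := by
    have key : ∀ a : (Stk.sieveCat R).obj, ∃ δ : t.obj a ⟶ t'.obj a,
        𝒳.p.IsHomLift (𝟙 a.obj.left) δ ∧
        ∀ (b : (Stk.sieveCat S).obj) (k : (sieveLE hSR).obj b ⟶ a),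
          t.map k ≫ δ = γ.toNatTrans.app b ≫ t'.map k := by
      intro a
      let V := a.obj.left
      let f : V ⟶ U := a.obj.hom
      haveI := (hR f a.property).1
      let I := sieveArrow f a.property
      let J : Stk.sieveCat (S.pullback f) ⥤ᵇ Stk.sieveCat S :=
        { toFunctor :=
            { obj := fun b => ⟨(Over.map f).obj b.obj, b.property⟩
              map := fun g => ObjectProperty.homMk ((Over.map f).map g.hom)
              map_id := fun b => ObjectProperty.hom_ext _ ((Over.map f).map_id b.obj)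
              map_comp := fun g g' => ObjectProperty.hom_ext _ ((Over.map f).map_comp g.hom g'.hom) }
          w := rfl }
      obtain ⟨β, hβ⟩ := (Stk.resSieve (S.pullback f) 𝒳).map_surjective (X := BasedFunctor.comp I t)
        (Y := BasedFunctor.comp I t') (BasedCategory.whiskerLeft J γ)
      let u : a ⟶ I.obj (Over.mk (𝟙 V)) := ObjectProperty.homMk (Over.homMk (𝟙 V) (by
        show 𝟙 V ≫ 𝟙 V ≫ f = f
        simp))
      let u' : I.obj (Over.mk (𝟙 V)) ⟶ a := ObjectProperty.homMk (Over.homMk (𝟙 V) (by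
        show 𝟙 V ≫ f = 𝟙 V ≫ f
        rfl))
      refine ⟨t.map u ≫ β.toNatTrans.app (Over.mk (𝟙 V)) ≫ t'.map u', ?_, fun b k => ?_⟩
      · haveI : (Stk.sieveCat R).p.IsHomLift (𝟙 V) u := IsHomLift.map (Stk.sieveCat R).p u
        haveI : (Stk.sieveCat R).p.IsHomLift (𝟙 V) u' := IsHomLift.map (Stk.sieveCat R).p u'
        haveI : 𝒳.p.IsHomLift (𝟙 V) (β.toNatTrans.app (Over.mk (𝟙 V))) := β.isHomLift' (Over.mk (𝟙 V))
        exact inferInstanceAs (𝒳.p.IsHomLift (𝟙 V) (t.map u ≫ β.toNatTrans.app (Over.mk (𝟙 V)) ≫ t'.map u'))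
      · have hk : k.hom.left ≫ f = b.obj.hom := Over.w k.hom
        have hkS : S (k.hom.left ≫ f) := by rw [hk]; exact b.property
        let b' : (Stk.sieveCat (S.pullback f)).obj := ⟨Over.mk k.hom.left, hkS⟩
        have hb' : β.toNatTrans.app b'.obj = γ.toNatTrans.app (J.obj b') :=
          congrArg (fun δ => δ.toNatTrans.app b') hβ
        let v : b ⟶ J.obj b' := ObjectProperty.homMk (Over.homMk (𝟙 _) (by
          show 𝟙 _ ≫ k.hom.left ≫ f = b.obj.hom
          rw [Category.id_comp, hk]))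
        let m : b'.obj ⟶ Over.mk (𝟙 V) := toTerm _
        have hm : k ≫ u = (sieveLE hSR).map v ≫ I.map m := by
          apply ObjectProperty.hom_ext
          apply Over.OverMorphism.ext
          show k.hom.left ≫ 𝟙 V = 𝟙 _ ≫ k.hom.left
          simp
          erw [Category.comp_id]
        have hm' : (sieveLE hSR).map v ≫ I.map m ≫ u' = k := by
          apply ObjectProperty.hom_ext
          apply Over.OverMorphism.ext
          show 𝟙 _ ≫ k.hom.left ≫ 𝟙 V = k.hom.left
          simp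
          erw [Category.comp_id]
        have n1 : t.map (I.map m) ≫ β.toNatTrans.app (Over.mk (𝟙 V)) =
            β.toNatTrans.app b'.obj ≫ t'.map (I.map m) := β.toNatTrans.naturality m
        have n2 : t.map ((sieveLE hSR).map v) ≫ γ.toNatTrans.app (J.obj b') =
            γ.toNatTrans.app b ≫ t'.map ((sieveLE hSR).map v) := γ.toNatTrans.naturality v
        rw [← t.toFunctor.map_comp_assoc, hm, t.toFunctor.map_comp_assoc, reassoc_of% n1, hb',
          reassoc_of% n2, ← t'.toFunctor.map_comp, ← t'.toFunctor.map_comp, hm']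
    choose δ hδ hδ' using key
    refine ⟨{ toNatTrans := { app := δ, naturality := fun a a' g => ?_ }
              isHomLift' := hδ }, ?_⟩
    · haveI := hδ a; haveI := hδ a'
      haveI : (Stk.sieveCat R).p.IsHomLift g.hom.left g := IsHomLift.map (Stk.sieveCat R).p g
      haveI : 𝒳.p.IsHomLift g.hom.left (t.map g) := BasedFunctor.preserves_isHomLift t g.hom.left g
      haveI : 𝒳.p.IsHomLift g.hom.left (t'.map g) := BasedFunctor.preserves_isHomLift t' g.hom.left g
      haveI := (hR a.obj.hom a.property).2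
      refine hom_ext_of_cover hX (S.pullback a.obj.hom) (f := g.hom.left) (t.map g ≫ δ a') (δ a ≫ t'.map g)
        (fun W h hh => ?_)
      let b : (Stk.sieveCat S).obj := ⟨Over.mk (h ≫ a.obj.hom), hh⟩
      let k : (sieveLE hSR).obj b ⟶ a := ObjectProperty.homMk (Over.homMk h rfl)
      haveI : (Stk.sieveCat R).p.IsHomLift h k := IsHomLift.map (Stk.sieveCat R).p k
      refine ⟨_, t.map k, BasedFunctor.preserves_isHomLift t h k, ?_⟩
      rw [← t.toFunctor.map_comp_assoc, hδ' a' b (k ≫ g), reassoc_of% hδ' a b k, t'.toFunctor.map_comp]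
    · apply BasedNatTrans.homCategory.ext
      apply NatTrans.ext
      funext b
      show δ ((sieveLE hSR).obj b) = γ.toNatTrans.app b
      have := hδ' _ b (𝟙 _)
      rw [t.toFunctor.map_id, t'.toFunctor.map_id, Category.id_comp] at this
      exact this.trans (Category.comp_id _)

include hX hR hSR in
lemma isStackFor_of_refinement (hS : Stk.IsStackFor S 𝒳) : Stk.IsStackFor R 𝒳 := by
  haveI := restr_sieveLE_faithful (𝒳 := 𝒳) hSR hR
  haveI := restr_sieveLE_full hX hSR hR
  haveI : (Stk.resSieve R 𝒳 ⋙ Stk.restr (sieveLE hSR) 𝒳).IsEquivalence := hS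
  haveI : (Stk.restr (sieveLE hSR) 𝒳).EssSurj :=
    ⟨fun t => ⟨(Stk.resSieve R 𝒳).obj ((Stk.resSieve R 𝒳 ⋙ Stk.restr (sieveLE hSR) 𝒳).objPreimage t),
      ⟨(Stk.resSieve R 𝒳 ⋙ Stk.restr (sieveLE hSR) 𝒳).objObjPreimageIso t⟩⟩⟩
  haveI : (Stk.restr (sieveLE hSR) 𝒳).IsEquivalence := { }
  exact Functor.isEquivalence_of_comp_right (Stk.resSieve R 𝒳) (Stk.restr (sieveLE hSR) 𝒳)

end Refinement

end Groth.Agent.FC16
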