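import Groth.Agent.Lib.FC16.Repr

/-! Functors to the base as a category over itself; whiskering isomorphisms. -/

universe v₄ u₄ v₃ u₃ v₂ u₂ v u

open CategoryTheory CategoryTheory.Functor

set_option linter.style.haveILetI false
set_option backward.isDefEq.respectTransparency false
set_option backward.isDefEq.respectTransparency.types false

namespace Groth.Agent.FC16

variable {C : Type u} [Category.{v} C] {𝒳 : BasedCategory.{v₂, u₂} C} {𝒴 : BasedCategory.{v₃, u₃} C}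
  {𝒵 : BasedCategory.{v₄, u₄} C}

lemma basedFunctor_ext {F G : 𝒳 ⥤ᵇ 𝒴} (h : F.toFunctor = G.toFunctor) : F = G := by
  cases F; cases G; congr

lemma selfOver_functor_eq (A B : 𝒳 ⥤ᵇ FibCat.selfOver C) : A = B :=
  basedFunctor_ext (A.w.trans B.w.symm)

/-- whiskering on the left -/
noncomputable def isoWhiskerL (a : 𝒳 ⥤ᵇ 𝒴) {F G : 𝒴 ⥤ᵇ 𝒵} (e : F ≅ G) :
    BasedFunctor.comp a F ≅ BasedFunctor.comp a G :=
  BasedNatIso.mkNatIso (Functor.isoWhiskerLeft a.toFunctor ((BasedNatTrans.forgetful _ _).mapIso e))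
    (fun x => BasedNatTrans.isHomLift e.hom (a.w_obj x))

/-- whiskering on the right -/
noncomputable def isoWhiskerR {F G : 𝒳 ⥤ᵇ 𝒴} (e : F ≅ G) (a : 𝒴 ⥤ᵇ 𝒵) :
    BasedFunctor.comp F a ≅ BasedFunctor.comp G a :=
  BasedNatIso.mkNatIso (Functor.isoWhiskerRight ((BasedNatTrans.forgetful _ _).mapIso e) a.toFunctor)
    (fun x =>
      haveI := isHomLift_appIso_hom e x (U := 𝒳.p.obj x) rfl
      BasedFunctor.preserves_isHomLift a _ (appIso e x).hom)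

section ProdMap

variable {𝒳₁ : BasedCategory.{v₃, u₃} C} {𝒳₂ : BasedCategory.{v₃, u₃} C}
  {𝒴₁ : BasedCategory.{v₃, u₃} C} {𝒴₂ : BasedCategory.{v₃, u₃} C}
  (G : 𝒳 ⥤ᵇ FibCat.fp (FibCat.toSelf 𝒴₁) (FibCat.toSelf 𝒴₂))
  (f₁ : 𝒳₁ ⥤ᵇ 𝒴₁) (f₂ : 𝒳₂ ⥤ᵇ 𝒴₂)
  (e : BasedFunctor.comp (BasedFunctor.comp (FibCat.fpFst (FibCat.toSelf 𝒳₁) (FibCat.toSelf 𝒳₂)) f₁) (FibCat.toSelf 𝒴₁) ≅
    BasedFunctor.comp (BasedFunctor.comp (FibCat.fpSnd (FibCat.toSelf 𝒳₁) (FibCat.toSelf 𝒳₂)) f₂) (FibCat.toSelf 𝒴₂))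

/-- first stage -/
abbrev stage₁ : BasedCategory C := FibCat.fp (BasedFunctor.comp G (FibCat.fpFst _ _)) f₁

/-- second stage -/
abbrev stage₂ : BasedCategory C :=
  FibCat.fp (BasedFunctor.comp (FibCat.fpFst (BasedFunctor.comp G (FibCat.fpFst _ _)) f₁)
    (BasedFunctor.comp G (FibCat.fpSnd _ _))) f₂

/-- the pair of components -/
noncomputable def stagePair : stage₂ G f₁ f₂ ⥤ᵇ FibCat.fp (FibCat.toSelf 𝒳₁) (FibCat.toSelf 𝒳₂) :=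
  FibCat.fpLift (BasedFunctor.comp (FibCat.fpFst _ _) (FibCat.fpSnd _ f₁)) (FibCat.fpSnd _ f₂)
    (eqToIso (selfOver_functor_eq _ _))

/-- the product map -/
noncomputable abbrev prodMap :=
  FibCat.fpLift (BasedFunctor.comp (FibCat.fpFst (FibCat.toSelf 𝒳₁) (FibCat.toSelf 𝒳₂)) f₁)
    (BasedFunctor.comp (FibCat.fpSnd (FibCat.toSelf 𝒳₁) (FibCat.toSelf 𝒳₂)) f₂) e

lemma selfIso_w {x y : (FibCat.fp (FibCat.toSelf 𝒴₁) (FibCat.toSelf 𝒴₂)).obj} {R : C}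
    (hx : 𝒴₁.p.obj x.obj.fst = R) (hy : 𝒴₁.p.obj y.obj.fst = R)
    (a : x.obj.fst ⟶ y.obj.fst) (b : x.obj.snd ⟶ y.obj.snd)
    [𝒴₁.p.IsHomLift (𝟙 R) a] [𝒴₂.p.IsHomLift (𝟙 R) b] :
    (FibCat.toSelf 𝒴₁).map a ≫ y.obj.iso.hom = x.obj.iso.hom ≫ (FibCat.toSelf 𝒴₂).map b := by
  haveI := iso_lift x hx
  haveI := iso_lift y hy
  exact selfOver_hom_ext (𝟙 R) _ _

/-- iso part of the comparison -/
noncomputable def stageIso (Q : (stage₂ G f₁ f₂).obj) :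
    G.obj Q.obj.fst.obj.fst ≅ (prodMap f₁ f₂ e).obj ((stagePair G f₁ f₂).obj Q) :=
  fpIsoMk Q.obj.fst.obj.iso Q.obj.iso (by
    haveI := iso_lift Q.obj.fst (U := 𝒳.p.obj Q.obj.fst.obj.fst) rfl
    haveI := iso_lift Q (U := 𝒳.p.obj Q.obj.fst.obj.fst) rfl
    exact selfIso_w (G.w_obj _) ((f₁.w_obj _).trans (snd_p Q.obj.fst)) _ _)

/-- comparison functor -/
noncomputable def stageFun : stage₂ G f₁ f₂ ⥤ᵇ FibCat.fp G (prodMap f₁ f₂ e) :=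
  FibCat.fpLift (BasedFunctor.comp (FibCat.fpFst _ _) (FibCat.fpFst _ f₁)) (stagePair G f₁ f₂)
    (BasedNatIso.mkNatIso
      (NatIso.ofComponents (fun Q => stageIso G f₁ f₂ e Q) (fun {Q Q'} φ => fp_hom_ext
        (fp_w φ.hom.fst) (fp_w φ)))
      (fun Q =>
        haveI := iso_lift Q.obj.fst (U := 𝒳.p.obj Q.obj.fst.obj.fst) rfl
        @isHomLift_of_fst _ _ _ _ _ _ _ _ _ _ _ _ _ this))

lemma stageFun_isEquivOver : FibCat.IsEquivOver (stageFun G f₁ f₂ e) := by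
  have : (stageFun G f₁ f₂ e).toFunctor.Faithful := ⟨fun {Q Q' φ φ'} h => by
    exact fp_hom_ext (fp_hom_ext (congrArg (fun t => t.hom.fst) h)
      (congrArg (fun t => t.hom.snd.hom.fst) h)) (congrArg (fun t => t.hom.snd.hom.snd) h)⟩
  have : (stageFun G f₁ f₂ e).toFunctor.Full := ⟨fun {Q Q'} φ =>
    ⟨fpHom (fpHom φ.hom.fst φ.hom.snd.hom.fst (congrArg (fun t => t.hom.fst) (fp_w φ)))
      φ.hom.snd.hom.snd (congrArg (fun t => t.hom.snd) (fp_w φ)),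
      fp_hom_ext rfl (fp_hom_ext rfl rfl)⟩⟩
  refine isEquivOver_of _ fun η => ?_
  have hU : 𝒳.p.obj η.obj.fst = 𝒳.p.obj η.obj.fst := rfl
  haveI := iso_lift η hU
  let ψ₁ := (FibCat.fpFst (FibCat.toSelf 𝒴₁) (FibCat.toSelf 𝒴₂)).toFunctor.mapIso η.obj.iso
  let ψ₂ := (FibCat.fpSnd (FibCat.toSelf 𝒴₁) (FibCat.toSelf 𝒴₂)).toFunctor.mapIso η.obj.iso
  have h₁ : 𝒴₁.p.IsHomLift (𝟙 _) ψ₁.hom :=
    BasedFunctor.preserves_isHomLift (FibCat.fpFst _ _) (𝟙 (𝒳.p.obj η.obj.fst)) η.obj.iso.hom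
  have h₂ : 𝒴₂.p.IsHomLift (𝟙 _) ψ₂.hom :=
    BasedFunctor.preserves_isHomLift (FibCat.fpSnd _ _) (𝟙 (𝒳.p.obj η.obj.fst)) η.obj.iso.hom
  let P : (stage₁ G f₁).obj := fpObj η.obj.fst η.obj.snd.obj.fst ψ₁ hU h₁
  let Q : (stage₂ G f₁ f₂).obj := fpObj P η.obj.snd.obj.snd ψ₂ (U := 𝒳.p.obj η.obj.fst) rfl h₂
  have hx : 𝒳₁.p.obj η.obj.snd.obj.fst = 𝒳.p.obj η.obj.fst := snd_p η
  haveI := iso_lift ((stagePair G f₁ f₂).obj Q) (U := 𝒳.p.obj η.obj.fst) hx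
  haveI := iso_lift η.obj.snd hx
  refine ⟨Q, fpIsoMk (Iso.refl _) (fpIsoMk (Iso.refl _) (Iso.refl _) ?_) ?_, ?_⟩
  · exact @selfIso_w _ _ _ _ ((stagePair G f₁ f₂).obj Q) η.obj.snd _ hx hx (𝟙 _) (𝟙 _)
      (IsHomLift.id hx) (IsHomLift.id ((snd_p η.obj.snd).trans hx))
  · apply fp_hom_ext
    · show (G.map (𝟙 _)).hom.fst ≫ η.obj.iso.hom.hom.fst = η.obj.iso.hom.hom.fst ≫ f₁.map (𝟙 _)
      simp
      exact (Category.comp_id _).symm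
    · show (G.map (𝟙 _)).hom.snd ≫ η.obj.iso.hom.hom.snd = η.obj.iso.hom.hom.snd ≫ f₂.map (𝟙 _)
      simp
      exact (Category.comp_id _).symm
  · exact @isHomLift_of_fst _ _ _ _ _ _ _ _ _ _ _ _ _ (IsHomLift.id (fst_p η))

end ProdMap

end Groth.Agent.FC16
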