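import Groth.Agent.Lib.FC16.Basic

/-! Functors over the base and their restrictions to fibres. -/

universe v₅ u₅ v₄ u₄ v₃ u₃ v₂ u₂ v u

open CategoryTheory CategoryTheory.Functor

set_option linter.style.haveILetI false
set_option linter.unusedSimpArgs false

namespace Groth.Agent.FC16

variable {C : Type u} [Category.{v} C] {𝒳 : BasedCategory.{v₂, u₂} C} {𝒴 : BasedCategory.{v₃, u₃} C}

/-- faithful on morphisms over identities -/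
def FibFaithful (G : 𝒳 ⥤ᵇ 𝒴) : Prop :=
  ∀ (U : C) ⦃a b : 𝒳.obj⦄ (χ χ' : a ⟶ b), 𝒳.p.IsHomLift (𝟙 U) χ → 𝒳.p.IsHomLift (𝟙 U) χ' →
    G.map χ = G.map χ' → χ = χ'

/-- full on morphisms over identities -/
def FibFull (G : 𝒳 ⥤ᵇ 𝒴) : Prop :=
  ∀ (U : C) ⦃a b : 𝒳.obj⦄ (h : G.obj a ⟶ G.obj b), 𝒴.p.IsHomLift (𝟙 U) h →
    ∃ χ : a ⟶ b, 𝒳.p.IsHomLift (𝟙 U) χ ∧ G.map χ = h

/-- sends strongly cartesian morphisms to strongly cartesian morphisms -/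
def PresCart (G : 𝒳 ⥤ᵇ 𝒴) : Prop :=
  ∀ ⦃R S : C⦄ (f : R ⟶ S) ⦃a b : 𝒳.obj⦄ (φ : a ⟶ b),
    𝒳.p.IsStronglyCartesian f φ → 𝒴.p.IsStronglyCartesian f (G.map φ)

lemma presCart_of_isFibGrpd (h : FibCat.IsFibGrpd 𝒴.p) (G : 𝒳 ⥤ᵇ 𝒴) : PresCart G :=
  fun _ _ f _ _ φ _ => isStronglyCartesian h f (G.map φ)

lemma presCart_of_map (G : 𝒳 ⥤ᵇ 𝒴)
    (hG : ∀ ⦃a b : 𝒳.obj⦄ (φ : a ⟶ b), 𝒳.p.IsStronglyCartesian (𝒳.p.map φ) φ →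
      𝒴.p.IsStronglyCartesian (𝒳.p.map φ) (G.toFunctor.map φ)) : PresCart G := by
  intro R S f a b φ hφ
  subst_hom_lift 𝒳.p f φ
  exact hG φ hφ

lemma fibFaithful_of_faithful (G : 𝒳 ⥤ᵇ 𝒴) [G.toFunctor.Faithful] : FibFaithful G :=
  fun _ _ _ _ _ _ _ h => G.toFunctor.map_injective h

lemma fibFull_of_full (G : 𝒳 ⥤ᵇ 𝒴) [G.toFunctor.Full] : FibFull G := fun U a b h hh => by
  refine ⟨G.toFunctor.preimage h, ?_, G.toFunctor.map_preimage h⟩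
  haveI : 𝒴.p.IsHomLift (𝟙 U) (G.map (G.toFunctor.preimage h)) := by
    rw [G.toFunctor.map_preimage]; exact hh
  exact BasedFunctor.isHomLift_map G _ _

lemma faithful_of_fib {G : 𝒳 ⥤ᵇ 𝒴} [𝒳.p.IsFibered] (hG : PresCart G) (h : FibFaithful G) :
    G.toFunctor.Faithful where
  map_injective {a b φ φ'} e := by
    obtain ⟨a', ψ, hψ⟩ := exists_isStronglyCartesian (p := 𝒳.p) (rfl : 𝒳.p.obj b = _) (𝒳.p.map φ)
    haveI : 𝒳.p.IsHomLift (𝒳.p.map φ) φ' := by rw [p_map_eq_of_map_eq G e]; infer_instance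
    haveI := hG (𝒳.p.map φ) ψ hψ
    let χ := IsCartesian.map 𝒳.p (𝒳.p.map φ) ψ φ
    let χ' := IsCartesian.map 𝒳.p (𝒳.p.map φ) ψ φ'
    have hc : G.map χ = G.map χ' := by
      apply IsCartesian.ext 𝒴.p (𝒳.p.map φ) (G.map ψ)
      rw [← G.map_comp, ← G.map_comp]
      simpa [χ, χ'] using e
    have := h (𝒳.p.obj a) χ χ' inferInstance inferInstance hc
    calc φ = χ ≫ ψ := by simp [χ]
      _ = χ' ≫ ψ := by rw [this]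
      _ = φ' := by simp [χ']

lemma full_of_fib {G : 𝒳 ⥤ᵇ 𝒴} [𝒳.p.IsFibered] (hG : PresCart G) (h : FibFull G) :
    G.toFunctor.Full where
  map_surjective {a b} g := by
    let f : 𝒳.p.obj a ⟶ 𝒳.p.obj b :=
      eqToHom (G.w_obj a).symm ≫ 𝒴.p.map g ≫ eqToHom (G.w_obj b)
    haveI : 𝒴.p.IsHomLift f g := IsHomLift.of_fac 𝒴.p f g (G.w_obj a) (G.w_obj b) rfl
    obtain ⟨a', ψ, hψ⟩ := exists_isStronglyCartesian (p := 𝒳.p) (rfl : 𝒳.p.obj b = _) f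
    haveI := hG f ψ hψ
    obtain ⟨χ, hχ, e⟩ := h (𝒳.p.obj a) (IsCartesian.map 𝒴.p f (G.map ψ) g) inferInstance
    refine ⟨χ ≫ ψ, ?_⟩
    rw [G.map_comp]
    exact (congrArg (· ≫ G.map ψ) e).trans (IsCartesian.fac 𝒴.p f (G.map ψ) g)

lemma isEquivOver_of_fib {G : 𝒳 ⥤ᵇ 𝒴} [𝒳.p.IsFibered] (hG : PresCart G) (h1 : FibFull G)
    (h2 : FibFaithful G) (h3 : EssSurjOver G) : FibCat.IsEquivOver G :=
  have := full_of_fib hG h1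
  have := faithful_of_fib hG h2
  isEquivOver_of G h3

lemma fiberFunctor_aux (G : 𝒳 ⥤ᵇ 𝒴) (U : C) :
    ((Fiber.fiberInclusion : 𝒳.p.Fiber U ⥤ _) ⋙ G.toFunctor) ⋙ 𝒴.p = (Functor.const _).obj U := by
  rw [Functor.assoc, G.w]; exact Fiber.fiberInclusion_comp_eq_const

/-- the functor induced on fibres -/
def fib (G : 𝒳 ⥤ᵇ 𝒴) (U : C) : 𝒳.p.Fiber U ⥤ 𝒴.p.Fiber U :=
  Fiber.inducedFunctor (fiberFunctor_aux G U)

lemma eq_fib {G : 𝒳 ⥤ᵇ 𝒴} {U : C} (GU : 𝒳.p.Fiber U ⥤ 𝒴.p.Fiber U)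
    (hGU : GU ⋙ Fiber.fiberInclusion = Fiber.fiberInclusion ⋙ G.toFunctor) : GU = fib G U := by
  refine Functor.ext (fun a => Subtype.ext (Functor.congr_obj hGU a)) fun a b φ => ?_
  apply Fiber.hom_ext
  simp only [Functor.map_comp, eqToHom_map]
  exact Functor.congr_hom hGU φ

lemma faithful_fib_iff (G : 𝒳 ⥤ᵇ 𝒴) : (∀ U, (fib G U).Faithful) ↔ FibFaithful G := by
  refine ⟨fun h U a b χ χ' h1 h2 e => ?_, fun h U => ⟨fun {a b φ φ'} e => ?_⟩⟩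
  · exact congrArg Subtype.val ((h U).map_injective
      (X := (⟨a, IsHomLift.domain_eq 𝒳.p (𝟙 U) χ⟩ : 𝒳.p.Fiber U))
      (Y := ⟨b, IsHomLift.codomain_eq 𝒳.p (𝟙 U) χ⟩) (a₁ := ⟨χ, h1⟩) (a₂ := ⟨χ', h2⟩)
      (Subtype.ext e))
  · exact Subtype.ext (h U φ.1 φ'.1 φ.2 φ'.2 (congrArg Subtype.val e))

lemma full_fib_iff (G : 𝒳 ⥤ᵇ 𝒴) : (∀ U, (fib G U).Full) ↔ FibFull G := by
  refine ⟨fun h U a b g hg => ?_, fun h U => ⟨fun {a b} φ => ?_⟩⟩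
  · have ha : 𝒳.p.obj a = U := (G.w_obj a).symm.trans (IsHomLift.domain_eq 𝒴.p (𝟙 U) g)
    have hb : 𝒳.p.obj b = U := (G.w_obj b).symm.trans (IsHomLift.codomain_eq 𝒴.p (𝟙 U) g)
    obtain ⟨χ, hχ⟩ := (h U).map_surjective (X := (⟨a, ha⟩ : 𝒳.p.Fiber U)) (Y := ⟨b, hb⟩) ⟨g, hg⟩
    exact ⟨χ.1, χ.2, congrArg Subtype.val hχ⟩
  · obtain ⟨χ, h1, h2⟩ := h U (a := a.1) (b := b.1) φ.1 φ.2
    exact ⟨⟨χ, h1⟩, Subtype.ext h2⟩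

lemma essSurj_fib_iff (G : 𝒳 ⥤ᵇ 𝒴) : (∀ U, (fib G U).EssSurj) ↔ EssSurjOver G := by
  refine ⟨fun h η => ?_, fun h U => ⟨fun b => ?_⟩⟩
  · obtain ⟨a, ⟨e⟩⟩ := (h (𝒴.p.obj η)).mem_essImage ⟨η, rfl⟩
    exact ⟨a.1, Fiber.fiberInclusion.mapIso e, e.hom.2⟩
  · obtain ⟨ξ, e, he⟩ := h b.1
    rw [b.2] at he
    have hξ : 𝒳.p.obj ξ = U := (G.w_obj ξ).symm.trans (IsHomLift.domain_eq 𝒴.p (𝟙 U) e.hom)
    exact ⟨⟨ξ, hξ⟩, ⟨fiberIso e he⟩⟩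

lemma isEquivalence_fib_of_isEquivOver {G : 𝒳 ⥤ᵇ 𝒴} (h : FibCat.IsEquivOver G) (U : C) :
    (fib G U).IsEquivalence := by
  have := isEquivalence_of_isEquivOver h
  have := (faithful_fib_iff G).2 (fibFaithful_of_faithful G) U
  have := (full_fib_iff G).2 (fibFull_of_full G) U
  have := (essSurj_fib_iff G).2 (essSurjOver_of_isEquivOver h) U
  exact { }

lemma isEquivOver_iff_fib {G : 𝒳 ⥤ᵇ 𝒴} [𝒳.p.IsFibered] (hG : PresCart G) :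
    FibCat.IsEquivOver G ↔ ∀ U, (fib G U).IsEquivalence :=
  ⟨isEquivalence_fib_of_isEquivOver, fun h => isEquivOver_of_fib hG
    ((full_fib_iff G).1 fun U => (h U).full) ((faithful_fib_iff G).1 fun U => (h U).faithful)
    ((essSurj_fib_iff G).1 fun U => (h U).essSurj)⟩

/-- isomorphisms of the base lift with prescribed source -/
def Transportable {𝒳 : BasedCategory.{v₂, u₂} C} : Prop :=
  ∀ ⦃T S : C⦄ (α : T ≅ S) (ξ : 𝒳.obj), 𝒳.p.obj ξ = T →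
    ∃ (ξ' : 𝒳.obj) (e : ξ ≅ ξ'), 𝒳.p.IsHomLift α.hom e.hom

lemma transportable_of_isFibered [𝒳.p.IsFibered] : Transportable (𝒳 := 𝒳) := by
  intro T S α ξ hξ
  obtain ⟨b, φ, hφ⟩ := exists_isStronglyCartesian (p := 𝒳.p) hξ α.inv
  haveI := IsStronglyCartesian.isIso_of_base_isIso 𝒳.p α.inv φ
  refine ⟨b, (asIso φ).symm, ?_⟩
  have h := IsHomLift.inv 𝒳.p α.inv φ
  simpa using h

lemma essSurjOver_of_essSurj (h𝒳 : Transportable (𝒳 := 𝒳)) (F : 𝒳 ⥤ᵇ 𝒴) [F.toFunctor.EssSurj] :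
    EssSurjOver F := by
  intro η
  obtain ⟨ξ, ⟨e⟩⟩ := Functor.EssSurj.mem_essImage (F := F.toFunctor) η
  let α : 𝒳.p.obj ξ ≅ 𝒴.p.obj η := eqToIso (F.w_obj ξ).symm ≪≫ 𝒴.p.mapIso e
  haveI he : 𝒴.p.IsHomLift α.hom e.hom := IsHomLift.of_fac 𝒴.p _ _ (F.w_obj ξ) rfl (by simp [α])
  obtain ⟨ξ', d, hd⟩ := h𝒳 α ξ rfl
  refine ⟨ξ', (F.toFunctor.mapIso d).symm ≪≫ e, ?_⟩
  haveI : 𝒴.p.IsHomLift α.hom (F.toFunctor.mapIso d).hom := by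
    haveI := hd; exact inferInstanceAs (𝒴.p.IsHomLift α.hom (F.map d.hom))
  rw [← α.inv_hom_id]
  exact inferInstanceAs (𝒴.p.IsHomLift (α.inv ≫ α.hom) ((F.toFunctor.mapIso d).inv ≫ e.hom))

lemma isEquivOver_of_isEquivalence [𝒳.p.IsFibered] (F : 𝒳 ⥤ᵇ 𝒴) [F.toFunctor.IsEquivalence] :
    FibCat.IsEquivOver F :=
  isEquivOver_of F (essSurjOver_of_essSurj transportable_of_isFibered F)

end Groth.Agent.FC16
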