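import Groth.Agent.Lib.FC16.OverStack
import Groth.Agent.Lib.FC16.Descent

/-! Stacks detected by pulling back along a faithful functor. -/

universe v u

open CategoryTheory CategoryTheory.Functor

set_option linter.style.haveILetI false
set_option linter.unusedSimpArgs false
set_option linter.unusedVariables false
set_option backward.isDefEq.respectTransparency false
set_option backward.isDefEq.respectTransparency.types false

namespace Groth.Agent.FC16

variable {C : Type u} [Category.{v} C] (J : GrothendieckTopology C) {U : C} (R : Sieve U)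

/-- the sieve on the final object of the slice -/
abbrev sieveOver : Sieve (Over.mk (𝟙 U)) := (Sieve.overEquiv (Over.mk (𝟙 U))).symm R

lemma sieveOver_iff (a : Over U) : sieveOver R (toTerm a) ↔ R a.hom := by
  simp [sieveOver, Sieve.overEquiv]

/-- the slice over itself maps to the slice of its final object -/
def selfToTerm : FibCat.selfOver (Over U) ⥤ᵇ FibCat.overCat (Over.mk (𝟙 U)) where
  toFunctor :=
    { obj := fun (a : Over U) => Over.mk (toTerm a)
      map := fun {a b} (g : a ⟶ b) => Over.homMk g (Over.OverMorphism.ext (Over.w g))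
      map_id := fun _ => rfl
      map_comp := fun _ _ => rfl }
  w := rfl

lemma selfToTerm_isEquivalence : (selfToTerm (U := U)).toFunctor.IsEquivalence := by
  haveI : (selfToTerm (U := U)).toFunctor.Faithful := ⟨fun h => congrArg CommaMorphism.left h⟩
  haveI : (selfToTerm (U := U)).toFunctor.Full :=
    ⟨fun g => ⟨g.left, Over.OverMorphism.ext rfl⟩⟩
  haveI : (selfToTerm (U := U)).toFunctor.EssSurj := ⟨fun b => ⟨b.left, ⟨Over.isoMk (Iso.refl _) (by
    apply Over.OverMorphism.ext
    show 𝟙 _ ≫ b.hom.left = b.left.hom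
    rw [Category.id_comp]
    simpa using Over.w b.hom)⟩⟩⟩
  exact { }

/-- a sieve as a category over the slice -/
abbrev sieveCatOver : BasedCategory.{v, max u v} (Over U) :=
  BasedCategory.ofFunctor (Stk.sieveIncl R).toFunctor

/-- its inclusion in the slice -/
abbrev sieveInclOver : sieveCatOver R ⥤ᵇ FibCat.selfOver (Over U) :=
  ⟨(Stk.sieveIncl R).toFunctor, Functor.comp_id _⟩

/-- the sieve over the slice maps to the sieve on the final object -/
def sieveToTerm : sieveCatOver R ⥤ᵇ Stk.sieveCat (sieveOver R) where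
  toFunctor :=
    { obj := fun a => ⟨(selfToTerm (U := U)).obj a.obj, (sieveOver_iff R a.obj).2 a.property⟩
      map := fun g => ObjectProperty.homMk ((selfToTerm (U := U)).map g.hom)
      map_id := fun a => ObjectProperty.hom_ext _ rfl
      map_comp := fun g g' => ObjectProperty.hom_ext _ rfl }
  w := rfl

lemma sieveToTerm_isEquivalence : (sieveToTerm R).toFunctor.IsEquivalence := by
  haveI := selfToTerm_isEquivalence (U := U)
  let T := (selfToTerm (U := U)).toFunctor
  haveI : (sieveToTerm R).toFunctor.Faithful := ⟨fun h =>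
    ObjectProperty.hom_ext _ (T.map_injective (congrArg (fun m => m.hom) h))⟩
  haveI : (sieveToTerm R).toFunctor.Full := ⟨fun g =>
    ⟨ObjectProperty.homMk (T.preimage g.hom), ObjectProperty.hom_ext _ (T.map_preimage g.hom)⟩⟩
  haveI : (sieveToTerm R).toFunctor.EssSurj := ⟨fun b => by
    let a : Over U := T.objPreimage b.obj
    let e : T.obj a ≅ b.obj := T.objObjPreimageIso b.obj
    have h2 : toTerm a = e.hom.left ≫ b.obj.hom := (Over.w e.hom).symm
    have ha : R a.hom := (sieveOver_iff R a).1 (by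
      rw [h2]; exact (sieveOver R).downward_closed b.property _)
    exact ⟨⟨a, ha⟩, ⟨ObjectProperty.isoMk _ e⟩⟩⟩
  exact { }

lemma sections_isEquivalence (hR : R ∈ J U) (T : BasedCategory.{v, max u v} (Over U))
    (hT : Stk.IsStack (J.over U) T) : (Stk.restr (sieveInclOver R) T).IsEquivalence := by
  haveI := selfToTerm_isEquivalence (U := U)
  haveI := sieveToTerm_isEquivalence R
  haveI : (Stk.restr (Stk.sieveIncl (sieveOver R)) T).IsEquivalence := by
    exact hT.2 _ (J.overEquiv_symm_mem_over (Over.mk (𝟙 U)) R hR)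
  exact restr_isEquivalence_of_square hT.1 (sieveToTerm R) (selfToTerm (U := U))
    (basedFunctor_ext rfl) (ι' := Stk.sieveIncl (sieveOver R))

variable {𝒮 𝒯 : BasedCategory.{v, max u v} C} (F : 𝒮 ⥤ᵇ 𝒯)

/-- the pullback along `y`, over the slice -/
abbrev pullOver (y : FibCat.overCat U ⥤ᵇ 𝒯) : BasedCategory.{v, max u v} (Over U) :=
  BasedCategory.ofFunctor ((FibCat.fpFst y F).toFunctor : (FibCat.fp y F).obj ⥤ Over U)

/-- a section from a functor and an isomorphism -/
def secOf {y : FibCat.overCat U ⥤ᵇ 𝒯} (s : FibCat.overCat U ⥤ᵇ 𝒮)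
    (e : BasedFunctor.comp (BasedFunctor.id (FibCat.overCat U)) y ≅ BasedFunctor.comp s F) :
    FibCat.selfOver (Over U) ⥤ᵇ pullOver F y :=
  ⟨(FibCat.fpLift (BasedFunctor.id (FibCat.overCat U)) s e).toFunctor, rfl⟩

lemma isStack_of_faithful [F.toFunctor.Faithful] (h𝒮 : FibCat.IsFibGrpd 𝒮.p) (h𝒯 : Stk.IsStack J 𝒯)
    (h3 : ∀ (U : C) (y : FibCat.overCat U ⥤ᵇ 𝒯), Stk.IsStack (J.over U) (pullOver F y)) :
    Stk.IsStack J 𝒮 := by
  refine ⟨h𝒮, fun U R hR => ?_⟩
  haveI : (Stk.restr (Stk.sieveIncl R) 𝒯).IsEquivalence := h𝒯.2 R hR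
  haveI : (Stk.resSieve R 𝒯).IsEquivalence := h𝒯.2 R hR
  haveI hEq : ∀ y : FibCat.overCat U ⥤ᵇ 𝒯,
      (Stk.restr (sieveInclOver R) (pullOver F y)).IsEquivalence :=
    fun y => sections_isEquivalence J R hR _ (h3 U y)
  haveI : (Stk.resSieve R 𝒮).Faithful := ⟨fun {s t α β} h => by
    haveI := postFun_faithful (FibCat.overCat U) F
    apply (postFun (FibCat.overCat U) F).map_injective
    apply (Stk.resSieve R 𝒯).map_injective
    exact congrArg (fun m => (postFun (Stk.sieveCat R) F).map m) h⟩
  haveI : (Stk.resSieve R 𝒮).Full := ⟨fun {s t} γ => by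
    obtain ⟨δ, hδ⟩ := (Stk.resSieve R 𝒯).map_surjective (X := BasedFunctor.comp s F)
      (Y := BasedFunctor.comp t F) ((postFun (Stk.sieveCat R) F).map γ)
    haveI : ∀ a : (FibCat.overCat U).obj, IsIso (δ.toNatTrans.app a) := fun a =>
      haveI : 𝒯.p.IsHomLift (𝟙 ((FibCat.overCat U).p.obj a)) (δ.toNatTrans.app a) := δ.isHomLift' a
      isIso_of_isHomLift h𝒯.1 (𝟙 ((FibCat.overCat U).p.obj a)) _
    let δi : BasedFunctor.comp (BasedFunctor.id (FibCat.overCat U)) (BasedFunctor.comp s F) ≅
        BasedFunctor.comp t F :=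
      BasedNatIso.mkNatIso (NatIso.ofComponents (fun a => asIso (δ.toNatTrans.app a))
        (fun g => δ.toNatTrans.naturality g)) (fun a => δ.isHomLift' a)
    let σs := secOf F (y := BasedFunctor.comp s F) s (Iso.refl _)
    let σt := secOf F (y := BasedFunctor.comp s F) t δi
    have hd : ∀ a : (Stk.sieveCat R).obj,
        δ.toNatTrans.app a.obj = F.map (γ.toNatTrans.app a) :=
      fun a => congrArg (fun m => m.toNatTrans.app a) hδ
    let n : BasedFunctor.comp (sieveInclOver R) σs ⟶ BasedFunctor.comp (sieveInclOver R) σt :=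
      { toNatTrans :=
          { app := fun a => fpHom (𝟙 _) (γ.toNatTrans.app a) (by
              show F.map (s.map (𝟙 a.obj)) ≫ δ.toNatTrans.app a.obj = 𝟙 _ ≫ F.map (γ.toNatTrans.app a)
              rw [s.toFunctor.map_id, F.toFunctor.map_id, hd]
              rfl)
            naturality := fun a b g => fp_hom_ext ((Category.comp_id _).trans (Category.id_comp _).symm)
              (γ.toNatTrans.naturality g) }
        isHomLift' := fun a => IsHomLift.of_fac' (FibCat.fpFst (BasedFunctor.comp s F) F).toFunctor _ _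
          rfl rfl (by simp; rfl) }
    haveI := hEq (BasedFunctor.comp s F)
    obtain ⟨m, hm⟩ := (Stk.restr (sieveInclOver R) (pullOver F (BasedFunctor.comp s F))).map_surjective n
    have hfst : ∀ a : Over U, (m.toNatTrans.app a).hom.fst = 𝟙 a := fun a => by
      haveI : (FibCat.fpFst (BasedFunctor.comp s F) F).toFunctor.IsHomLift (𝟙 a) (m.toNatTrans.app a) :=
        m.isHomLift' a
      exact (IsHomLift.eq_of_isHomLift (FibCat.fpFst (BasedFunctor.comp s F) F).toFunctor
        (a := σs.obj a) (b := σt.obj a) (𝟙 a) (m.toNatTrans.app a)).symm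
    refine ⟨{ toNatTrans :=
                { app := fun a => (m.toNatTrans.app a).hom.snd
                  naturality := fun a b g => congrArg (fun x => x.hom.snd) (m.toNatTrans.naturality g) }
              isHomLift' := fun a => ?_ }, ?_⟩
    · haveI : (FibCat.overCat U).p.IsHomLift (𝟙 ((FibCat.overCat U).p.obj a))
          (m.toNatTrans.app a).hom.fst := by
        rw [hfst a]; exact IsHomLift.id rfl
      haveI := isHomLift_of_fst (𝟙 ((FibCat.overCat U).p.obj a)) (m.toNatTrans.app a)
      exact isHomLift_snd (𝟙 ((FibCat.overCat U).p.obj a)) (m.toNatTrans.app a)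
    · apply BasedNatTrans.homCategory.ext
      apply NatTrans.ext
      funext a
      exact congrArg (fun k => (k.toNatTrans.app a).hom.snd) hm⟩
  haveI : (Stk.resSieve R 𝒮).EssSurj := ⟨fun t => by
    let y := (Stk.resSieve R 𝒯).objPreimage (BasedFunctor.comp t F)
    let i : BasedFunctor.comp (Stk.sieveIncl R) y ≅ BasedFunctor.comp t F :=
      (Stk.resSieve R 𝒯).objObjPreimageIso (BasedFunctor.comp t F)
    let τ : sieveCatOver R ⥤ᵇ pullOver F y :=
      ⟨(FibCat.fpLift (Stk.sieveIncl R) t i).toFunctor, rfl⟩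
    haveI := hEq y
    let σ := (Stk.restr (sieveInclOver R) (pullOver F y)).objPreimage τ
    let j : BasedFunctor.comp (sieveInclOver R) σ ≅ τ :=
      (Stk.restr (sieveInclOver R) (pullOver F y)).objObjPreimageIso τ
    let σC : FibCat.overCat U ⥤ᵇ FibCat.fp y F :=
      ⟨σ.toFunctor, congrArg (fun m => m ⋙ Over.forget U) σ.w⟩
    refine ⟨BasedFunctor.comp σC (FibCat.fpSnd y F), ⟨BasedNatIso.mkNatIso
      (Functor.isoWhiskerRight ((BasedNatTrans.forgetful _ _).mapIso j) (FibCat.fpSnd y F).toFunctor)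
      (fun a => ?_)⟩⟩
    show 𝒮.p.IsHomLift (𝟙 a.obj.left) (j.hom.toNatTrans.app a).hom.snd
    haveI hj : (FibCat.fpFst y F).toFunctor.IsHomLift (𝟙 a.obj) (j.hom.toNatTrans.app a) :=
      j.hom.isHomLift' a
    have e : (j.hom.toNatTrans.app a).hom.fst = _ :=
      IsHomLift.fac' (FibCat.fpFst y F).toFunctor (𝟙 a.obj) (j.hom.toNatTrans.app a)
    haveI : (FibCat.overCat U).p.IsHomLift (𝟙 a.obj.left) (j.hom.toNatTrans.app a).hom.fst := by
      have hd : (σ.obj a.obj).obj.fst = a.obj := σ.w_obj a.obj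
      refine IsHomLift.of_fac' (Over.forget U) _ _ (congrArg (fun z : Over U => z.left) hd) rfl ?_
      rw [e]
      simp
      exact Over.eqToHom_left _
    haveI := isHomLift_of_fst (𝟙 a.obj.left) (j.hom.toNatTrans.app a)
    exact isHomLift_snd (𝟙 a.obj.left) (j.hom.toNatTrans.app a)⟩
  exact ({ } : (Stk.resSieve R 𝒮).IsEquivalence)

end Groth.Agent.FC16
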