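import Groth.Agent.Lib.FC16.Fiber

/-! The 2-Yoneda lemma for fibred categories. -/

universe v₅ u₅ v₄ u₄ v₃ u₃ v₂ u₂ v u

open CategoryTheory CategoryTheory.Functor

set_option linter.style.haveILetI false
set_option linter.unusedSimpArgs false
set_option backward.isDefEq.respectTransparency false
set_option backward.isDefEq.respectTransparency.types false

namespace Groth.Agent.FC16

variable {C : Type u} [Category.{v} C] {𝒳 : BasedCategory.{v₂, u₂} C} {U : C}

lemma overCat_isFibGrpd (U : C) : FibCat.IsFibGrpd (FibCat.overCat U).p where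
  exists_lift {x V} f := ⟨Over.mk (f ≫ x.hom), Over.homMk f rfl,
    CategoryTheory.IsHomLift.map (Over.forget U) (Over.homMk (U := Over.mk (f ≫ x.hom)) (V := x) f rfl)⟩
  isStronglyCartesian {y x} φ :=
    { universal_property' := fun {z} g ψ hψ => by
        haveI : (Over.forget U).IsHomLift (g ≫ φ.left) ψ := hψ
        have hψ' : ψ.left = g ≫ φ.left :=
          (IsHomLift.eq_of_isHomLift (Over.forget U) (g ≫ φ.left) ψ).symm
        have hg : g ≫ y.hom = z.hom := by
          rw [← Over.w φ, ← Category.assoc, ← hψ', Over.w ψ]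
        refine ⟨Over.homMk g hg, ⟨IsHomLift.map _ (Over.homMk g hg), ?_⟩, ?_⟩
        · exact Over.OverMorphism.ext hψ'.symm
        · rintro χ ⟨hχ, -⟩
          haveI : (Over.forget U).IsHomLift g χ := hχ
          exact Over.OverMorphism.ext (IsHomLift.eq_of_isHomLift (Over.forget U) g χ).symm }

lemma overCat_transportable (U : C) : Transportable (𝒳 := FibCat.overCat U) :=
  haveI := isFibered (overCat_isFibGrpd U); transportable_of_isFibered

/-- the morphism to the terminal object of a slice -/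
abbrev toTerm (a : Over U) : a ⟶ Over.mk (𝟙 U) := Over.homMk a.hom (by simp)

lemma overCat_cart {R S : C} (f : R ⟶ S) {a b : (FibCat.overCat U).obj} (φ : a ⟶ b)
    [(FibCat.overCat U).p.IsHomLift f φ] : (FibCat.overCat U).p.IsStronglyCartesian f φ :=
  isStronglyCartesian (overCat_isFibGrpd U) f φ

lemma map_toTerm_cart {H : FibCat.overCat U ⥤ᵇ 𝒳} (hH : PresCart H) (a : Over U) :
    𝒳.p.IsStronglyCartesian a.hom (H.map (toTerm a)) := by
  haveI : (FibCat.overCat U).p.IsHomLift a.hom (toTerm a) := IsHomLift.map _ (toTerm a)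
  exact hH a.hom (toTerm a) (overCat_cart a.hom (toTerm a))

instance map_toTerm_lift (G : FibCat.overCat U ⥤ᵇ 𝒳) (a : Over U) :
    𝒳.p.IsHomLift a.hom (G.map (toTerm a)) := by
  haveI : (FibCat.overCat U).p.IsHomLift a.hom (toTerm a) := IsHomLift.map _ (toTerm a)
  exact BasedFunctor.preserves_isHomLift G a.hom (toTerm a)

instance map_over_lift (G : FibCat.overCat U ⥤ᵇ 𝒳) {a b : Over U} (g : a ⟶ b) :
    𝒳.p.IsHomLift g.left (G.map g) := by
  haveI : (FibCat.overCat U).p.IsHomLift g.left g := IsHomLift.map _ g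
  exact BasedFunctor.preserves_isHomLift G g.left g

lemma natTrans_ext {G H : FibCat.overCat U ⥤ᵇ 𝒳} (hH : PresCart H) (α β : G ⟶ H)
    (h : α.toNatTrans.app (Over.mk (𝟙 U)) = β.toNatTrans.app (Over.mk (𝟙 U))) : α = β := by
  apply BasedNatTrans.ext
  apply NatTrans.ext
  funext a
  haveI := map_toTerm_cart hH a
  haveI : 𝒳.p.IsHomLift (𝟙 a.left) (α.toNatTrans.app a) := BasedNatTrans.isHomLift α rfl
  haveI : 𝒳.p.IsHomLift (𝟙 a.left) (β.toNatTrans.app a) := BasedNatTrans.isHomLift β rfl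
  apply IsStronglyCartesian.ext 𝒳.p a.hom (H.map (toTerm a)) (𝟙 a.left)
  rw [← α.toNatTrans.naturality (toTerm a), ← β.toNatTrans.naturality (toTerm a), h]

section Extend

variable {G H : FibCat.overCat U ⥤ᵇ 𝒳} (hH : PresCart H)
  (χ : G.obj (Over.mk (𝟙 U)) ⟶ H.obj (Over.mk (𝟙 U))) [𝒳.p.IsHomLift (𝟙 U) χ]

/-- component of the extension -/
noncomputable def extApp (a : Over U) : G.obj a ⟶ H.obj a :=
  haveI := map_toTerm_cart hH a
  IsStronglyCartesian.map 𝒳.p a.hom (H.map (toTerm a)) (g := 𝟙 a.left) (f' := a.hom) (by simp)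
    (G.map (toTerm a) ≫ χ)

instance extApp_lift (a : Over U) : 𝒳.p.IsHomLift (𝟙 a.left) (extApp hH χ a) := by
  unfold extApp; infer_instance

@[reassoc]
lemma extApp_fac (a : Over U) : extApp hH χ a ≫ H.map (toTerm a) = G.map (toTerm a) ≫ χ := by
  unfold extApp; simp

/-- A morphism over `𝟙 U` extends to a natural transformation. -/
noncomputable def ext : G ⟶ H where
  toNatTrans :=
    { app := extApp hH χ
      naturality := fun a b g => by
        haveI := map_toTerm_cart hH b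
        apply IsStronglyCartesian.ext 𝒳.p b.hom (H.map (toTerm b)) g.left
        have e : g ≫ toTerm b = toTerm a := Over.OverMorphism.ext (Over.w g)
        simp only [Category.assoc]
        rw [extApp_fac, ← H.map_comp, e, extApp_fac, ← G.map_comp_assoc, e] }
  isHomLift' := fun a => extApp_lift hH χ a

lemma ext_app_term : (ext hH χ).toNatTrans.app (Over.mk (𝟙 U)) = χ := by
  have h := extApp_fac hH χ (Over.mk (𝟙 U))
  have e : toTerm (Over.mk (𝟙 U) : Over U) = 𝟙 _ := by ext; simp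
  rw [e] at h
  simpa [ext] using h

end Extend

lemma exists_natTrans {G H : FibCat.overCat U ⥤ᵇ 𝒳} (hH : PresCart H)
    (χ : G.obj (Over.mk (𝟙 U)) ⟶ H.obj (Over.mk (𝟙 U))) (hχ : 𝒳.p.IsHomLift (𝟙 U) χ) :
    ∃ α : G ⟶ H, α.toNatTrans.app (Over.mk (𝟙 U)) = χ :=
  ⟨ext hH χ, ext_app_term hH χ⟩

lemma exists_iso {G H : FibCat.overCat U ⥤ᵇ 𝒳} (hG : PresCart G) (hH : PresCart H)
    (e : G.obj (Over.mk (𝟙 U)) ≅ H.obj (Over.mk (𝟙 U))) (he : 𝒳.p.IsHomLift (𝟙 U) e.hom) :
    ∃ i : G ≅ H, i.hom.toNatTrans.app (Over.mk (𝟙 U)) = e.hom := by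
  haveI := he
  refine ⟨⟨ext hH e.hom, ext hG e.inv, natTrans_ext hG _ _ ?_, natTrans_ext hH _ _ ?_⟩,
    ext_app_term hH e.hom⟩
  · show (ext hH e.hom).toNatTrans.app _ ≫ (ext hG e.inv).toNatTrans.app _ = 𝟙 _
    rw [ext_app_term, ext_app_term, e.hom_inv_id]
  · show (ext hG e.inv).toNatTrans.app _ ≫ (ext hH e.hom).toNatTrans.app _ = 𝟙 _
    rw [ext_app_term, ext_app_term, e.inv_hom_id]

section OfObj

variable [𝒳.p.IsFibered] {x : 𝒳.obj} (hx : 𝒳.p.obj x = U)

/-- map part of the functor attached to an object -/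
noncomputable def ofObjMap {a b : Over U} (g : a ⟶ b) :
    IsPreFibered.pullbackObj hx a.hom ⟶ IsPreFibered.pullbackObj hx b.hom :=
  IsStronglyCartesian.map 𝒳.p b.hom (IsPreFibered.pullbackMap hx b.hom) (g := g.left) (f' := a.hom)
    (Over.w g).symm (IsPreFibered.pullbackMap hx a.hom)

instance ofObjMap_lift {a b : Over U} (g : a ⟶ b) : 𝒳.p.IsHomLift g.left (ofObjMap hx g) := by
  unfold ofObjMap; infer_instance

@[reassoc]
lemma ofObjMap_fac {a b : Over U} (g : a ⟶ b) :
    ofObjMap hx g ≫ IsPreFibered.pullbackMap hx b.hom = IsPreFibered.pullbackMap hx a.hom := by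
  unfold ofObjMap; simp

/-- The functor `C/U ⟶ 𝒳` attached to an object over `U`. -/
noncomputable def ofObj : FibCat.overCat U ⥤ᵇ 𝒳 where
  toFunctor :=
    { obj := fun a => IsPreFibered.pullbackObj hx a.hom
      map := fun g => ofObjMap hx g
      map_id := fun a => by
        haveI : 𝒳.p.IsHomLift (𝟙 a : a ⟶ a).left (𝟙 (IsPreFibered.pullbackObj hx a.hom)) := by
          rw [Over.id_left]; exact IsHomLift.id (IsPreFibered.pullbackObj_proj hx a.hom)
        apply IsStronglyCartesian.ext 𝒳.p a.hom (IsPreFibered.pullbackMap hx a.hom) (𝟙 a : a ⟶ a).left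
        simp [ofObjMap_fac]
      map_comp := fun {a b c} g g' => by
        haveI : 𝒳.p.IsHomLift (g ≫ g').left (ofObjMap hx g ≫ ofObjMap hx g') := by
          rw [Over.comp_left]; infer_instance
        apply IsStronglyCartesian.ext 𝒳.p c.hom (IsPreFibered.pullbackMap hx c.hom) (g ≫ g').left
        simp [ofObjMap_fac] }
  w := Functor.ext (fun a => IsPreFibered.pullbackObj_proj hx a.hom)
    (fun a b g => IsHomLift.fac' 𝒳.p g.left (ofObjMap hx g))

lemma ofObjMap_cart {a b : Over U} (g : a ⟶ b) :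
    𝒳.p.IsStronglyCartesian g.left (ofObjMap hx g) := by
  haveI : 𝒳.p.IsStronglyCartesian (g.left ≫ b.hom)
      (ofObjMap hx g ≫ IsPreFibered.pullbackMap hx b.hom) := by
    rw [ofObjMap_fac, Over.w g]; infer_instance
  exact IsStronglyCartesian.of_comp 𝒳.p (g := b.hom) (ψ := IsPreFibered.pullbackMap hx b.hom)

lemma ofObj_presCart : PresCart (ofObj hx) := by
  intro R S f a b g hg
  haveI : (FibCat.overCat U).p.IsHomLift f g := hg.toIsHomLift
  subst_hom_lift (FibCat.overCat U).p f g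
  exact ofObjMap_cart hx g

/-- the value at the identity is the given object -/
noncomputable def ofObjIso : (ofObj hx).obj (Over.mk (𝟙 U)) ≅ x :=
  haveI : IsIso (IsPreFibered.pullbackMap hx (𝟙 U)) :=
    IsStronglyCartesian.isIso_of_base_isIso 𝒳.p (𝟙 U) _
  asIso (IsPreFibered.pullbackMap hx (𝟙 U))

instance ofObjIso_lift : 𝒳.p.IsHomLift (𝟙 U) (ofObjIso hx).hom :=
  inferInstanceAs (𝒳.p.IsHomLift (𝟙 U) (IsPreFibered.pullbackMap hx (𝟙 U)))

end OfObj

lemma exists_iso_ofObj [𝒳.p.IsFibered] {G : FibCat.overCat U ⥤ᵇ 𝒳} (hG : PresCart G) :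
    Nonempty (ofObj (G.w_obj (Over.mk (𝟙 U))) ≅ G) :=
  ⟨(exists_iso (ofObj_presCart _) hG (ofObjIso (G.w_obj (Over.mk (𝟙 U))))
    (ofObjIso_lift (G.w_obj (Over.mk (𝟙 U))))).choose⟩

end Groth.Agent.FC16
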