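import Groth.Agent.Lib.FC16.Stack
import Groth.Agent.Lib.FC16.Self
import Mathlib.CategoryTheory.Adjunction.Whiskering
import Mathlib.CategoryTheory.Equivalence

/-! Functors over a category over `C`: strictification and transitivity. -/

universe v₇ u₇ v₆ u₆ v₅ u₅ v₄ u₄ v₃ u₃ v₂ u₂ v u

open CategoryTheory CategoryTheory.Functor

set_option linter.style.haveILetI false
set_option linter.unusedSimpArgs false
set_option linter.unusedVariables false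
set_option linter.unusedSectionVars false
set_option backward.isDefEq.respectTransparency false
set_option backward.isDefEq.respectTransparency.types false

namespace Groth.Agent.FC16

variable {C : Type u} [Category.{v} C] {𝒳 : BasedCategory.{v₂, u₂} C} {𝒴 : BasedCategory.{v₃, u₃} C}

lemma isHomLift_id_of_eqToHom {p : 𝒳.obj ⥤ C} {R S : C} (h : R = S) {a b : 𝒳.obj} (φ : a ⟶ b)
    [hφ : p.IsHomLift (eqToHom h) φ] : p.IsHomLift (𝟙 R) φ := by
  subst h; exact hφ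

section Strictify

variable {𝒜 : BasedCategory.{v₄, u₄} C}

/-- a functor commuting with the projections up to isomorphism can be made strict -/
lemma exists_strictify (hX : FibCat.IsFibGrpd 𝒳.p) (T : 𝒜.obj ⥤ 𝒳.obj) (θ : 𝒜.p ≅ T ⋙ 𝒳.p) :
    ∃ (s : 𝒜 ⥤ᵇ 𝒳) (η : s.toFunctor ≅ T), ∀ a, 𝒳.p.IsHomLift (θ.hom.app a) (η.hom.app a) := by
  have H := fun a => exists_lift hX (rfl : 𝒳.p.obj (T.obj a) = _) (θ.hom.app a)
  choose z φ hφ using H
  haveI : ∀ a, IsIso (φ a) := fun a => haveI := hφ a; isIso_of_isHomLift hX (θ.hom.app a) (φ a)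
  have hmap : ∀ {a b : 𝒜.obj} (g : a ⟶ b),
      𝒳.p.IsHomLift (𝒜.p.map g) (φ a ≫ T.map g ≫ inv (φ b)) := by
    intro a b g
    haveI := hφ a; haveI := hφ b
    haveI := IsHomLift.map 𝒳.p (T.map g)
    have e : 𝒜.p.map g = θ.hom.app a ≫ (T ⋙ 𝒳.p).map g ≫ inv (θ.hom.app b) := by
      rw [← Category.assoc, IsIso.eq_comp_inv]; exact θ.hom.naturality g
    rw [e]
    exact inferInstanceAs (𝒳.p.IsHomLift (θ.hom.app a ≫ 𝒳.p.map (T.map g) ≫ inv (θ.hom.app b))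
      (φ a ≫ T.map g ≫ inv (φ b)))
  let S : 𝒜.obj ⥤ 𝒳.obj :=
    { obj := z
      map := fun {a b} g => φ a ≫ T.map g ≫ inv (φ b)
      map_id := fun a => by simp
      map_comp := fun g g' => by simp }
  have hw : S ⋙ 𝒳.p = 𝒜.p := CategoryTheory.Functor.ext
    (fun a => haveI := hφ a; IsHomLift.domain_eq 𝒳.p (θ.hom.app a) (φ a))
    (fun a b g => haveI := hmap g; IsHomLift.fac' 𝒳.p (𝒜.p.map g) (φ a ≫ T.map g ≫ inv (φ b)))
  exact ⟨{ toFunctor := S, w := hw }, NatIso.ofComponents (fun a => asIso (φ a))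
    (fun {a b} g => by
      show (φ a ≫ T.map g ≫ inv (φ b)) ≫ φ b = φ a ≫ T.map g
      simp), hφ⟩

end Strictify

section Equivalence

variable {𝒜 : BasedCategory.{v₄, u₄} C} {ℬ : BasedCategory.{v₅, u₅} C} (ι : 𝒜 ⥤ᵇ ℬ)

lemma restr_isEquivalence_of_isEquivalence [ι.toFunctor.IsEquivalence] (hX : FibCat.IsFibGrpd 𝒳.p) :
    (Stk.restr ι 𝒳).IsEquivalence := by
  let E := ι.toFunctor.asEquivalence
  haveI : (Stk.restr ι 𝒳).Faithful := ⟨fun {s t α β} h => by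
    apply BasedNatTrans.homCategory.ext
    apply NatTrans.ext
    funext b
    let c : ι.obj (E.inverse.obj b) ≅ b := E.counitIso.app b
    have hc : ∀ γ : s ⟶ t, γ.toNatTrans.app b =
        s.map c.inv ≫ γ.toNatTrans.app (ι.obj (E.inverse.obj b)) ≫ t.map c.hom := by
      intro γ
      rw [← γ.toNatTrans.naturality c.hom, ← s.toFunctor.map_comp_assoc, c.inv_hom_id]
      simp
    rw [hc α, hc β]
    exact congrArg (fun x => s.map c.inv ≫ x ≫ t.map c.hom)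
      (congrArg (fun γ => γ.toNatTrans.app (E.inverse.obj b)) h)⟩
  haveI : (Stk.restr ι 𝒳).Full := ⟨fun {s t} γ => by
    obtain ⟨δ, hδ⟩ := ((Functor.whiskeringLeft _ _ _).obj ι.toFunctor).map_surjective
      (X := s.toFunctor) (Y := t.toFunctor) γ.toNatTrans
    refine ⟨{ toNatTrans := δ, isHomLift' := fun b => ?_ }, ?_⟩
    · let c : ι.obj (E.inverse.obj b) ≅ b := E.counitIso.app b
      have hd : δ.app (ι.obj (E.inverse.obj b)) = γ.toNatTrans.app (E.inverse.obj b) :=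
        congrArg (fun m => m.app (E.inverse.obj b)) hδ
      have e : δ.app b = s.map c.inv ≫ γ.toNatTrans.app (E.inverse.obj b) ≫ t.map c.hom := by
        rw [← hd]
        rw [← δ.naturality c.hom, ← s.toFunctor.map_comp_assoc, c.inv_hom_id]
        simp
      rw [e]
      haveI : 𝒳.p.IsHomLift (𝟙 (ℬ.p.obj (ι.obj (E.inverse.obj b)))) (γ.toNatTrans.app (E.inverse.obj b)) :=
        BasedNatTrans.isHomLift γ (ι.w_obj (E.inverse.obj b)).symm
      haveI : 𝒳.p.IsHomLift (ℬ.p.map c.inv) (s.map c.inv) := inferInstance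
      haveI : 𝒳.p.IsHomLift (ℬ.p.map c.hom) (t.map c.hom) := inferInstance
      have e2 : ℬ.p.map c.inv ≫ 𝟙 (ℬ.p.obj (ι.obj (E.inverse.obj b))) ≫ ℬ.p.map c.hom =
          𝟙 (ℬ.p.obj b) := by
        rw [Category.id_comp, ← ℬ.p.map_comp, c.inv_hom_id, ℬ.p.map_id]
      rw [← e2]
      exact inferInstanceAs (𝒳.p.IsHomLift (ℬ.p.map c.inv ≫ 𝟙 (ℬ.p.obj (ι.obj (E.inverse.obj b))) ≫ ℬ.p.map c.hom)
        (s.map c.inv ≫ γ.toNatTrans.app (E.inverse.obj b) ≫ t.map c.hom))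
    · exact BasedNatTrans.homCategory.ext _ _ hδ⟩
  haveI : (Stk.restr ι 𝒳).EssSurj := ⟨fun t => by
    let θ : ℬ.p ≅ (E.inverse ⋙ t.toFunctor) ⋙ 𝒳.p :=
      (Functor.leftUnitor _).symm ≪≫ Functor.isoWhiskerRight E.counitIso.symm ℬ.p ≪≫
        Functor.associator _ _ _ ≪≫ Functor.isoWhiskerLeft E.inverse (eqToIso (ι.w.trans t.w.symm)) ≪≫
        (Functor.associator _ _ _).symm
    obtain ⟨s, η, hη⟩ := exists_strictify hX (E.inverse ⋙ t.toFunctor) θ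
    let u : ∀ a : 𝒜.obj, s.obj (ι.obj a) ≅ t.obj a := fun a =>
      η.app (ι.obj a) ≪≫ t.toFunctor.mapIso (E.unitIso.app a).symm
    refine ⟨s, ⟨BasedNatIso.mkNatIso (NatIso.ofComponents u ?_) ?_⟩⟩
    · intro a a' g
      have n2 : t.map (E.inverse.map (ι.map g)) ≫ t.map (E.unitIso.inv.app a') =
          t.map (E.unitIso.inv.app a) ≫ t.map g := by
        rw [← t.toFunctor.map_comp, ← t.toFunctor.map_comp]
        exact congrArg t.map (E.unitIso.inv.naturality g)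
      show s.map (ι.map g) ≫ η.hom.app (ι.obj a') ≫ t.map (E.unitIso.inv.app a') =
        (η.hom.app (ι.obj a) ≫ t.map (E.unitIso.inv.app a)) ≫ t.map g
      erw [η.hom.naturality_assoc (ι.map g), n2]
      simp
    · intro a
      show 𝒳.p.IsHomLift (𝟙 (𝒜.p.obj a)) (η.hom.app (ι.obj a) ≫ t.map (E.unitIso.inv.app a))
      haveI := hη (ι.obj a)
      haveI : 𝒳.p.IsHomLift (θ.hom.app (ι.obj a) ≫ 𝒳.p.map (t.map (E.unitIso.inv.app a)))
          (η.hom.app (ι.obj a) ≫ t.map (E.unitIso.inv.app a)) := by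
        haveI := IsHomLift.map 𝒳.p (t.map (E.unitIso.inv.app a))
        exact IsHomLift.comp (p := 𝒳.p) (θ.hom.app (ι.obj a)) (𝒳.p.map (t.map (E.unitIso.inv.app a)))
          (η.hom.app (ι.obj a)) (t.map (E.unitIso.inv.app a))
      have e : θ.hom.app (ι.obj a) ≫ 𝒳.p.map (t.map (E.unitIso.inv.app a)) =
          eqToHom ((ι.w_obj a).trans (t.w_obj a).symm) := by
        have h1 : E.counitIso.inv.app (ι.obj a) = ι.map (E.unitIso.hom.app a) :=
          E.counitInv_app_functor a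
        simp only [θ, Iso.trans_hom, Iso.symm_hom, NatTrans.comp_app, Functor.leftUnitor_inv_app,
          Functor.isoWhiskerRight_hom, Functor.whiskerRight_app, Functor.associator_hom_app,
          Functor.associator_inv_app, Functor.isoWhiskerLeft_hom, Functor.whiskerLeft_app,
          eqToIso.hom, eqToHom_app, Category.id_comp, Category.comp_id, Category.assoc]
        erw [h1, map_heq ι (E.unitIso.hom.app a), map_heq t (E.unitIso.inv.app a)]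
        simp only [Category.assoc, eqToHom_trans_assoc, eqToHom_refl, Category.id_comp]
        erw [← 𝒜.p.map_comp_assoc, E.unitIso.hom_inv_id_app, 𝒜.p.map_id]
        simp
      have h2 := this
      rw [e] at h2
      haveI := h2
      have h3 := isHomLift_id_of_eqToHom (p := 𝒳.p) ((ι.w_obj a).trans (t.w_obj a).symm)
        (η.hom.app (ι.obj a) ≫ t.map (E.unitIso.inv.app a))
      rwa [ι.w_obj a] at h3⟩
  exact { }

end Equivalence

lemma isHomLift_of_eq {p : 𝒳.obj ⥤ C} {R S : C} (h : R = S) {a b : 𝒳.obj} (φ : a ⟶ b) (f : R ⟶ S)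
    (hf : f = eqToHom h) [hφ : p.IsHomLift f φ] : p.IsHomLift (𝟙 R) φ := by
  subst hf; exact isHomLift_id_of_eqToHom h φ

section Composite

/-- a category over a category over `C` as a category over `C` -/
abbrev overBase (𝒯 : BasedCategory.{v₄, u₄} 𝒳.obj) : BasedCategory.{v₄, u₄} C :=
  BasedCategory.ofFunctor (𝒯.p ⋙ 𝒳.p)

variable {𝒯 : BasedCategory.{v₄, u₄} 𝒳.obj} {𝒯' : BasedCategory.{v₅, u₅} 𝒳.obj}

/-- forget down to `C` -/
def downBase (s : 𝒯 ⥤ᵇ 𝒯') : overBase 𝒯 ⥤ᵇ overBase 𝒯' :=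
  ⟨s.toFunctor, by
    show (s.toFunctor ⋙ 𝒯'.p) ⋙ 𝒳.p = _
    rw [s.w]; rfl⟩

end Composite

section LemmaC

variable (F : 𝒳 ⥤ᵇ 𝒴) {𝒜 : BasedCategory.{v₄, u₄} 𝒴.obj} {ℬ : BasedCategory.{v₅, u₅} 𝒴.obj}
  (ι : 𝒜 ⥤ᵇ ℬ)

/-- a functor over `𝒴` as a functor over `C` -/
def toC {𝒵 : BasedCategory.{v₆, u₆} 𝒴.obj} (s : 𝒵 ⥤ᵇ BasedCategory.ofFunctor F.toFunctor) :
    BasedCategory.ofFunctor (𝒵.p ⋙ 𝒴.p) ⥤ᵇ 𝒳 :=
  ⟨s.toFunctor, by
    have h := congrArg (fun m => m ⋙ 𝒴.p) s.w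
    show s.toFunctor ⋙ 𝒳.p = 𝒵.p ⋙ 𝒴.p
    rw [← F.w]
    exact h⟩

/-- 2-morphisms over `𝒴` as 2-morphisms over `C` -/
def toCMap {𝒵 : BasedCategory.{v₆, u₆} 𝒴.obj} {s t : 𝒵 ⥤ᵇ BasedCategory.ofFunctor F.toFunctor}
    (α : s ⟶ t) : toC F s ⟶ toC F t where
  toNatTrans := α.toNatTrans
  isHomLift' a := by
    haveI : F.toFunctor.IsHomLift (𝟙 (𝒵.p.obj a)) (α.toNatTrans.app a) := α.isHomLift' a
    have e : F.map (α.toNatTrans.app a) = eqToHom (s.w_obj a) ≫ 𝟙 _ ≫ eqToHom (t.w_obj a).symm :=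
      IsHomLift.fac' F.toFunctor (𝟙 (𝒵.p.obj a)) (α.toNatTrans.app a)
    haveI : 𝒴.p.IsHomLift (𝟙 (𝒴.p.obj (𝒵.p.obj a))) (F.map (α.toNatTrans.app a)) := by
      refine IsHomLift.of_fac' 𝒴.p _ _ (congrArg 𝒴.p.obj (s.w_obj a)) (congrArg 𝒴.p.obj (t.w_obj a)) ?_
      rw [e]
      simp [eqToHom_map]
    exact BasedFunctor.isHomLift_map F (𝟙 (𝒴.p.obj (𝒵.p.obj a))) (α.toNatTrans.app a)

variable [(Stk.restr (downBase ι) 𝒳).IsEquivalence] [(Stk.restr (downBase ι) 𝒴).Full]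
  [(Stk.restr (downBase ι) 𝒴).Faithful]

lemma restr_over_isEquivalence (hF : FibCat.IsFibGrpd F.toFunctor) :
    (Stk.restr ι (BasedCategory.ofFunctor F.toFunctor)).IsEquivalence := by
  let ι' : 𝒜 ⥤ᵇ ℬ := ι
  let ιd : BasedCategory.ofFunctor (𝒜.p ⋙ 𝒴.p) ⥤ᵇ BasedCategory.ofFunctor (ℬ.p ⋙ 𝒴.p) := downBase ι
  haveI : (Stk.restr ιd 𝒳).IsEquivalence := ‹(Stk.restr (downBase ι) 𝒳).IsEquivalence›
  haveI : (Stk.restr ιd 𝒴).Full := ‹(Stk.restr (downBase ι) 𝒴).Full›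
  haveI : (Stk.restr ιd 𝒴).Faithful := ‹(Stk.restr (downBase ι) 𝒴).Faithful›
  have hw : ι.toFunctor ⋙ ℬ.p = 𝒜.p := ι.w
  haveI : (Stk.restr ι' (BasedCategory.ofFunctor F.toFunctor)).Faithful := ⟨fun {s t α β} h => by
    have h' : toCMap F α = toCMap F β := by
      apply (Stk.restr ιd 𝒳).map_injective
      apply BasedNatTrans.homCategory.ext
      apply NatTrans.ext
      funext a
      exact congrArg (fun m => m.toNatTrans.app a) h
    apply BasedNatTrans.homCategory.ext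
    exact (congrArg (fun m : toC F s ⟶ toC F t => m.toNatTrans) h' :)⟩
  haveI : (Stk.restr ι' (BasedCategory.ofFunctor F.toFunctor)).Full := ⟨fun {s t} γ => by
    let γc : (Stk.restr ιd 𝒳).obj (toC F s) ⟶ (Stk.restr ιd 𝒳).obj (toC F t) :=
      { toNatTrans := γ.toNatTrans, isHomLift' := (toCMap F (𝒵 := 𝒜) γ).isHomLift' }
    obtain ⟨δ, hδ⟩ := (Stk.restr ιd 𝒳).map_surjective γc
    have hst : BasedFunctor.comp (toC F s) F = BasedFunctor.comp (toC F t) F :=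
      basedFunctor_ext (s.w.trans t.w.symm)
    have key : BasedCategory.whiskerRight δ F = eqToHom hst := by
      apply (Stk.restr ιd 𝒴).map_injective
      apply BasedNatTrans.homCategory.ext
      apply NatTrans.ext
      funext a
      haveI : F.toFunctor.IsHomLift (𝟙 (𝒜.p.obj a)) (γ.toNatTrans.app a) := γ.isHomLift' a
      have hd : δ.toNatTrans.app (ι.obj a) = γ.toNatTrans.app a :=
        congrArg (fun m => m.toNatTrans.app a) hδ
      show F.map (δ.toNatTrans.app (ι.obj a)) = (eqToHom hst).toNatTrans.app (ι.obj a)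
      rw [hd]
      have e : F.map (γ.toNatTrans.app a) =
          eqToHom ((s.w_obj _).trans (Functor.congr_obj hw a)) ≫ 𝟙 _ ≫
            eqToHom ((t.w_obj _).trans (Functor.congr_obj hw a)).symm :=
        IsHomLift.fac' F.toFunctor (𝟙 (𝒜.p.obj a)) (γ.toNatTrans.app a)
      rw [e]
      have : ∀ {G H : BasedCategory.ofFunctor (ℬ.p ⋙ 𝒴.p) ⥤ᵇ 𝒴} (h : G = H) z,
          (eqToHom h).toNatTrans.app z = eqToHom (by rw [h]) := by
        intro G H h z; subst h; rfl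
      rw [this hst]
      simp
    refine ⟨{ toNatTrans := δ.toNatTrans, isHomLift' := fun b => ?_ }, ?_⟩
    · have hk : F.map (δ.toNatTrans.app b) =
          (eqToHom hst).toNatTrans.app b := congrArg (fun m => m.toNatTrans.app b) key
      have : ∀ {G H : BasedCategory.ofFunctor (ℬ.p ⋙ 𝒴.p) ⥤ᵇ 𝒴} (h : G = H) z,
          (eqToHom h).toNatTrans.app z = eqToHom (by rw [h]) := by
        intro G H h z; subst h; rfl
      rw [this hst] at hk
      exact IsHomLift.of_fac' F.toFunctor (𝟙 (ℬ.p.obj b)) (δ.toNatTrans.app b) (s.w_obj b) (t.w_obj b)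
        (hk.trans (by simp))
    · apply BasedNatTrans.homCategory.ext
      exact (congrArg BasedNatTrans.toNatTrans hδ :)⟩
  haveI : (Stk.restr ι' (BasedCategory.ofFunctor F.toFunctor)).EssSurj := ⟨fun t => by
    let s₁ := (Stk.restr ιd 𝒳).objPreimage (toC F t)
    let i : BasedFunctor.comp ιd s₁ ≅ toC F t := (Stk.restr ιd 𝒳).objObjPreimageIso (toC F t)
    let incl : BasedCategory.ofFunctor (ℬ.p ⋙ 𝒴.p) ⥤ᵇ 𝒴 := ⟨ℬ.p, rfl⟩
    have ht : BasedFunctor.comp (toC F t) F = BasedFunctor.comp ιd incl :=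
      basedFunctor_ext (t.w.trans ι.w.symm)
    let d : (Stk.restr ιd 𝒴).obj (BasedFunctor.comp s₁ F) ≅ (Stk.restr ιd 𝒴).obj incl :=
      (postFun _ F).mapIso i ≪≫ eqToIso ht
    let j := (Stk.restr ιd 𝒴).preimageIso d
    have hj : ∀ a, j.hom.toNatTrans.app (ι.obj a) =
        F.map (i.hom.toNatTrans.app a) ≫ (eqToHom ht).toNatTrans.app a := fun a =>
      congrArg (fun m => m.toNatTrans.app a) ((Stk.restr ιd 𝒴).map_preimage d.hom)
    let θ : ℬ.p ≅ s₁.toFunctor ⋙ F.toFunctor := ((BasedNatTrans.forgetful _ _).mapIso j).symm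
    obtain ⟨s, η, hη⟩ := exists_strictify (𝒳 := BasedCategory.ofFunctor F.toFunctor) hF s₁.toFunctor θ
    refine ⟨s, ⟨BasedNatIso.mkNatIso
      (NatIso.ofComponents (fun a => η.app (ι.obj a) ≪≫ appIso i a) ?_) ?_⟩⟩
    · intro a b g
      show s.map (ι.map g) ≫ η.hom.app (ι.obj b) ≫ i.hom.toNatTrans.app b =
        (η.hom.app (ι.obj a) ≫ i.hom.toNatTrans.app a) ≫ t.map g
      erw [η.hom.naturality_assoc (ι.map g), i.hom.toNatTrans.naturality g]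
      simp
      rfl
    · intro a
      show F.toFunctor.IsHomLift (𝟙 (𝒜.p.obj a)) (η.hom.app (ι.obj a) ≫ i.hom.toNatTrans.app a)
      haveI h1 : F.toFunctor.IsHomLift (j.inv.toNatTrans.app (ι.obj a)) (η.hom.app (ι.obj a)) := hη (ι.obj a)
      haveI h2 : F.toFunctor.IsHomLift (F.map (i.hom.toNatTrans.app a)) (i.hom.toNatTrans.app a) :=
        IsHomLift.map F.toFunctor (i.hom.toNatTrans.app a)
      have h3 : F.toFunctor.IsHomLift
          (j.inv.toNatTrans.app (ι.obj a) ≫ F.map (i.hom.toNatTrans.app a))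
          (η.hom.app (ι.obj a) ≫ i.hom.toNatTrans.app a) :=
        IsHomLift.comp (p := F.toFunctor) (j.inv.toNatTrans.app (ι.obj a))
          (F.map (i.hom.toNatTrans.app a)) (η.hom.app (ι.obj a)) (i.hom.toNatTrans.app a)
      have hq : ∀ {G H : BasedCategory.ofFunctor (𝒜.p ⋙ 𝒴.p) ⥤ᵇ 𝒴} (h : G = H) z,
          (eqToHom h).toNatTrans.app z = eqToHom (by rw [h]) := by
        intro G H h z; subst h; rfl
      have e : j.inv.toNatTrans.app (ι.obj a) ≫ F.map (i.hom.toNatTrans.app a) =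
          eqToHom ((Functor.congr_obj hw a).trans (t.w_obj a).symm) := by
        have hh : j.inv.toNatTrans.app (ι.obj a) ≫ j.hom.toNatTrans.app (ι.obj a) = 𝟙 _ :=
          congrArg (fun m => m.toNatTrans.app (ι.obj a)) j.inv_hom_id
        rw [hj, hq ht] at hh
        erw [← Category.assoc] at hh
        erw [comp_eqToHom_iff] at hh
        exact hh.trans (Category.id_comp _)
      haveI := h3
      have h4 := isHomLift_of_eq (p := F.toFunctor) (𝒳 := BasedCategory.ofFunctor F.toFunctor)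
        ((Functor.congr_obj hw a).trans (t.w_obj a).symm)
        (η.hom.app (ι.obj a) ≫ i.hom.toNatTrans.app a) _ e
      rwa [show (ι.toFunctor ⋙ ℬ.p).obj a = 𝒜.p.obj a from Functor.congr_obj hw a] at h4⟩
  exact ({ } : (Stk.restr ι' (BasedCategory.ofFunctor F.toFunctor)).IsEquivalence)

end LemmaC

section LemmaD

variable (𝒯 : BasedCategory.{v₄, u₄} 𝒳.obj) {𝒜 : BasedCategory.{v₅, u₅} C}
  {ℬ : BasedCategory.{v₆, u₆} C} (ι : 𝒜 ⥤ᵇ ℬ)

/-- `ι` as a functor over `𝒳` -/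
abbrev overIncl (γ : ℬ ⥤ᵇ 𝒳) :
    BasedCategory.ofFunctor (ι.toFunctor ⋙ γ.toFunctor) ⥤ᵇ BasedCategory.ofFunctor γ.toFunctor :=
  ⟨ι.toFunctor, rfl⟩

/-- a functor over `C` into a category over `𝒳`, composed to `𝒳` -/
def toX {𝒵 : BasedCategory.{v₇, u₇} C} (s : 𝒵 ⥤ᵇ overBase 𝒯) : 𝒵 ⥤ᵇ 𝒳 :=
  ⟨s.toFunctor ⋙ 𝒯.p, s.w⟩

/-- its action on 2-morphisms -/
def toXMap {𝒵 : BasedCategory.{v₇, u₇} C} {s t : 𝒵 ⥤ᵇ overBase 𝒯} (α : s ⟶ t) : toX 𝒯 s ⟶ toX 𝒯 t where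
  toNatTrans := Functor.whiskerRight α.toNatTrans 𝒯.p
  isHomLift' a := by
    haveI : (𝒯.p ⋙ 𝒳.p).IsHomLift (𝟙 (𝒵.p.obj a)) (α.toNatTrans.app a) := α.isHomLift' a
    exact IsHomLift.of_fac' 𝒳.p _ _ (IsHomLift.domain_eq (𝒯.p ⋙ 𝒳.p) (𝟙 (𝒵.p.obj a)) (α.toNatTrans.app a))
      (IsHomLift.codomain_eq (𝒯.p ⋙ 𝒳.p) (𝟙 (𝒵.p.obj a)) (α.toNatTrans.app a))
      (IsHomLift.fac' (𝒯.p ⋙ 𝒳.p) (𝟙 (𝒵.p.obj a)) (α.toNatTrans.app a))

variable [(Stk.restr ι 𝒳).IsEquivalence]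

lemma restr_comp_isEquivalence (hT : FibCat.IsFibGrpd 𝒯.p) (hX : FibCat.IsFibGrpd 𝒳.p)
    (H : ∀ γ : ℬ ⥤ᵇ 𝒳, (Stk.restr (overIncl ι γ) 𝒯).IsEquivalence) :
    (Stk.restr ι (overBase 𝒯)).IsEquivalence := by
  -- 2-morphisms over a fixed `δ`
  have key : ∀ {s t : ℬ ⥤ᵇ overBase 𝒯} (δ : toX 𝒯 s ⟶ toX 𝒯 t),
      ∃ (u v : BasedCategory.ofFunctor (toX 𝒯 s).toFunctor ⥤ᵇ 𝒯) (η : v.toFunctor ≅ t.toFunctor),
        u.toFunctor = s.toFunctor ∧ ∀ b, 𝒯.p.IsHomLift (δ.toNatTrans.app b) (η.hom.app b) := by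
    intro s t δ
    haveI : ∀ b, IsIso (δ.toNatTrans.app b) := fun b =>
      haveI : 𝒳.p.IsHomLift (𝟙 (ℬ.p.obj b)) (δ.toNatTrans.app b) := δ.isHomLift' b
      isIso_of_isHomLift hX (𝟙 (ℬ.p.obj b)) _
    haveI : IsIso δ.toNatTrans := NatIso.isIso_of_isIso_app _
    obtain ⟨v, η, hη⟩ := exists_strictify (𝒳 := 𝒯) hT (𝒜 := BasedCategory.ofFunctor (toX 𝒯 s).toFunctor)
      t.toFunctor (asIso δ.toNatTrans)
    exact ⟨⟨s.toFunctor, rfl⟩, v, η, rfl, hη⟩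
  have vert : ∀ {s t : ℬ ⥤ᵇ overBase 𝒯} (δ : toX 𝒯 s ⟶ toX 𝒯 t) (a : ℬ.obj) {z : 𝒯.obj}
      (m : s.obj a ⟶ z) (e : z ⟶ t.obj a), 𝒯.p.IsHomLift (𝟙 (𝒯.p.obj (s.obj a))) m →
      𝒯.p.IsHomLift (δ.toNatTrans.app a) e → (overBase 𝒯).p.IsHomLift (𝟙 (ℬ.p.obj a)) (m ≫ e) := by
    intro s t δ a z m e hm he
    haveI : 𝒯.p.IsHomLift (δ.toNatTrans.app a) (m ≫ e) :=
      IsHomLift.comp_lift_id_left' (p := 𝒯.p) (𝒯.p.obj (s.obj a)) m (δ.toNatTrans.app a) e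
    haveI : 𝒳.p.IsHomLift (𝟙 (ℬ.p.obj a)) (δ.toNatTrans.app a) := δ.isHomLift' a
    have e1 : δ.toNatTrans.app a = 𝒯.p.map (m ≫ e) :=
      IsHomLift.eq_of_isHomLift 𝒯.p (δ.toNatTrans.app a) (m ≫ e)
    haveI : 𝒳.p.IsHomLift (𝟙 (ℬ.p.obj a)) (𝒯.p.map (m ≫ e)) := e1 ▸ inferInstance
    exact IsHomLift.of_fac' (𝒯.p ⋙ 𝒳.p) _ _ (s.w_obj a) (t.w_obj a)
      (IsHomLift.fac' 𝒳.p (𝟙 (ℬ.p.obj a)) (𝒯.p.map (m ≫ e)))
  haveI : (Stk.restr ι (overBase 𝒯)).Faithful := ⟨fun {s t α β} h => by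
    have hq : toXMap 𝒯 α = toXMap 𝒯 β := by
      apply (Stk.restr ι 𝒳).map_injective
      apply BasedNatTrans.homCategory.ext
      apply NatTrans.ext
      funext a
      exact congrArg (fun m => 𝒯.p.map (m.toNatTrans.app a)) h
    obtain ⟨u, v, η, hu, hη⟩ := key (toXMap 𝒯 α)
    obtain ⟨u₀, hu₀⟩ := u
    cases hu
    let δ := toXMap 𝒯 α
    haveI : ∀ b, IsIso (δ.toNatTrans.app b) := fun b =>
      haveI : 𝒳.p.IsHomLift (𝟙 (ℬ.p.obj b)) (δ.toNatTrans.app b) := δ.isHomLift' b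
      isIso_of_isHomLift hX (𝟙 (ℬ.p.obj b)) _
    have hv : ∀ (ε : s ⟶ t), toXMap 𝒯 ε = δ → ∀ b : ℬ.obj,
        𝒯.p.IsHomLift (𝟙 (𝒯.p.obj (s.obj b))) (ε.toNatTrans.app b ≫ η.inv.app b) := by
      intro ε hε b
      haveI := hη b
      haveI : 𝒯.p.IsHomLift (δ.toNatTrans.app b) (ε.toNatTrans.app b) := by
        rw [← hε]; exact IsHomLift.map 𝒯.p (ε.toNatTrans.app b)
      haveI : 𝒯.p.IsHomLift (inv (δ.toNatTrans.app b)) (inv (η.hom.app b)) := inferInstance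
      have : 𝒯.p.IsHomLift (δ.toNatTrans.app b ≫ inv (δ.toNatTrans.app b))
          (ε.toNatTrans.app b ≫ inv (η.hom.app b)) := inferInstance
      rw [IsIso.hom_inv_id, ← NatIso.inv_inv_app η b] at *
      simp at this ⊢
      exact this
    let u' : BasedCategory.ofFunctor (toX 𝒯 s).toFunctor ⥤ᵇ 𝒯 := ⟨s.toFunctor, rfl⟩
    let n : (s ⟶ t) → (u'.toFunctor ⟶ v.toFunctor) := fun ε =>
      (show s.toFunctor ⟶ t.toFunctor from ε.toNatTrans) ≫ η.inv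
    let mk : ∀ (ε : s ⟶ t), toXMap 𝒯 ε = δ → (u' ⟶ v) := fun ε hε =>
      { toNatTrans := n ε, isHomLift' := fun b => hv ε hε b }
    haveI : (Stk.restr (overIncl ι (toX 𝒯 s)) 𝒯).IsEquivalence := H _
    have : mk α rfl = mk β hq.symm := by
      apply (Stk.restr (overIncl ι (toX 𝒯 s)) 𝒯).map_injective
      apply BasedNatTrans.homCategory.ext
      apply NatTrans.ext
      funext a
      exact congrArg (fun m => m.toNatTrans.app a ≫ η.inv.app (ι.obj a)) h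
    apply BasedNatTrans.homCategory.ext
    have h2 : α.toNatTrans ≫ η.inv = β.toNatTrans ≫ η.inv := congrArg BasedNatTrans.toNatTrans this
    exact (cancel_mono η.inv).1 h2⟩
  haveI : (Stk.restr ι (overBase 𝒯)).Full := ⟨fun {s t} γ => by
    let γX : (Stk.restr ι 𝒳).obj (toX 𝒯 s) ⟶ (Stk.restr ι 𝒳).obj (toX 𝒯 t) :=
      { toNatTrans := Functor.whiskerRight γ.toNatTrans 𝒯.p
        isHomLift' := (toXMap 𝒯 (𝒵 := 𝒜) γ).isHomLift' }
    obtain ⟨δ, hδ⟩ := (Stk.restr ι 𝒳).map_surjective γX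
    obtain ⟨u, v, η, hu, hη⟩ := key δ
    obtain ⟨u₀, hu₀⟩ := u
    cases hu
    haveI : ∀ b, IsIso (δ.toNatTrans.app b) := fun b =>
      haveI : 𝒳.p.IsHomLift (𝟙 (ℬ.p.obj b)) (δ.toNatTrans.app b) := δ.isHomLift' b
      isIso_of_isHomLift hX (𝟙 (ℬ.p.obj b)) _
    let u' : BasedCategory.ofFunctor (toX 𝒯 s).toFunctor ⥤ᵇ 𝒯 := ⟨s.toFunctor, rfl⟩
    have hγ : ∀ a : 𝒜.obj, 𝒯.p.IsHomLift (𝟙 (𝒯.p.obj (s.obj (ι.obj a))))
        (γ.toNatTrans.app a ≫ η.inv.app (ι.obj a)) := by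
      intro a
      haveI := hη (ι.obj a)
      haveI : 𝒯.p.IsHomLift (δ.toNatTrans.app (ι.obj a)) (γ.toNatTrans.app a) := by
        rw [show δ.toNatTrans.app (ι.obj a) = 𝒯.p.map (γ.toNatTrans.app a) from
          congrArg (fun m => m.toNatTrans.app a) hδ]
        exact IsHomLift.map 𝒯.p (γ.toNatTrans.app a)
      have : 𝒯.p.IsHomLift (δ.toNatTrans.app (ι.obj a) ≫ inv (δ.toNatTrans.app (ι.obj a)))
          (γ.toNatTrans.app a ≫ inv (η.hom.app (ι.obj a))) := inferInstance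
      rw [IsIso.hom_inv_id] at this
      simp at this ⊢
      exact this
    haveI : (Stk.restr (overIncl ι (toX 𝒯 s)) 𝒯).IsEquivalence := H _
    let n : ι.toFunctor ⋙ u'.toFunctor ⟶ ι.toFunctor ⋙ v.toFunctor :=
      (show ι.toFunctor ⋙ s.toFunctor ⟶ ι.toFunctor ⋙ t.toFunctor from γ.toNatTrans) ≫
        Functor.whiskerLeft ι.toFunctor η.inv
    obtain ⟨m, hm⟩ := (Stk.restr (overIncl ι (toX 𝒯 s)) 𝒯).map_surjective (X := u') (Y := v)
      { toNatTrans := n, isHomLift' := fun a => hγ a }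
    refine ⟨{ toNatTrans := m.toNatTrans ≫ η.hom, isHomLift' := fun b => ?_ }, ?_⟩
    · exact vert δ b (m.toNatTrans.app b) (η.hom.app b) (m.isHomLift' b) (hη b)
    · apply BasedNatTrans.homCategory.ext
      apply NatTrans.ext
      funext a
      have hm' : m.toNatTrans.app (ι.obj a) = γ.toNatTrans.app a ≫ η.inv.app (ι.obj a) :=
        congrArg (fun k => k.toNatTrans.app a) hm
      show m.toNatTrans.app (ι.obj a) ≫ η.hom.app (ι.obj a) = γ.toNatTrans.app a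
      rw [hm']
      simp
      exact Category.comp_id _⟩
  haveI : (Stk.restr ι (overBase 𝒯)).EssSurj := ⟨fun t => by
    let γ := (Stk.restr ι 𝒳).objPreimage (toX 𝒯 t)
    let i : BasedFunctor.comp ι γ ≅ toX 𝒯 t := (Stk.restr ι 𝒳).objObjPreimageIso (toX 𝒯 t)
    obtain ⟨t', η, hη⟩ := exists_strictify (𝒳 := 𝒯) hT
      (𝒜 := BasedCategory.ofFunctor (ι.toFunctor ⋙ γ.toFunctor)) t.toFunctor
      ((BasedNatTrans.forgetful _ _).mapIso i)
    haveI : (Stk.restr (overIncl ι γ) 𝒯).IsEquivalence := H γ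
    let s' := (Stk.restr (overIncl ι γ) 𝒯).objPreimage t'
    let j : BasedFunctor.comp (overIncl ι γ) s' ≅ t' := (Stk.restr (overIncl ι γ) 𝒯).objObjPreimageIso t'
    let s : ℬ ⥤ᵇ overBase 𝒯 := ⟨s'.toFunctor, by
      show (s'.toFunctor ⋙ 𝒯.p) ⋙ 𝒳.p = ℬ.p
      rw [s'.w]; exact γ.w⟩
    refine ⟨s, ⟨BasedNatIso.mkNatIso ((BasedNatTrans.forgetful _ _).mapIso j ≪≫ η) (fun a => ?_)⟩⟩
    show (𝒯.p ⋙ 𝒳.p).IsHomLift (𝟙 (𝒜.p.obj a)) (j.hom.toNatTrans.app a ≫ η.hom.app a)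
    haveI : 𝒯.p.IsHomLift (𝟙 (γ.obj (ι.obj a))) (j.hom.toNatTrans.app a) := j.hom.isHomLift' a
    haveI : 𝒯.p.IsHomLift (i.hom.toNatTrans.app a) (η.hom.app a) := hη a
    haveI : 𝒯.p.IsHomLift (i.hom.toNatTrans.app a) (j.hom.toNatTrans.app a ≫ η.hom.app a) :=
      IsHomLift.comp_lift_id_left' (p := 𝒯.p) (γ.obj (ι.obj a)) (j.hom.toNatTrans.app a)
        (i.hom.toNatTrans.app a) (η.hom.app a)
    haveI : 𝒳.p.IsHomLift (𝟙 (𝒜.p.obj a)) (i.hom.toNatTrans.app a) := i.hom.isHomLift' a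
    have e1 := IsHomLift.fac' 𝒯.p (i.hom.toNatTrans.app a) (j.hom.toNatTrans.app a ≫ η.hom.app a)
    refine IsHomLift.of_fac' (𝒯.p ⋙ 𝒳.p) _ _ ((s.w_obj _).trans (ι.w_obj a)) (t.w_obj a) ?_
    show 𝒳.p.map (𝒯.p.map (j.hom.toNatTrans.app a ≫ η.hom.app a)) = _
    rw [e1, Functor.map_comp, Functor.map_comp, eqToHom_map, eqToHom_map,
      IsHomLift.fac' 𝒳.p (𝟙 (𝒜.p.obj a)) (i.hom.toNatTrans.app a)]
    simp⟩
  exact { }

end LemmaD

end Groth.Agent.FC16
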