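import Groth.Prelude.Def_FibCat2

/-! Basic facts on categories fibred in groupoids and equivalences over the base. -/

universe v₅ u₅ v₄ u₄ v₃ u₃ v₂ u₂ v u

open CategoryTheory CategoryTheory.Functor

set_option linter.style.haveILetI false
set_option linter.unusedSimpArgs false

namespace Groth.Agent.FC16

section Grpd

variable {C : Type u} [Category.{v} C] {𝒳 : Type u₂} [Category.{v₂} 𝒳] {p : 𝒳 ⥤ C}

lemma exists_lift (h : FibCat.IsFibGrpd p) {x : 𝒳} {U V : C} (hx : p.obj x = U) (f : V ⟶ U) :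
    ∃ (y : 𝒳) (φ : y ⟶ x), p.IsHomLift f φ := by
  subst hx; exact h.exists_lift f

lemma isStronglyCartesian (h : FibCat.IsFibGrpd p) {R S : C} (f : R ⟶ S) {y x : 𝒳} (φ : y ⟶ x)
    [p.IsHomLift f φ] : p.IsStronglyCartesian f φ := by
  subst_hom_lift p f φ; exact h.isStronglyCartesian φ

lemma isFibered (h : FibCat.IsFibGrpd p) : p.IsFibered :=
  IsFibered.of_exists_isStronglyCartesian fun _ _ f =>
    have ⟨y, φ, hφ⟩ := h.exists_lift f
    ⟨y, φ, isStronglyCartesian h f φ⟩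

lemma isIso_of_isHomLift (h : FibCat.IsFibGrpd p) {R S : C} (f : R ⟶ S) [IsIso f] {y x : 𝒳}
    (φ : y ⟶ x) [p.IsHomLift f φ] : IsIso φ := by
  have := isStronglyCartesian h f φ
  exact IsStronglyCartesian.isIso_of_base_isIso p f φ

lemma isIso_of_isIso_base (h : FibCat.IsFibGrpd p) {y x : 𝒳} (φ : y ⟶ x) [IsIso (p.map φ)] :
    IsIso φ :=
  isIso_of_isHomLift h (p.map φ) φ

/-- An isomorphism of `𝒳` over an identity gives an isomorphism in the fibre. -/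
noncomputable def fiberIso {U : C} {a b : p.Fiber U} (e : a.1 ≅ b.1)
    (he : p.IsHomLift (𝟙 U) e.hom) : a ≅ b where
  hom := ⟨e.hom, he⟩
  inv := ⟨e.inv, by haveI := he; infer_instance⟩
  hom_inv_id := Subtype.ext e.hom_inv_id
  inv_hom_id := Subtype.ext e.inv_hom_id

lemma isIso_fiber_iff {U : C} {a b : p.Fiber U} (φ : a ⟶ b) : IsIso φ ↔ IsIso φ.1 := by
  constructor
  · intro _
    exact inferInstanceAs (IsIso (Fiber.fiberInclusion.map φ))
  · intro _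
    exact (fiberIso (asIso φ.1) φ.2).isIso_hom

lemma isGroupoid_fiber (h : FibCat.IsFibGrpd p) (U : C) : IsGroupoid (p.Fiber U) where
  all_isIso {a b} φ := (isIso_fiber_iff φ).2 (@isIso_of_isHomLift _ _ _ _ _ h _ _ (𝟙 U) _ _ _ _ φ.2)

lemma isStronglyCartesian_of_isGroupoid_fiber [p.IsFibered] (hU : ∀ U : C, IsGroupoid (p.Fiber U))
    {R S : C} (f : R ⟶ S) {y x : 𝒳} (φ : y ⟶ x) [p.IsHomLift f φ] :
    p.IsStronglyCartesian f φ := by
  have hx : p.obj x = S := IsHomLift.codomain_eq p f φ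
  let ψ := IsPreFibered.pullbackMap hx f
  let χ := IsCartesian.map p f ψ φ
  have hχ : IsIso χ := by
    have := (hU R).all_isIso (Fiber.homMk p R χ)
    exact inferInstanceAs (IsIso (Fiber.fiberInclusion.map (Fiber.homMk p R χ)))
  have h1 : p.IsStronglyCartesian (𝟙 R) χ := inferInstance
  have h2 : p.IsStronglyCartesian (𝟙 R ≫ f) (χ ≫ ψ) := inferInstance
  simpa [χ] using h2

lemma isFibGrpd_of_isFibered [p.IsFibered] (hU : ∀ U : C, IsGroupoid (p.Fiber U)) :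
    FibCat.IsFibGrpd p where
  exists_lift f := have ⟨y, φ, _⟩ := IsPreFibered.exists_isCartesian p rfl f; ⟨y, φ, inferInstance⟩
  isStronglyCartesian φ := isStronglyCartesian_of_isGroupoid_fiber hU _ φ

/-- For fibred categories cartesian and strongly cartesian morphisms agree. -/
lemma isStronglyCartesian_iff_isCartesian [p.IsFibered] {R S : C} (f : R ⟶ S) {y x : 𝒳} (φ : y ⟶ x) :
    p.IsStronglyCartesian f φ ↔ p.IsCartesian f φ :=
  ⟨fun _ => inferInstance, fun _ => inferInstance⟩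

lemma exists_isStronglyCartesian [p.IsFibered] {R S : C} {a : 𝒳} (ha : p.obj a = S) (f : R ⟶ S) :
    ∃ (b : 𝒳) (φ : b ⟶ a), p.IsStronglyCartesian f φ :=
  ⟨_, IsPreFibered.pullbackMap ha f, inferInstance⟩

lemma isHomLift_unique {R S : C} (f g : R ⟶ S) {y x : 𝒳} (φ : y ⟶ x) [p.IsHomLift f φ]
    [p.IsHomLift g φ] : f = g := by
  rw [IsHomLift.fac p f φ, IsHomLift.fac p g φ]

end Grpd

section OverC

variable {C : Type u} [Category.{v} C] {𝒳 : BasedCategory.{v₂, u₂} C} {𝒴 : BasedCategory.{v₃, u₃} C}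
  {𝒵 : BasedCategory.{v₄, u₄} C}

lemma map_heq (F : 𝒳 ⥤ᵇ 𝒴) {a b : 𝒳.obj} (φ : a ⟶ b) :
    𝒴.p.map (F.map φ) = eqToHom (F.w_obj a) ≫ 𝒳.p.map φ ≫ eqToHom (F.w_obj b).symm :=
  Functor.congr_hom F.w φ

lemma p_map_eq_of_map_eq (F : 𝒳 ⥤ᵇ 𝒴) {a b : 𝒳.obj} {φ φ' : a ⟶ b} (h : F.map φ = F.map φ') :
    𝒳.p.map φ = 𝒳.p.map φ' := by
  haveI : 𝒴.p.IsHomLift (𝒳.p.map φ') (F.map φ) := by rw [h]; infer_instance
  haveI := BasedFunctor.isHomLift_map F (𝒳.p.map φ') φ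
  exact (IsHomLift.eq_of_isHomLift 𝒳.p (𝒳.p.map φ') φ).symm

/-- A based isomorphism has isomorphisms over identities as components. -/
noncomputable def appIso {F G : 𝒳 ⥤ᵇ 𝒴} (e : F ≅ G) (x : 𝒳.obj) : F.obj x ≅ G.obj x :=
  ((BasedNatTrans.forgetful _ _).mapIso e).app x

lemma isHomLift_appIso_hom {F G : 𝒳 ⥤ᵇ 𝒴} (e : F ≅ G) (x : 𝒳.obj) {U : C} (hx : 𝒳.p.obj x = U) :
    𝒴.p.IsHomLift (𝟙 U) (appIso e x).hom :=
  BasedNatTrans.isHomLift e.hom hx

/-- essential surjectivity over the base -/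
def EssSurjOver (F : 𝒳 ⥤ᵇ 𝒴) : Prop :=
  ∀ η : 𝒴.obj, ∃ (ξ : 𝒳.obj) (e : F.toFunctor.obj ξ ≅ η), 𝒴.p.IsHomLift (𝟙 (𝒴.p.obj η)) e.hom

lemma isEquivalence_of_isEquivOver {F : 𝒳 ⥤ᵇ 𝒴} (hF : FibCat.IsEquivOver F) :
    F.toFunctor.IsEquivalence := by
  obtain ⟨G, ⟨α⟩, ⟨β⟩⟩ := hF
  exact Functor.IsEquivalence.mk' G.toFunctor ((BasedNatTrans.forgetful _ _).mapIso α).symm
    ((BasedNatTrans.forgetful _ _).mapIso β)

lemma essSurjOver_of_isEquivOver {F : 𝒳 ⥤ᵇ 𝒴} (hF : FibCat.IsEquivOver F) : EssSurjOver F := by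
  obtain ⟨G, _, ⟨β⟩⟩ := hF
  exact fun η => ⟨G.obj η, appIso β η, isHomLift_appIso_hom β η rfl⟩

section Criterion

variable {F : 𝒳 ⥤ᵇ 𝒴}

noncomputable def invObj (hs : EssSurjOver F) (η : 𝒴.obj) : 𝒳.obj := (hs η).choose

noncomputable def invIso (hs : EssSurjOver F) (η : 𝒴.obj) : F.obj (invObj hs η) ≅ η :=
  (hs η).choose_spec.choose

instance invIso_lift (hs : EssSurjOver F) (η : 𝒴.obj) :
    𝒴.p.IsHomLift (𝟙 (𝒴.p.obj η)) (invIso hs η).hom :=
  (hs η).choose_spec.choose_spec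

lemma invObj_p (hs : EssSurjOver F) (η : 𝒴.obj) : 𝒳.p.obj (invObj hs η) = 𝒴.p.obj η :=
  (F.w_obj _).symm.trans (IsHomLift.domain_eq 𝒴.p (𝟙 (𝒴.p.obj η)) (invIso hs η).hom)

variable [F.toFunctor.Full] [F.toFunctor.Faithful]

noncomputable def invMap (hs : EssSurjOver F) {η η' : 𝒴.obj} (g : η ⟶ η') :
    invObj hs η ⟶ invObj hs η' :=
  F.toFunctor.preimage ((invIso hs η).hom ≫ g ≫ (invIso hs η').inv)

lemma map_invMap (hs : EssSurjOver F) {η η' : 𝒴.obj} (g : η ⟶ η') :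
    F.map (invMap hs g) = (invIso hs η).hom ≫ g ≫ (invIso hs η').inv :=
  F.toFunctor.map_preimage _

instance invMap_lift (hs : EssSurjOver F) {η η' : 𝒴.obj} (g : η ⟶ η') :
    𝒳.p.IsHomLift (𝒴.p.map g) (invMap hs g) := by
  haveI : 𝒴.p.IsHomLift (𝒴.p.map g) (F.map (invMap hs g)) := by rw [map_invMap]; infer_instance
  exact BasedFunctor.isHomLift_map F _ _

/-- A quasi-inverse over the base. -/
noncomputable def invFunctor (hs : EssSurjOver F) : 𝒴 ⥤ᵇ 𝒳 where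
  toFunctor :=
    { obj := invObj hs
      map := invMap hs
      map_id := fun η => F.toFunctor.map_injective (by simp [map_invMap])
      map_comp := fun g g' => F.toFunctor.map_injective (by simp [map_invMap]) }
  w := Functor.ext (invObj_p hs) (fun η η' g => IsHomLift.fac' 𝒳.p (𝒴.p.map g) (invMap hs g))

noncomputable def counitIso (hs : EssSurjOver F) :
    BasedFunctor.comp (invFunctor hs) F ≅ BasedFunctor.id 𝒴 :=
  BasedNatIso.mkNatIso
    (NatIso.ofComponents (fun η => invIso hs η)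
      (fun {a b} g => by
        show F.map (invMap hs g) ≫ (invIso hs b).hom = (invIso hs a).hom ≫ g
        simp [map_invMap]))
    (fun η => invIso_lift hs η)

noncomputable def unitIso (hs : EssSurjOver F) :
    BasedFunctor.comp F (invFunctor hs) ≅ BasedFunctor.id 𝒳 :=
  BasedNatIso.mkNatIso
    (NatIso.ofComponents (fun x => F.toFunctor.preimageIso (invIso hs (F.obj x)))
      (fun {a b} g => F.toFunctor.map_injective (by
        show F.map (invMap hs (F.map g) ≫ (F.toFunctor.preimageIso (invIso hs (F.obj b))).hom) =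
          F.map ((F.toFunctor.preimageIso (invIso hs (F.obj a))).hom ≫ g)
        simp [map_invMap])))
    (fun x => by
      haveI h := invIso_lift hs (F.obj x)
      rw [F.w_obj] at h
      haveI : 𝒴.p.IsHomLift (𝟙 (𝒳.p.obj x))
          (F.map (F.toFunctor.preimageIso (invIso hs (F.obj x))).hom) := by
        rw [Functor.preimageIso_hom, Functor.map_preimage]; exact h
      exact BasedFunctor.isHomLift_map F (𝟙 (𝒳.p.obj x))
        (F.toFunctor.preimageIso (invIso hs (F.obj x))).hom)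

end Criterion

lemma isEquivOver_of (F : 𝒳 ⥤ᵇ 𝒴) [F.toFunctor.Full] [F.toFunctor.Faithful] (hs : EssSurjOver F) :
    FibCat.IsEquivOver F :=
  ⟨invFunctor hs, ⟨unitIso hs⟩, ⟨counitIso hs⟩⟩

lemma isEquivOver_iff (F : 𝒳 ⥤ᵇ 𝒴) :
    FibCat.IsEquivOver F ↔ (F.toFunctor.Full ∧ F.toFunctor.Faithful) ∧ EssSurjOver F := by
  refine ⟨fun h => ?_, fun ⟨⟨_, _⟩, hs⟩ => isEquivOver_of F hs⟩
  have := isEquivalence_of_isEquivOver h
  exact ⟨⟨inferInstance, inferInstance⟩, essSurjOver_of_isEquivOver h⟩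

lemma isEquivOver_id : FibCat.IsEquivOver (BasedFunctor.id 𝒳) :=
  ⟨BasedFunctor.id 𝒳, ⟨Iso.refl _⟩, ⟨Iso.refl _⟩⟩

lemma isEquivOver_comp {F : 𝒳 ⥤ᵇ 𝒴} {G : 𝒴 ⥤ᵇ 𝒵} (hF : FibCat.IsEquivOver F)
    (hG : FibCat.IsEquivOver G) : FibCat.IsEquivOver (BasedFunctor.comp F G) := by
  have := isEquivalence_of_isEquivOver hF
  have := isEquivalence_of_isEquivOver hG
  have : (BasedFunctor.comp F G).toFunctor.Full := inferInstanceAs (F.toFunctor ⋙ G.toFunctor).Full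
  have : (BasedFunctor.comp F G).toFunctor.Faithful :=
    inferInstanceAs (F.toFunctor ⋙ G.toFunctor).Faithful
  refine isEquivOver_of _ fun z => ?_
  obtain ⟨y, e, he⟩ := essSurjOver_of_isEquivOver hG z
  obtain ⟨x, e', he'⟩ := essSurjOver_of_isEquivOver hF y
  refine ⟨x, G.toFunctor.mapIso e' ≪≫ e, ?_⟩
  have hy : 𝒴.p.obj y = 𝒵.p.obj z :=
    (G.w_obj y).symm.trans (IsHomLift.domain_eq 𝒵.p (𝟙 (𝒵.p.obj z)) e.hom)
  rw [hy] at he'
  exact inferInstanceAs (𝒵.p.IsHomLift (𝟙 (𝒵.p.obj z)) (G.map e'.hom ≫ e.hom))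

lemma isEquivOver_of_iso {F F' : 𝒳 ⥤ᵇ 𝒴} (i : F ≅ F') (hF : FibCat.IsEquivOver F) :
    FibCat.IsEquivOver F' := by
  have := isEquivalence_of_isEquivOver hF
  let j : F.toFunctor ≅ F'.toFunctor := (BasedNatTrans.forgetful _ _).mapIso i
  have : F'.toFunctor.IsEquivalence := Functor.isEquivalence_of_iso j
  refine isEquivOver_of _ fun y => ?_
  obtain ⟨x, e, he⟩ := essSurjOver_of_isEquivOver hF y
  refine ⟨x, (appIso i x).symm ≪≫ e, ?_⟩
  have hx : 𝒳.p.obj x = 𝒴.p.obj y :=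
    (F.w_obj x).symm.trans (IsHomLift.domain_eq 𝒴.p (𝟙 (𝒴.p.obj y)) e.hom)
  haveI := isHomLift_appIso_hom i x hx
  exact inferInstanceAs (𝒴.p.IsHomLift (𝟙 (𝒴.p.obj y)) ((appIso i x).inv ≫ e.hom))

lemma exists_inverse {F : 𝒳 ⥤ᵇ 𝒴} (hF : FibCat.IsEquivOver F) :
    ∃ G : 𝒴 ⥤ᵇ 𝒳, FibCat.IsEquivOver G ∧
      Nonempty (BasedFunctor.comp F G ≅ BasedFunctor.id 𝒳) ∧
      Nonempty (BasedFunctor.comp G F ≅ BasedFunctor.id 𝒴) := by
  obtain ⟨G, h1, h2⟩ := hF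
  exact ⟨G, ⟨F, h2, h1⟩, h1, h2⟩

end OverC

end Groth.Agent.FC16
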