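import Groth.Prelude.Def_W4stkcategoriessitesFib

/-! Functoriality of 2-fibre products of plain categories. -/

universe v₉ u₉ v₈ u₈ v₇ u₇ v₆ u₆ v₅ u₅ v₄ u₄

open CategoryTheory CategoryTheory.Functor CategoryTheory.Limits

set_option backward.isDefEq.respectTransparency false
set_option backward.isDefEq.respectTransparency.types false

namespace Groth.Agent.FC16

variable {X : Type u₄} {Y : Type u₅} {Z : Type u₆} {A : Type u₇} {B : Type u₈} {C : Type u₉}
  [Category.{v₄} X] [Category.{v₅} Y] [Category.{v₆} Z] [Category.{v₇} A] [Category.{v₈} B] [Category.{v₉} C]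
  {H : X ⥤ Z} {I : Y ⥤ Z} {F : A ⥤ C} {G : B ⥤ C} (ψ : CatCospanTransform H I F G)

lemma cpm_fst (x : CategoricalPullback H I) :
    ((FibCat.categoricalPullbackMap ψ).obj x).fst = ψ.left.obj x.fst := rfl

lemma cpm_iso (x : CategoricalPullback H I) :
    ((FibCat.categoricalPullbackMap ψ).obj x).iso.hom =
      ψ.squareLeft.iso.inv.app x.fst ≫ ψ.base.map x.iso.hom ≫ ψ.squareRight.iso.hom.app x.snd := by
  simp [FibCat.categoricalPullbackMap]
  rfl

lemma cpm_faithful [ψ.left.Faithful] [ψ.right.Faithful] :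
    (FibCat.categoricalPullbackMap ψ).Faithful :=
  ⟨fun {_ _} _ _ h => CategoricalPullback.hom_ext
    (ψ.left.map_injective (congrArg (fun t => t.fst) h))
    (ψ.right.map_injective (congrArg (fun t => t.snd) h))⟩

lemma cpm_full [ψ.left.Full] [ψ.right.Full] [ψ.base.Faithful] :
    (FibCat.categoricalPullbackMap ψ).Full := ⟨fun {x y} φ => by
  obtain ⟨a, ha⟩ := ψ.left.map_surjective φ.fst
  obtain ⟨b, hb⟩ := ψ.right.map_surjective φ.snd
  have h : F.map (ψ.left.map a) ≫ ((FibCat.categoricalPullbackMap ψ).obj y).iso.hom =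
      ((FibCat.categoricalPullbackMap ψ).obj x).iso.hom ≫ G.map (ψ.right.map b) := by
    rw [ha, hb]; exact φ.w
  rw [cpm_iso, cpm_iso] at h
  have n1 : F.map (ψ.left.map a) ≫ ψ.squareLeft.iso.inv.app y.fst =
      ψ.squareLeft.iso.inv.app x.fst ≫ ψ.base.map (H.map a) := ψ.squareLeft.iso.inv.naturality a
  have n2 : ψ.base.map (I.map b) ≫ ψ.squareRight.iso.hom.app y.snd =
      ψ.squareRight.iso.hom.app x.snd ≫ G.map (ψ.right.map b) := ψ.squareRight.iso.hom.naturality b
  have w : H.map a ≫ y.iso.hom = x.iso.hom ≫ I.map b := by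
    apply ψ.base.map_injective
    rw [Functor.map_comp, Functor.map_comp, ← cancel_mono (ψ.squareRight.iso.hom.app y.snd),
      ← cancel_epi (ψ.squareLeft.iso.inv.app x.fst), Category.assoc, Category.assoc, n2,
      ← reassoc_of% n1]
    exact h.trans (by simp only [Category.assoc])
  exact ⟨{ fst := a, snd := b, w := w }, CategoricalPullback.hom_ext ha hb⟩⟩

lemma cpm_essSurj [ψ.left.EssSurj] [ψ.right.EssSurj] [ψ.base.Full] [ψ.base.Faithful] :
    (FibCat.categoricalPullbackMap ψ).EssSurj := ⟨fun η => by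
  let i := ψ.left.objObjPreimageIso η.fst
  let j := ψ.right.objObjPreimageIso η.snd
  let x := ψ.left.objPreimage η.fst
  let y := ψ.right.objPreimage η.snd
  let d : ψ.base.obj (H.obj x) ≅ ψ.base.obj (I.obj y) :=
    ψ.squareLeft.iso.app x ≪≫ F.mapIso i ≪≫ η.iso ≪≫ (G.mapIso j).symm ≪≫ (ψ.squareRight.iso.app y).symm
  let P : CategoricalPullback H I := { fst := x, snd := y, iso := ψ.base.preimageIso d }
  refine ⟨P, ⟨CategoricalPullback.mkIso i j ?_⟩⟩
  rw [cpm_iso]
  show _ = (_ ≫ ψ.base.map (ψ.base.preimageIso d).hom ≫ _) ≫ _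
  rw [Functor.preimageIso_hom, Functor.map_preimage]
  simp [d, P]
  erw [Category.id_comp, ← G.map_comp, j.inv_hom_id, G.map_id, Category.comp_id]⟩

end Groth.Agent.FC16
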