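import Groth.Agent.Lib.FC16.Basic
import Groth.Prelude.Def_AlgSt
import Groth.Prelude.Def_W4c2modmodulilectNerve
import Mathlib.CategoryTheory.Category.ULift
import Mathlib.CategoryTheory.Adjunction.Whiskering
import Mathlib.CategoryTheory.Comma.StructuredArrow.Basic

/-! Restriction of sections along functors with contractible comma categories. -/

universe v₁ v₂ v₃ u₁ u₂ u₃

open CategoryTheory CategoryTheory.Functor

set_option linter.style.haveILetI false
set_option linter.unusedSimpArgs false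
set_option linter.unusedVariables false
set_option backward.isDefEq.respectTransparency false
set_option backward.isDefEq.respectTransparency.types false

namespace Groth.Agent.FC16

variable {C : Type u₁} [Category.{v₁} C] {D : Type u₂} [Category.{v₂} D] {F : Type u₃}
  [Category.{v₃} F]

/-- the hypothesis on the comma categories -/
def Contr.{a₁, a₂, a₃, b₁, b₂, b₃, vJ, uJ} (J : Type uJ) [Category.{vJ} J] : Prop :=
  W4c2modmodulilect.HasContractibleNerve.{max a₁ a₂ a₃ b₁ b₂ b₃, max a₁ a₂ a₃ b₁ b₂ b₃} J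

variable (φ : C ⥤ D) (p : F ⥤ D)


variable {φ p}

section Cones

lemma contr_const {J : Type*} [Category J] (hJ : Contr.{u₁, u₂, u₃, v₁, v₂, v₃} J) {α : Type v₃}
    (m : J → α) (hm : ∀ {A B : J}, (A ⟶ B) → m A = m B) (A B : J) : m A = m B := by
  let W := Discrete (ULift.{max u₁ u₂ u₃ v₁ v₂ v₃} α)
  letI : Groupoid W := Groupoid.ofIsGroupoid
  haveI := hJ.2 W
  let K : J ⥤ W :=
    { obj := fun A => Discrete.mk (ULift.up (m A))
      map := fun g => Discrete.eqToHom (congrArg ULift.up (hm g)) }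
  let i := (Functor.const J : W ⥤ J ⥤ W).objObjPreimageIso K
  have h : ∀ A, ((Functor.const J : W ⥤ J ⥤ W).objPreimage K).as = ULift.up (m A) :=
    fun A => Discrete.eq_of_hom (i.app A).hom
  exact congrArg ULift.down ((h A).symm.trans (h B))

variable {t : C ⥤ F} (ht : t ⋙ p = φ)

include ht in
lemma p_t (X : C) : p.obj (t.obj X) = φ.obj X := Functor.congr_obj ht X

include ht in
lemma t_lift {X X' : C} (g : X ⟶ X') : p.IsHomLift (φ.map g) (t.map g) := by
  subst ht
  exact IsHomLift.map p (t.map g)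

variable (φ p t) in
/-- a cone over `Y`: the value at `Y` of a section extending `t` -/
structure Cone (Y : D) where
  x : F
  hx : p.obj x = Y
  e : ∀ A : StructuredArrow Y φ, x ⟶ t.obj A.right
  lift : ∀ A, p.IsHomLift A.hom (e A)
  compat : ∀ {A B : StructuredArrow Y φ} (g : A ⟶ B), e A ≫ t.map g.right = e B

attribute [instance] Cone.lift

lemma Cone.e_congr {Y : D} (c : Cone φ p t Y) {X : C} {a a' : Y ⟶ φ.obj X} (h : a = a') :
    c.e (StructuredArrow.mk a) = c.e (StructuredArrow.mk a') := by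
  subst h; rfl

variable [hp : FibCat.IsFibGrpd p] (hφ : ∀ Y : D, Contr.{u₁, u₂, u₃, v₁, v₂, v₃} (StructuredArrow Y φ))

include hφ ht in
lemma exists_cone (Y : D) : Nonempty (Cone φ p t Y) := by
  haveI := isFibered hp
  let P : ∀ A : StructuredArrow Y φ, F := fun A => IsPreFibered.pullbackObj (p_t ht A.right) A.hom
  let π : ∀ A, P A ⟶ t.obj A.right := fun A => IsPreFibered.pullbackMap (p_t ht A.right) A.hom
  have hP : ∀ A, p.obj (P A) = Y := fun A => IsPreFibered.pullbackObj_proj _ _
  have hl : ∀ {A B : StructuredArrow Y φ} (g : A ⟶ B),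
      p.IsHomLift B.hom (π A ≫ t.map g.right) := by
    intro A B g
    haveI := t_lift ht g.right
    rw [← StructuredArrow.w g]
    infer_instance
  let mp : ∀ {A B : StructuredArrow Y φ} (g : A ⟶ B), P A ⟶ P B := fun {A B} g =>
    haveI := hl g
    IsStronglyCartesian.map p B.hom (π B) (g := 𝟙 Y) (f' := B.hom) (by simp) (π A ≫ t.map g.right)
  have mp_lift : ∀ {A B : StructuredArrow Y φ} (g : A ⟶ B), p.IsHomLift (𝟙 Y) (mp g) :=
    fun g => by dsimp only [mp]; infer_instance
  have mp_fac : ∀ {A B : StructuredArrow Y φ} (g : A ⟶ B), mp g ≫ π B = π A ≫ t.map g.right :=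
    fun g => IsStronglyCartesian.fac _ _ _ _ _
  let T : StructuredArrow Y φ ⥤ p.Fiber Y :=
    { obj := fun A => ⟨P A, hP A⟩
      map := fun g => ⟨mp g, mp_lift g⟩
      map_id := fun A => by
        apply Subtype.ext
        haveI := mp_lift (𝟙 A)
        haveI : p.IsHomLift (𝟙 Y) (𝟙 (P A)) := IsHomLift.id (hP A)
        refine IsStronglyCartesian.ext p A.hom (π A) (𝟙 Y) (ψ' := 𝟙 (P A)) ?_
        simp [mp_fac]
      map_comp := fun {A B E} g g' => by
        apply Subtype.ext
        haveI := mp_lift g; haveI := mp_lift g'; haveI := mp_lift (g ≫ g')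
        refine IsStronglyCartesian.ext p E.hom (π E) (𝟙 Y) (ψ' := mp g ≫ mp g') ?_
        simp [mp_fac, reassoc_of% mp_fac g] }
  haveI := isGroupoid_fiber hp Y
  let W := AsSmall.{max u₁ u₂ u₃ v₁ v₂ v₃} (p.Fiber Y)
  letI : Groupoid W :=
    haveI : IsGroupoid W := isGroupoid_of_reflects_iso (AsSmall.equiv (C := p.Fiber Y)).inverse
    Groupoid.ofIsGroupoid
  haveI := (hφ Y).2 W
  let c := (Functor.const (StructuredArrow Y φ) : W ⥤ _ ⥤ W).objPreimage (T ⋙ AsSmall.up)
  let i := (Functor.const (StructuredArrow Y φ) : W ⥤ _ ⥤ W).objObjPreimageIso (T ⋙ AsSmall.up)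
  let i' := isoWhiskerRight i AsSmall.down
  have hn : ∀ {A B : StructuredArrow Y φ} (g : A ⟶ B),
      (i'.hom.app A).1 ≫ mp g = (i'.hom.app B).1 := by
    intro A B g
    have hnat := i'.hom.naturality g
    simp only [Functor.comp_map, Functor.const_obj_map] at hnat
    erw [CategoryTheory.Functor.map_id, Category.id_comp] at hnat
    exact (congrArg Subtype.val hnat).symm
  exact ⟨
    { x := (AsSmall.down.obj c).1
      hx := (AsSmall.down.obj c).2
      e := fun A => (i'.hom.app A).1 ≫ π A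
      lift := fun A => by
        haveI := (i'.hom.app A).2
        exact IsHomLift.comp_lift_id_left' (p := p) Y (i'.hom.app A).1 A.hom (π A)
      compat := fun {A B} g => by
        rw [Category.assoc, ← mp_fac g]
        erw [reassoc_of% hn g] }⟩

include hφ in
/-- morphisms of cones exist uniquely -/
lemma existsUnique_coneHom {Y Y' : D} (b : Y ⟶ Y') (c : Cone φ p t Y) (c' : Cone φ p t Y') :
    ∃! m : c.x ⟶ c'.x, p.IsHomLift b m ∧
      ∀ A : StructuredArrow Y' φ, m ≫ c'.e A = c.e ((StructuredArrow.map b).obj A) := by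
  haveI : ∀ A, p.IsStronglyCartesian A.hom (c'.e A) := fun A => isStronglyCartesian hp A.hom _
  haveI : ∀ A : StructuredArrow Y' φ, p.IsHomLift (b ≫ A.hom) (c.e ((StructuredArrow.map b).obj A)) :=
    fun A => c.lift ((StructuredArrow.map b).obj A)
  let m : StructuredArrow Y' φ → (c.x ⟶ c'.x) := fun A =>
    IsStronglyCartesian.map p A.hom (c'.e A) (g := b) (f' := b ≫ A.hom) rfl
      (c.e ((StructuredArrow.map b).obj A))
  have hlift : ∀ A, p.IsHomLift b (m A) := fun A => by dsimp only [m]; infer_instance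
  have hfac : ∀ A, m A ≫ c'.e A = c.e ((StructuredArrow.map b).obj A) :=
    fun A => IsStronglyCartesian.fac _ _ _ _ _
  have hnat : ∀ {A B : StructuredArrow Y' φ}, (A ⟶ B) → m A = m B := by
    intro A B g
    haveI := hlift A
    refine IsStronglyCartesian.map_uniq p B.hom (c'.e B) (g := b) rfl _ (m A) ?_
    rw [← c'.compat g, reassoc_of% hfac A]
    exact c.compat ((StructuredArrow.map b).map g)
  obtain ⟨A₀⟩ := (hφ Y').1
  refine ⟨m A₀, ⟨hlift A₀, fun A => ?_⟩, ?_⟩
  · rw [contr_const (hφ Y') m hnat A₀ A]; exact hfac A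
  · rintro m' ⟨hm', hm''⟩
    haveI := hm'
    exact IsStronglyCartesian.map_uniq p A₀.hom (c'.e A₀) (g := b) rfl _ m' (hm'' A₀)

end Cones

section Main

variable {φ : C ⥤ D} {p : F ⥤ D} [hp : FibCat.IsFibGrpd p]

instance sec_lift (σ : FibCat.selfOver D ⥤ᵇ BasedCategory.ofFunctor p) {Y Y' : D} (b : Y ⟶ Y') :
    p.IsHomLift b (σ.map b) := by
  haveI : (FibCat.selfOver D).p.IsHomLift b b := IsHomLift.map (𝟭 D) b
  exact BasedFunctor.preserves_isHomLift σ b b

/-- the cone of a section, twisted by a morphism of restricted sections -/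
def secCone (σ σ' : FibCat.selfOver D ⥤ᵇ BasedCategory.ofFunctor p)
    (β : ∀ X : C, σ.obj (φ.obj X) ⟶ σ'.obj (φ.obj X))
    (hβ : ∀ X, p.IsHomLift (𝟙 (φ.obj X)) (β X))
    (hnat : ∀ {X X' : C} (g : X ⟶ X'), σ.map (φ.map g) ≫ β X' = β X ≫ σ'.map (φ.map g)) (Y : D) :
    Cone φ p (φ ⋙ σ'.toFunctor) Y where
  x := σ.obj Y
  hx := σ.w_obj Y
  e A := σ.map A.hom ≫ β A.right
  lift A := by haveI := hβ A.right; infer_instance
  compat {A B} g := by
    show (σ.map A.hom ≫ β A.right) ≫ σ'.map (φ.map g.right) = σ.map B.hom ≫ β B.right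
    rw [Category.assoc, ← hnat, ← σ.toFunctor.map_comp_assoc, StructuredArrow.w g]

variable (hφ : ∀ Y : D, Contr.{u₁, u₂, u₃, v₁, v₂, v₃} (StructuredArrow Y φ))

section EssSurj

variable (t : BasedCategory.ofFunctor φ ⥤ᵇ BasedCategory.ofFunctor p)

include hφ in
noncomputable def theCone (Y : D) : Cone φ p t.toFunctor Y := (exists_cone (p := p) (t := t.toFunctor) t.w hφ Y).some

noncomputable def extMap {Y Y' : D} (b : Y ⟶ Y') : (theCone hφ t Y).x ⟶ (theCone hφ t Y').x :=
  (existsUnique_coneHom hφ b (theCone hφ t Y) (theCone hφ t Y')).exists.choose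

lemma extMap_spec {Y Y' : D} (b : Y ⟶ Y') : p.IsHomLift b (extMap hφ t b) ∧
    ∀ A : StructuredArrow Y' φ, extMap hφ t b ≫ (theCone hφ t Y').e A =
      (theCone hφ t Y).e ((StructuredArrow.map b).obj A) :=
  (existsUnique_coneHom hφ b (theCone hφ t Y) (theCone hφ t Y')).exists.choose_spec

noncomputable def extSection : FibCat.selfOver D ⥤ᵇ BasedCategory.ofFunctor p where
  toFunctor :=
    { obj := fun Y => (theCone hφ t Y).x
      map := fun b => extMap hφ t b
      map_id := fun Y => (existsUnique_coneHom hφ (𝟙 Y) _ _).unique (extMap_spec hφ t (𝟙 Y))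
        ⟨IsHomLift.id (theCone hφ t Y).hx, fun A => by
          erw [Category.id_comp]
          exact (theCone hφ t Y).e_congr (Category.id_comp A.hom).symm⟩
      map_comp := fun {Y Y' Y''} b b' =>
        (existsUnique_coneHom hφ (b ≫ b') _ _).unique (extMap_spec hφ t (b ≫ b'))
          ⟨by haveI := (extMap_spec hφ t b).1; haveI := (extMap_spec hφ t b').1; infer_instance,
           fun A => by
            erw [Category.assoc, (extMap_spec hφ t b').2, (extMap_spec hφ t b).2]
            exact (theCone hφ t Y).e_congr (Category.assoc b b' A.hom).symm⟩ }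
  w := by
    refine CategoryTheory.Functor.ext (fun Y => ?_) (fun Y Y' b => ?_)
    · exact (theCone hφ t Y).hx
    · haveI := (extMap_spec hφ t b).1
      exact IsHomLift.fac' p b (extMap hφ t b)

include hφ in
lemma exists_section_iso : Nonempty
    (BasedFunctor.comp (FibCat.toSelf (BasedCategory.ofFunctor φ)) (extSection hφ t) ≅ t) := by
  haveI : ∀ X : C, IsIso ((theCone hφ t (φ.obj X)).e (StructuredArrow.mk (𝟙 (φ.obj X)))) := fun X => by
    haveI : p.IsHomLift (𝟙 (φ.obj X)) ((theCone hφ t (φ.obj X)).e (StructuredArrow.mk (𝟙 (φ.obj X)))) :=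
      (theCone hφ t (φ.obj X)).lift (StructuredArrow.mk (𝟙 (φ.obj X)))
    exact isIso_of_isHomLift hp (𝟙 (φ.obj X)) _
  refine ⟨BasedNatIso.mkNatIso (NatIso.ofComponents
    (fun X => asIso ((theCone hφ t (φ.obj X)).e (StructuredArrow.mk (𝟙 (φ.obj X))))) ?_) ?_⟩
  · intro X X' g
    show extMap hφ t (φ.map g) ≫ (theCone hφ t (φ.obj X')).e (StructuredArrow.mk (𝟙 (φ.obj X'))) =
      (theCone hφ t (φ.obj X)).e (StructuredArrow.mk (𝟙 (φ.obj X))) ≫ t.map g
    rw [(extMap_spec hφ t (φ.map g)).2]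
    exact ((theCone hφ t (φ.obj X)).compat (A := StructuredArrow.mk (𝟙 (φ.obj X)))
      (B := (StructuredArrow.map (φ.map g)).obj (StructuredArrow.mk (𝟙 (φ.obj X'))))
      (StructuredArrow.homMk g (by simp))).symm
  · exact fun X => (theCone hφ t (φ.obj X)).lift (StructuredArrow.mk (𝟙 (φ.obj X)))

end EssSurj

include hφ in
lemma restr_full :
    (Stk.restr (FibCat.toSelf (BasedCategory.ofFunctor φ)) (BasedCategory.ofFunctor p)).Full where
  map_surjective {σ σ'} β := by
    let β' : ∀ X : C, σ.obj (φ.obj X) ⟶ σ'.obj (φ.obj X) := fun X => β.toNatTrans.app X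
    have hβ : ∀ X, p.IsHomLift (𝟙 (φ.obj X)) (β' X) := fun X => BasedNatTrans.isHomLift β rfl
    have hnat : ∀ {X X' : C} (g : X ⟶ X'), σ.map (φ.map g) ≫ β' X' = β' X ≫ σ'.map (φ.map g) :=
      fun g => β.toNatTrans.naturality g
    let c := fun Y => secCone σ σ' β' hβ hnat Y
    let c' := fun Y => secCone σ' σ' (fun X => 𝟙 (σ'.obj (φ.obj X)))
      (fun X => IsHomLift.id (σ'.w_obj (φ.obj X))) (by simp) Y
    have H := fun Y : D => existsUnique_coneHom hφ (𝟙 Y) (c Y) (c' Y)
    let α : ∀ Y : D, σ.obj Y ⟶ σ'.obj Y := fun Y => (H Y).exists.choose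
    have α_lift : ∀ Y, p.IsHomLift (𝟙 Y) (α Y) := fun Y => (H Y).exists.choose_spec.1
    have α_fac : ∀ {Y : D} (A : StructuredArrow Y φ),
        α Y ≫ σ'.map A.hom = σ.map A.hom ≫ β' A.right := by
      intro Y A
      have h2 : α Y ≫ σ'.map A.hom ≫ 𝟙 _ = σ.map (𝟙 Y ≫ A.hom) ≫ β' A.right :=
        (H Y).exists.choose_spec.2 A
      erw [Category.comp_id, Category.id_comp] at h2
      exact h2
    refine ⟨{ toNatTrans := { app := fun (Y : D) => α Y, naturality := fun Y Y' b => ?_ }
              isHomLift' := fun (Y : D) => α_lift Y }, ?_⟩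
    · haveI := α_lift Y; haveI := α_lift Y'
      refine (existsUnique_coneHom hφ b (c Y) (c' Y')).unique ⟨?_, fun A => ?_⟩ ⟨?_, fun A => ?_⟩
      · exact inferInstanceAs (p.IsHomLift b (σ.map b ≫ α Y'))
      · show (σ.map b ≫ α Y') ≫ σ'.map A.hom ≫ 𝟙 _ = σ.map (b ≫ A.hom) ≫ β' A.right
        erw [Category.comp_id, Category.assoc, α_fac, ← σ.toFunctor.map_comp_assoc]
      · exact inferInstanceAs (p.IsHomLift b (α Y ≫ σ'.map b))
      · show (α Y ≫ σ'.map b) ≫ σ'.map A.hom ≫ 𝟙 _ = σ.map (b ≫ A.hom) ≫ β' A.right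
        erw [Category.comp_id, Category.assoc, ← σ'.toFunctor.map_comp]
        exact α_fac ((StructuredArrow.map b).obj A)
    · apply BasedNatTrans.homCategory.ext
      ext X
      have := α_fac (StructuredArrow.mk (𝟙 (φ.obj X)))
      simp only [StructuredArrow.mk_hom_eq_self] at this
      erw [CategoryTheory.Functor.map_id, CategoryTheory.Functor.map_id, Category.comp_id,
        Category.id_comp] at this
      exact this

include hφ in
lemma restr_faithful :
    (Stk.restr (FibCat.toSelf (BasedCategory.ofFunctor φ)) (BasedCategory.ofFunctor p)).Faithful where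
  map_injective {σ σ' α α'} h := by
    have happ : ∀ X : C, α.toNatTrans.app (φ.obj X) = α'.toNatTrans.app (φ.obj X) :=
      fun X => congrArg (fun γ => γ.toNatTrans.app X) h
    apply BasedNatTrans.homCategory.ext
    apply NatTrans.ext
    funext Y
    let c := secCone σ σ' (fun X => α.toNatTrans.app (φ.obj X))
      (fun X => BasedNatTrans.isHomLift α rfl) (fun g => α.toNatTrans.naturality (φ.map g)) Y
    let c' := secCone σ' σ' (fun X => 𝟙 (σ'.obj (φ.obj X)))
      (fun X => IsHomLift.id (σ'.w_obj (φ.obj X))) (by simp) Y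
    refine (existsUnique_coneHom hφ (𝟙 Y) c c').unique
      ⟨BasedNatTrans.isHomLift α rfl, fun A => ?_⟩ ⟨BasedNatTrans.isHomLift α' rfl, fun A => ?_⟩
    · show α.toNatTrans.app Y ≫ σ'.map A.hom ≫ 𝟙 _ =
        σ.map (𝟙 Y ≫ A.hom) ≫ α.toNatTrans.app (φ.obj A.right)
      erw [Category.comp_id, Category.id_comp]
      exact (α.toNatTrans.naturality A.hom).symm
    · show α'.toNatTrans.app Y ≫ σ'.map A.hom ≫ 𝟙 _ =
        σ.map (𝟙 Y ≫ A.hom) ≫ α.toNatTrans.app (φ.obj A.right)
      erw [Category.comp_id, Category.id_comp, happ]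
      exact (α'.toNatTrans.naturality A.hom).symm

include hφ in
lemma restr_isEquivalence :
    (Stk.restr (FibCat.toSelf (BasedCategory.ofFunctor φ)) (BasedCategory.ofFunctor p)).IsEquivalence :=
  haveI := restr_full hφ (p := p)
  haveI := restr_faithful hφ (p := p)
  haveI : (Stk.restr (FibCat.toSelf (BasedCategory.ofFunctor φ))
      (BasedCategory.ofFunctor p)).EssSurj :=
    ⟨fun t => ⟨extSection hφ t, exists_section_iso hφ t⟩⟩
  { }

end Main

section Fibred

variable (f : C ⥤ D) [f.IsFibered]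

/-- the inclusion of a fibre in the comma category -/
def fibIncl (Y : D) : f.Fiber Y ⥤ StructuredArrow Y f where
  obj x := StructuredArrow.mk (eqToHom x.2.symm)
  map {x x'} u := StructuredArrow.homMk u.1 (by
    haveI := u.2
    show eqToHom x.2.symm ≫ f.map u.1 = eqToHom x'.2.symm
    rw [IsHomLift.fac' f (𝟙 Y) u.1]
    simp)

lemma exists_adjunction (Y : D) :
    ∃ R : StructuredArrow Y f ⥤ f.Fiber Y, Nonempty (fibIncl f Y ⊣ R) := by
  let P : StructuredArrow Y f → f.Fiber Y := fun A =>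
    ⟨IsPreFibered.pullbackObj (rfl : f.obj A.right = _) A.hom,
      IsPreFibered.pullbackObj_proj (rfl : f.obj A.right = _) A.hom⟩
  let π : ∀ A, (P A).1 ⟶ A.right := fun A => IsPreFibered.pullbackMap (rfl : f.obj A.right = _) A.hom
  have hl : ∀ {x : f.Fiber Y} {A} (g : (fibIncl f Y).obj x ⟶ A), f.IsHomLift A.hom g.right := by
    intro x A g
    refine IsHomLift.of_fac f A.hom g.right x.2 rfl ?_
    have := StructuredArrow.w g
    simpa [fibIncl] using this.symm
  let e : ∀ x A, ((fibIncl f Y).obj x ⟶ A) ≃ (x ⟶ P A) := fun x A =>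
    { toFun := fun g => haveI := hl g
        Fiber.homMk f Y (IsCartesian.map f A.hom (π A) g.right)
      invFun := fun u => StructuredArrow.homMk (u.1 ≫ π A) (by
        haveI := u.2
        haveI : f.IsHomLift A.hom (u.1 ≫ π A) :=
          IsHomLift.comp_lift_id_left' (p := f) Y u.1 A.hom (π A)
        show eqToHom x.2.symm ≫ f.map (u.1 ≫ π A) = A.hom
        rw [IsHomLift.fac' f A.hom (u.1 ≫ π A)]
        simp)
      left_inv := fun g => by
        haveI := hl g
        apply StructuredArrow.hom_ext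
        exact IsCartesian.fac f A.hom (π A) g.right
      right_inv := fun u => by
        apply Fiber.hom_ext
        haveI := u.2
        haveI : f.IsHomLift A.hom (u.1 ≫ π A) :=
          IsHomLift.comp_lift_id_left' (p := f) Y u.1 A.hom (π A)
        exact (IsCartesian.map_uniq f A.hom (π A) (u.1 ≫ π A) u.1 rfl).symm }
  refine ⟨Adjunction.rightAdjointOfEquiv e ?_, ⟨Adjunction.adjunctionOfEquivRight e ?_⟩⟩
  all_goals
    intro x' x A v g
    apply Fiber.hom_ext
    haveI := hl g
    haveI := hl ((fibIncl f Y).map v ≫ g)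
    haveI := v.2
    symm
    refine IsCartesian.map_uniq f A.hom (π A) _ _ ?_
    show (v.1 ≫ IsCartesian.map f A.hom (π A) g.right) ≫ π A = v.1 ≫ g.right
    rw [Category.assoc, IsCartesian.fac]

lemma contr_structuredArrow (hf : ∀ Y : D, Contr.{u₁, u₂, u₃, v₁, v₂, v₃} (f.Fiber Y)) (Y : D) :
    Contr.{u₁, u₂, u₃, v₁, v₂, v₃} (StructuredArrow Y f) := by
  obtain ⟨R, ⟨adj⟩⟩ := exists_adjunction f Y
  refine ⟨(hf Y).1.map (fibIncl f Y).obj, fun G _ => ?_⟩
  let adj' := adj.whiskerLeft G
  haveI : ∀ X, IsIso (adj'.unit.app X) := fun X => NatIso.isIso_of_isIso_app _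
  haveI : ∀ X, IsIso (adj'.counit.app X) := fun X => NatIso.isIso_of_isIso_app _
  haveI : ((Functor.whiskeringLeft _ _ G).obj R).IsEquivalence :=
    adj'.toEquivalence.isEquivalence_functor
  haveI := (hf Y).2 G
  exact inferInstanceAs
    ((Functor.const (f.Fiber Y) : G ⥤ _ ⥤ G) ⋙ (Functor.whiskeringLeft _ _ G).obj R).IsEquivalence

end Fibred

end Groth.Agent.FC16
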