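import Groth.Agent.Lib.FC16.Contract
import Groth.Agent.Lib.FC16.Self
import Mathlib.CategoryTheory.Filtered.Basic
import Mathlib.CategoryTheory.Filtered.Connected

/-! Restriction along functors over the base with contractible comma categories. -/

universe v₁ v₂ v₃ v₄ u₁ u₂ u₃ u₄

open CategoryTheory CategoryTheory.Functor

set_option linter.style.haveILetI false
set_option linter.unusedSimpArgs false
set_option linter.unusedVariables false
set_option linter.unusedSectionVars false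
set_option backward.isDefEq.respectTransparency false
set_option backward.isDefEq.respectTransparency.types false

namespace Groth.Agent.FC16

lemma contr_of_isCofiltered {J : Type u₄} [Category.{v₄} J] [IsCofiltered J] :
    Contr.{u₁, u₂, u₃, v₁, v₂, v₃} J := by
  refine ⟨IsCofiltered.nonempty, fun G _ => ?_⟩
  haveI : IsConnected J := IsCofiltered.isConnected J
  haveI : (Functor.const J : G ⥤ J ⥤ G).Faithful := inferInstance
  haveI : (Functor.const J : G ⥤ J ⥤ G).Full := inferInstance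
  haveI : (Functor.const J : G ⥤ J ⥤ G).EssSurj := by
    refine ⟨fun K => ?_⟩
    let j₀ : J := Classical.arbitrary J
    let c : ∀ j, K.obj j₀ ⟶ K.obj j := fun j =>
      inv (K.map (IsCofiltered.minToLeft j₀ j)) ≫ K.map (IsCofiltered.minToRight j₀ j)
    have hc : ∀ {j : J} {k : J} (a : k ⟶ j₀) (b : k ⟶ j), inv (K.map a) ≫ K.map b = c j := by
      intro j k a b
      let m := IsCofiltered.min k (IsCofiltered.min j₀ j)
      let p₁ : m ⟶ k := IsCofiltered.minToLeft _ _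
      let p₂ : m ⟶ IsCofiltered.min j₀ j := IsCofiltered.minToRight _ _
      obtain ⟨n, e, he⟩ : ∃ (n : J) (e : n ⟶ m),
          e ≫ p₁ ≫ a = e ≫ p₂ ≫ IsCofiltered.minToLeft j₀ j :=
        ⟨_, IsCofiltered.eqHom _ _, IsCofiltered.eq_condition _ _⟩
      obtain ⟨n', e', he'⟩ : ∃ (n' : J) (e' : n' ⟶ n),
          e' ≫ e ≫ p₁ ≫ b = e' ≫ e ≫ p₂ ≫ IsCofiltered.minToRight j₀ j :=
        ⟨_, IsCofiltered.eqHom _ _, IsCofiltered.eq_condition _ _⟩
      let q₁ : n' ⟶ k := e' ≫ e ≫ p₁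
      let q₂ : n' ⟶ IsCofiltered.min j₀ j := e' ≫ e ≫ p₂
      have ha : K.map q₁ ≫ K.map a = K.map q₂ ≫ K.map (IsCofiltered.minToLeft j₀ j) := by
        rw [← K.map_comp, ← K.map_comp]
        congr 1
        simp only [q₁, q₂, Category.assoc, he]
      have hb : K.map q₁ ≫ K.map b = K.map q₂ ≫ K.map (IsCofiltered.minToRight j₀ j) := by
        rw [← K.map_comp, ← K.map_comp]
        congr 1
        simp only [q₁, q₂, Category.assoc, he']
      have ha' : inv (K.map a) = inv (K.map (IsCofiltered.minToLeft j₀ j)) ≫ inv (K.map q₂) ≫ K.map q₁ := by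
        rw [IsIso.eq_inv_comp, IsIso.eq_inv_comp, ← Category.assoc, ← ha, Category.assoc,
          IsIso.hom_inv_id, Category.comp_id]
      simp only [c, ha', Category.assoc, hb, IsIso.inv_hom_id_assoc]
    refine ⟨K.obj j₀, ⟨NatIso.ofComponents (fun j => asIso (c j)) (fun {j j'} g => ?_)⟩⟩
    show 𝟙 _ ≫ c j' = c j ≫ K.map g
    rw [Category.id_comp, ← hc (IsCofiltered.minToLeft j₀ j) (IsCofiltered.minToRight j₀ j ≫ g)]
    simp [c]
  exact { }

namespace Gen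

variable {E : Type u₄} [Category.{v₄} E] {𝒜 : BasedCategory.{v₁, u₁} E} {ℬ : BasedCategory.{v₂, u₂} E}
  {𝒮 : BasedCategory.{v₃, u₃} E} (ι : 𝒜 ⥤ᵇ ℬ)

/-- a cone over `Y` -/
structure Cone (t : 𝒜 ⥤ᵇ 𝒮) (Y : ℬ.obj) where
  x : 𝒮.obj
  hx : 𝒮.p.obj x = ℬ.p.obj Y
  e : ∀ A : StructuredArrow Y ι.toFunctor, x ⟶ t.obj A.right
  lift : ∀ A, 𝒮.p.IsHomLift (ℬ.p.map A.hom) (e A)
  compat : ∀ {A B : StructuredArrow Y ι.toFunctor} (g : A ⟶ B), e A ≫ t.map g.right = e B

attribute [instance] Cone.lift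

variable {ι} {t : 𝒜 ⥤ᵇ 𝒮}

lemma Cone.e_congr {Y : ℬ.obj} (c : Cone ι t Y) {X : 𝒜.obj} {a a' : Y ⟶ ι.obj X} (h : a = a') :
    c.e (StructuredArrow.mk a) = c.e (StructuredArrow.mk a') := by
  subst h; rfl

lemma t_lift (t : 𝒜 ⥤ᵇ 𝒮) {X X' : 𝒜.obj} (g : X ⟶ X') :
    𝒮.p.IsHomLift (ℬ.p.map (ι.map g)) (t.map g) := by
  refine IsHomLift.of_fac' 𝒮.p _ _ ((t.w_obj X).trans (ι.w_obj X).symm)
    ((t.w_obj X').trans (ι.w_obj X').symm) ?_
  rw [map_heq t g, map_heq ι g]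
  simp

variable (hS : FibCat.IsFibGrpd 𝒮.p)
  (hι : ∀ Y : ℬ.obj, Contr.{u₁, u₂, u₃, v₁, v₂, v₃} (StructuredArrow Y ι.toFunctor))

include hS hι in
lemma exists_cone (t : 𝒜 ⥤ᵇ 𝒮) (Y : ℬ.obj) : Nonempty (Cone ι t Y) := by
  haveI := isFibered hS
  have ht : ∀ X, 𝒮.p.obj (t.obj X) = ℬ.p.obj (ι.obj X) := fun X => (t.w_obj X).trans (ι.w_obj X).symm
  let P : ∀ A : StructuredArrow Y ι.toFunctor, 𝒮.obj := fun A =>
    IsPreFibered.pullbackObj (ht A.right) (ℬ.p.map A.hom)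
  let π : ∀ A, P A ⟶ t.obj A.right := fun A => IsPreFibered.pullbackMap (ht A.right) (ℬ.p.map A.hom)
  have hP : ∀ A, 𝒮.p.obj (P A) = ℬ.p.obj Y := fun A => IsPreFibered.pullbackObj_proj _ _
  have hl : ∀ {A B : StructuredArrow Y ι.toFunctor} (g : A ⟶ B),
      𝒮.p.IsHomLift (ℬ.p.map B.hom) (π A ≫ t.map g.right) := by
    intro A B g
    haveI := t_lift (ι := ι) t g.right
    rw [← StructuredArrow.w g, ℬ.p.map_comp]
    infer_instance
  let mp : ∀ {A B : StructuredArrow Y ι.toFunctor} (g : A ⟶ B), P A ⟶ P B := fun {A B} g =>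
    haveI := hl g
    IsStronglyCartesian.map 𝒮.p (ℬ.p.map B.hom) (π B) (g := 𝟙 (ℬ.p.obj Y)) (f' := ℬ.p.map B.hom)
      (by simp) (π A ≫ t.map g.right)
  have mp_lift : ∀ {A B : StructuredArrow Y ι.toFunctor} (g : A ⟶ B),
      𝒮.p.IsHomLift (𝟙 (ℬ.p.obj Y)) (mp g) := fun g => by dsimp only [mp]; infer_instance
  have mp_fac : ∀ {A B : StructuredArrow Y ι.toFunctor} (g : A ⟶ B),
      mp g ≫ π B = π A ≫ t.map g.right := fun g => IsStronglyCartesian.fac _ _ _ _ _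
  let T : StructuredArrow Y ι.toFunctor ⥤ 𝒮.p.Fiber (ℬ.p.obj Y) :=
    { obj := fun A => ⟨P A, hP A⟩
      map := fun g => ⟨mp g, mp_lift g⟩
      map_id := fun A => by
        apply Subtype.ext
        haveI := mp_lift (𝟙 A)
        haveI : 𝒮.p.IsHomLift (𝟙 (ℬ.p.obj Y)) (𝟙 (P A)) := IsHomLift.id (hP A)
        refine IsStronglyCartesian.ext 𝒮.p (ℬ.p.map A.hom) (π A) (𝟙 _) (ψ' := 𝟙 (P A)) ?_
        simp [mp_fac]
      map_comp := fun {A B D} g g' => by
        apply Subtype.ext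
        haveI := mp_lift g; haveI := mp_lift g'; haveI := mp_lift (g ≫ g')
        refine IsStronglyCartesian.ext 𝒮.p (ℬ.p.map D.hom) (π D) (𝟙 _) (ψ' := mp g ≫ mp g') ?_
        simp [mp_fac, reassoc_of% mp_fac g] }
  haveI := isGroupoid_fiber hS (ℬ.p.obj Y)
  let W := AsSmall.{max u₁ u₂ u₃ v₁ v₂ v₃} (𝒮.p.Fiber (ℬ.p.obj Y))
  letI : Groupoid W :=
    haveI : IsGroupoid W := isGroupoid_of_reflects_iso (AsSmall.equiv (C := 𝒮.p.Fiber (ℬ.p.obj Y))).inverse
    Groupoid.ofIsGroupoid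
  haveI := (hι Y).2 W
  let c := (Functor.const (StructuredArrow Y ι.toFunctor) : W ⥤ _ ⥤ W).objPreimage (T ⋙ AsSmall.up)
  let i := (Functor.const (StructuredArrow Y ι.toFunctor) : W ⥤ _ ⥤ W).objObjPreimageIso (T ⋙ AsSmall.up)
  let i' := isoWhiskerRight i AsSmall.down
  have hn : ∀ {A B : StructuredArrow Y ι.toFunctor} (g : A ⟶ B),
      (i'.hom.app A).1 ≫ mp g = (i'.hom.app B).1 := by
    intro A B g
    have hnat := i'.hom.naturality g
    simp only [Functor.comp_map, Functor.const_obj_map] at hnat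
    erw [CategoryTheory.Functor.map_id, Category.id_comp] at hnat
    exact (congrArg Subtype.val hnat).symm
  exact ⟨
    { x := (AsSmall.down.obj c).1
      hx := (AsSmall.down.obj c).2
      e := fun A => (i'.hom.app A).1 ≫ π A
      lift := fun A => by
        haveI := (i'.hom.app A).2
        exact IsHomLift.comp_lift_id_left' (p := 𝒮.p) (ℬ.p.obj Y) (i'.hom.app A).1 (ℬ.p.map A.hom) (π A)
      compat := fun {A B} g => by
        rw [Category.assoc, ← mp_fac g]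
        erw [reassoc_of% hn g] }⟩

include hS hι in
lemma existsUnique_coneHom {Y Y' : ℬ.obj} (b : Y ⟶ Y') (c : Cone ι t Y) (c' : Cone ι t Y') :
    ∃! m : c.x ⟶ c'.x, 𝒮.p.IsHomLift (ℬ.p.map b) m ∧
      ∀ A : StructuredArrow Y' ι.toFunctor, m ≫ c'.e A = c.e ((StructuredArrow.map b).obj A) := by
  haveI : ∀ A, 𝒮.p.IsStronglyCartesian (ℬ.p.map A.hom) (c'.e A) := fun A => isStronglyCartesian hS _ _
  haveI : ∀ A : StructuredArrow Y' ι.toFunctor,
      𝒮.p.IsHomLift (ℬ.p.map b ≫ ℬ.p.map A.hom) (c.e ((StructuredArrow.map b).obj A)) := fun A => by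
    rw [← ℬ.p.map_comp]; exact c.lift ((StructuredArrow.map b).obj A)
  let m : StructuredArrow Y' ι.toFunctor → (c.x ⟶ c'.x) := fun A =>
    IsStronglyCartesian.map 𝒮.p (ℬ.p.map A.hom) (c'.e A) (g := ℬ.p.map b)
      (f' := ℬ.p.map b ≫ ℬ.p.map A.hom) rfl (c.e ((StructuredArrow.map b).obj A))
  have hlift : ∀ A, 𝒮.p.IsHomLift (ℬ.p.map b) (m A) := fun A => by dsimp only [m]; infer_instance
  have hfac : ∀ A, m A ≫ c'.e A = c.e ((StructuredArrow.map b).obj A) :=
    fun A => IsStronglyCartesian.fac _ _ _ _ _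
  have hnat : ∀ {A B : StructuredArrow Y' ι.toFunctor}, (A ⟶ B) → m A = m B := by
    intro A B g
    haveI := hlift A
    refine IsStronglyCartesian.map_uniq 𝒮.p (ℬ.p.map B.hom) (c'.e B) (g := ℬ.p.map b) rfl _ (m A) ?_
    rw [← c'.compat g, reassoc_of% hfac A]
    exact c.compat ((StructuredArrow.map b).map g)
  obtain ⟨A₀⟩ := (hι Y').1
  refine ⟨m A₀, ⟨hlift A₀, fun A => ?_⟩, ?_⟩
  · rw [contr_const (hι Y') m hnat A₀ A]; exact hfac A
  · rintro m' ⟨hm', hm''⟩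
    haveI := hm'
    exact IsStronglyCartesian.map_uniq 𝒮.p (ℬ.p.map A₀.hom) (c'.e A₀) (g := ℬ.p.map b) rfl _ m' (hm'' A₀)

instance map_lift (σ : ℬ ⥤ᵇ 𝒮) {Y Y' : ℬ.obj} (b : Y ⟶ Y') :
    𝒮.p.IsHomLift (ℬ.p.map b) (σ.map b) :=
  BasedFunctor.preserves_isHomLift σ (ℬ.p.map b) b

/-- the cone of a functor, twisted by a morphism of restrictions -/
def funCone {σ σ' : ℬ ⥤ᵇ 𝒮} (β : BasedFunctor.comp ι σ ⟶ BasedFunctor.comp ι σ') (Y : ℬ.obj) :
    Cone ι (BasedFunctor.comp ι σ') Y where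
  x := σ.obj Y
  hx := σ.w_obj Y
  e A := σ.map A.hom ≫ β.toNatTrans.app A.right
  lift A := by
    haveI : 𝒮.p.IsHomLift (𝟙 (ℬ.p.obj (ι.obj A.right))) (β.toNatTrans.app A.right) :=
      BasedNatTrans.isHomLift β (ι.w_obj A.right).symm
    exact IsHomLift.comp_lift_id_right' (p := 𝒮.p) (ℬ.p.map A.hom) (σ.map A.hom)
      (ℬ.p.obj (ι.obj A.right)) (β.toNatTrans.app A.right)
  compat {A B} g := by
    show (σ.map A.hom ≫ β.toNatTrans.app A.right) ≫ σ'.map (ι.map g.right) =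
      σ.map B.hom ≫ β.toNatTrans.app B.right
    have hn : σ.map (ι.map g.right) ≫ β.toNatTrans.app B.right =
        β.toNatTrans.app A.right ≫ σ'.map (ι.map g.right) := β.toNatTrans.naturality g.right
    rw [Category.assoc, ← hn, ← σ.toFunctor.map_comp_assoc, StructuredArrow.w g]

include hS hι in
lemma restr_isEquivalence : (Stk.restr ι 𝒮).IsEquivalence := by
  have uniq : ∀ {σ σ' : ℬ ⥤ᵇ 𝒮} (β : BasedFunctor.comp ι σ ⟶ BasedFunctor.comp ι σ') (Y : ℬ.obj),
      ∃! α : σ.obj Y ⟶ σ'.obj Y, 𝒮.p.IsHomLift (𝟙 (ℬ.p.obj Y)) α ∧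
        ∀ A : StructuredArrow Y ι.toFunctor, α ≫ σ'.map A.hom = σ.map A.hom ≫ β.toNatTrans.app A.right := by
    intro σ σ' β Y
    obtain ⟨α, ⟨h1, h2⟩, h3⟩ := existsUnique_coneHom hS hι (𝟙 Y) (funCone β Y) (funCone (𝟙 _) Y)
    have e2 : ∀ A : StructuredArrow Y ι.toFunctor,
        (funCone β Y).e ((StructuredArrow.map (𝟙 Y)).obj A) = σ.map A.hom ≫ β.toNatTrans.app A.right := by
      intro A
      show σ.map (𝟙 Y ≫ A.hom) ≫ _ = _
      rw [Category.id_comp]
      rfl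
    have e3 : ∀ A : StructuredArrow Y ι.toFunctor, (funCone (𝟙 (BasedFunctor.comp ι σ')) Y).e A = σ'.map A.hom :=
      fun A => Category.comp_id _
    refine ⟨α, ⟨?_, fun A => ?_⟩, fun α' h' => h3 α' ⟨?_, fun A => ?_⟩⟩
    · rw [← ℬ.p.map_id]; exact h1
    · have := (h2 A).trans (e2 A); rwa [e3] at this
    · rw [ℬ.p.map_id]; exact h'.1
    · rw [e2, e3]; exact h'.2 A
  haveI : (Stk.restr ι 𝒮).Faithful := ⟨fun {σ σ' α α'} h => by
    apply BasedNatTrans.homCategory.ext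
    apply NatTrans.ext
    funext Y
    refine (uniq ((Stk.restr ι 𝒮).map α) Y).unique ⟨α.isHomLift' Y, fun A => ?_⟩ ⟨α'.isHomLift' Y, fun A => ?_⟩
    · exact (α.toNatTrans.naturality A.hom).symm
    · rw [h]; exact (α'.toNatTrans.naturality A.hom).symm⟩
  haveI : (Stk.restr ι 𝒮).Full := ⟨fun {σ σ'} β => by
    choose α hα _ using fun Y => (uniq β Y)
    refine ⟨{ toNatTrans := { app := α, naturality := fun Y Y' b => ?_ }
              isHomLift' := fun Y => (hα Y).1 }, ?_⟩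
    · haveI := (hα Y).1; haveI := (hα Y').1
      refine (existsUnique_coneHom hS hι b (funCone β Y) (funCone (𝟙 (BasedFunctor.comp ι σ')) Y')).unique
        ⟨?_, fun A => ?_⟩ ⟨?_, fun A => ?_⟩
      · exact IsHomLift.comp_lift_id_right' (p := 𝒮.p) (ℬ.p.map b) (σ.map b) (ℬ.p.obj Y') (α Y')
      · show (σ.map b ≫ α Y') ≫ σ'.map A.hom ≫ 𝟙 _ = σ.map (b ≫ A.hom) ≫ β.toNatTrans.app A.right
        erw [Category.comp_id, Category.assoc, (hα Y').2, ← σ.toFunctor.map_comp_assoc]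
      · exact IsHomLift.comp_lift_id_left' (p := 𝒮.p) (ℬ.p.obj Y) (α Y) (ℬ.p.map b) (σ'.map b)
      · show (α Y ≫ σ'.map b) ≫ σ'.map A.hom ≫ 𝟙 _ = σ.map (b ≫ A.hom) ≫ β.toNatTrans.app A.right
        erw [Category.comp_id, Category.assoc, ← σ'.toFunctor.map_comp]
        exact (hα Y).2 ((StructuredArrow.map b).obj A)
    · apply BasedNatTrans.homCategory.ext
      apply NatTrans.ext
      funext X
      have := (hα (ι.obj X)).2 (StructuredArrow.mk (𝟙 (ι.obj X)))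
      simp only [StructuredArrow.mk_hom_eq_self] at this
      erw [CategoryTheory.Functor.map_id, CategoryTheory.Functor.map_id, Category.comp_id,
        Category.id_comp] at this
      exact this⟩
  haveI : (Stk.restr ι 𝒮).EssSurj := ⟨fun t => by
    let cc := fun Y => Classical.choice (exists_cone hS hι t Y)
    choose m hm _ using fun (Y Y' : ℬ.obj) (b : Y ⟶ Y') => existsUnique_coneHom hS hι b (cc Y) (cc Y')
    let S : ℬ.obj ⥤ 𝒮.obj :=
      { obj := fun Y => (cc Y).x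
        map := fun {Y Y'} b => m Y Y' b
        map_id := fun Y => (existsUnique_coneHom hS hι (𝟙 Y) (cc Y) (cc Y)).unique (hm Y Y (𝟙 Y))
          ⟨by rw [ℬ.p.map_id]; exact IsHomLift.id (cc Y).hx, fun A => by
            erw [Category.id_comp]
            exact (cc Y).e_congr (Category.id_comp A.hom).symm⟩
        map_comp := fun {Y Y' Y''} b b' =>
          (existsUnique_coneHom hS hι (b ≫ b') (cc Y) (cc Y'')).unique (hm Y Y'' (b ≫ b'))
            ⟨by
              haveI := (hm Y Y' b).1; haveI := (hm Y' Y'' b').1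
              rw [ℬ.p.map_comp]; infer_instance,
             fun A => by
              erw [Category.assoc, (hm Y' Y'' b').2, (hm Y Y' b).2]
              exact (cc Y).e_congr (Category.assoc b b' A.hom).symm⟩ }
    have hw : S ⋙ 𝒮.p = ℬ.p := CategoryTheory.Functor.ext (fun Y => (cc Y).hx) (fun Y Y' b => by
      haveI := (hm Y Y' b).1
      exact IsHomLift.fac' 𝒮.p (ℬ.p.map b) (m Y Y' b))
    haveI : ∀ X, IsIso ((cc (ι.obj X)).e (StructuredArrow.mk (𝟙 (ι.obj X)))) := fun X => by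
      haveI : 𝒮.p.IsHomLift (𝟙 (ℬ.p.obj (ι.obj X))) ((cc (ι.obj X)).e (StructuredArrow.mk (𝟙 (ι.obj X)))) := by
        rw [← ℬ.p.map_id]; exact (cc (ι.obj X)).lift (StructuredArrow.mk (𝟙 (ι.obj X)))
      exact isIso_of_isHomLift hS (𝟙 (ℬ.p.obj (ι.obj X))) _
    refine ⟨⟨S, hw⟩, ⟨BasedNatIso.mkNatIso (NatIso.ofComponents
      (fun X => asIso ((cc (ι.obj X)).e (StructuredArrow.mk (𝟙 (ι.obj X))))) ?_) ?_⟩⟩
    · intro X X' g
      show m _ _ (ι.map g) ≫ (cc (ι.obj X')).e (StructuredArrow.mk (𝟙 (ι.obj X'))) =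
        (cc (ι.obj X)).e (StructuredArrow.mk (𝟙 (ι.obj X))) ≫ t.map g
      rw [(hm _ _ (ι.map g)).2]
      exact ((cc (ι.obj X)).compat (A := StructuredArrow.mk (𝟙 (ι.obj X)))
        (B := (StructuredArrow.map (ι.map g)).obj (StructuredArrow.mk (𝟙 (ι.obj X'))))
        (StructuredArrow.homMk g (by simp))).symm
    · intro X
      have := (cc (ι.obj X)).lift (StructuredArrow.mk (𝟙 (ι.obj X)))
      simp only [StructuredArrow.mk_hom_eq_self, CategoryTheory.Functor.map_id] at this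
      show 𝒮.p.IsHomLift (𝟙 (𝒜.p.obj X)) ((cc (ι.obj X)).e (StructuredArrow.mk (𝟙 (ι.obj X))))
      have h := ι.w_obj X
      generalize 𝒜.p.obj X = R at h ⊢
      subst h
      exact this⟩
  exact { }

end Gen

end Groth.Agent.FC16
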