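import Mathlib.CategoryTheory.Sites.CoverLifting
import Mathlib.CategoryTheory.Sites.Pullback
import Mathlib.CategoryTheory.Adjunction.Triple
import Mathlib.CategoryTheory.Functor.KanExtension.Adjunction

/-! Fully faithful continuous cocontinuous functors: unit of `u_! ⊣ u⁻¹` and counit of `u⁻¹ ⊣ u_*`. -/

universe v₃ u₃ v₂ u₂ v₁ u₁

open CategoryTheory Opposite Limits

set_option linter.style.haveILetI false
set_option backward.isDefEq.respectTransparency false
set_option backward.isDefEq.respectTransparency.types false

namespace Groth.Agent.FC16.FFCocont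

variable {C : Type u₁} [Category.{v₁} C] {D : Type u₂} [Category.{v₂} D] (J : GrothendieckTopology C)
  (K : GrothendieckTopology D) (u : C ⥤ D) [u.IsContinuous J K] [u.IsCocontinuous J K] [u.Full] [u.Faithful]
  (A : Type u₃) [Category.{v₃} A] [∀ F : Cᵒᵖ ⥤ A, u.op.HasPointwiseRightKanExtension F]

lemma isIso_counit_app (F : Sheaf J A) : IsIso ((u.sheafAdjunctionCocontinuous A J K).counit.app F) := by
  haveI : IsIso ((sheafToPresheaf J A).map ((u.sheafAdjunctionCocontinuous A J K).counit.app F)) := by
    show IsIso ((u.sheafAdjunctionCocontinuous A J K).counit.app F).hom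
    rw [Functor.sheafAdjunctionCocontinuous_counit_app_hom]
    infer_instance
  exact isIso_of_reflects_iso _ (sheafToPresheaf J A)

lemma isIso_unit_app [(u.sheafPushforwardContinuous A J K).IsRightAdjoint] (F : Sheaf J A) :
    IsIso ((u.sheafAdjunctionContinuous A J K).unit.app F) := by
  let t : Adjunction.Triple _ (u.sheafPushforwardContinuous A J K) _ :=
    ⟨u.sheafAdjunctionContinuous A J K, u.sheafAdjunctionCocontinuous A J K⟩
  haveI : IsIso t.adj₂.counit :=
    @NatIso.isIso_of_isIso_app _ _ _ _ _ _ _ (fun G => isIso_counit_app J K u A G)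
  haveI : IsIso t.adj₁.unit := t.isIso_unit_iff_isIso_counit.2 inferInstance
  exact NatIso.isIso_app_of_isIso t.adj₁.unit F

end Groth.Agent.FC16.FFCocont
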