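import Groth.Agent.Lib.FC16.Basic
import Groth.Prelude.Def_W4stkcategoriessitesFib
import Mathlib.CategoryTheory.Comma.Basic

/-! Factorisation of a morphism of fibred categories. -/

universe v u

open CategoryTheory CategoryTheory.Functor

set_option linter.style.haveILetI false
set_option linter.unusedSimpArgs false
set_option linter.unusedVariables false
set_option backward.isDefEq.respectTransparency false
set_option backward.isDefEq.respectTransparency.types false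

namespace Groth.Agent.FC16

variable {C : Type u} [Category.{v} C] {𝒳 𝒴 : BasedCategory.{v, max u v} C} (F : 𝒳 ⥤ᵇ 𝒴)

/-- the predicate cutting out the factorisation category -/
def vertical : ObjectProperty (Comma (𝟭 𝒴.obj) F.toFunctor) :=
  fun A => 𝒴.p.IsHomLift (𝟙 (𝒳.p.obj A.right)) A.hom

/-- triples `(x, y, y ⟶ F x)` with the arrow vertical -/
abbrev FactCat : BasedCategory.{v, max u v} C :=
  BasedCategory.ofFunctor ((vertical F).ι ⋙ Comma.snd (𝟭 𝒴.obj) F.toFunctor ⋙ 𝒳.p)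

variable {F}

lemma fact_p_left (A : (FactCat F).obj) : 𝒴.p.obj A.obj.left = 𝒳.p.obj A.obj.right :=
  haveI : 𝒴.p.IsHomLift (𝟙 (𝒳.p.obj A.obj.right)) A.obj.hom := A.property
  IsHomLift.domain_eq 𝒴.p (𝟙 (𝒳.p.obj A.obj.right)) A.obj.hom

lemma fact_lift_left {A B : (FactCat F).obj} (φ : A ⟶ B) {R S : C} (f : R ⟶ S)
    [𝒳.p.IsHomLift f φ.hom.right] : 𝒴.p.IsHomLift f φ.hom.left := by
  have hA : 𝒳.p.obj A.obj.right = R := IsHomLift.domain_eq 𝒳.p f φ.hom.right
  have hB : 𝒳.p.obj B.obj.right = S := IsHomLift.codomain_eq 𝒳.p f φ.hom.right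
  have a1 : 𝒴.p.IsHomLift (𝟙 (𝒳.p.obj A.obj.right)) A.obj.hom := A.property
  have b1 : 𝒴.p.IsHomLift (𝟙 (𝒳.p.obj B.obj.right)) B.obj.hom := B.property
  rw [hA] at a1; rw [hB] at b1
  have hw : φ.hom.left ≫ B.obj.hom = A.obj.hom ≫ F.map φ.hom.right := φ.hom.w
  have h1 : 𝒴.p.IsHomLift f (φ.hom.left ≫ B.obj.hom) := by rw [hw]; infer_instance
  have e1 := h1
  have hd : 𝒴.p.obj A.obj.left = R := (fact_p_left A).trans hA
  have hc : 𝒴.p.obj B.obj.left = S := (fact_p_left B).trans hB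
  refine IsHomLift.of_fac' 𝒴.p f φ.hom.left hd hc ?_
  have h2 := IsHomLift.fac' 𝒴.p f (φ.hom.left ≫ B.obj.hom)
  rw [Functor.map_comp, IsHomLift.fac' 𝒴.p (𝟙 S) B.obj.hom] at h2
  simp [comp_eqToHom_iff] at h2
  exact h2.trans (by simp)

lemma fact_isHomLift_iff {A B : (FactCat F).obj} (φ : A ⟶ B) {R S : C} (f : R ⟶ S) :
    (FactCat F).p.IsHomLift f φ ↔ 𝒳.p.IsHomLift f φ.hom.right := by
  constructor
  · intro h
    exact IsHomLift.of_fac' 𝒳.p f φ.hom.right (IsHomLift.domain_eq (FactCat F).p f φ)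
      (IsHomLift.codomain_eq (FactCat F).p f φ) (IsHomLift.fac' (FactCat F).p f φ)
  · intro h
    exact IsHomLift.of_fac' (FactCat F).p f φ (IsHomLift.domain_eq 𝒳.p f φ.hom.right)
      (IsHomLift.codomain_eq 𝒳.p f φ.hom.right) (IsHomLift.fac' 𝒳.p f φ.hom.right)

variable (hF : FibCat.PreservesStronglyCartesian F)

include hF in
/-- componentwise cartesian morphisms are cartesian -/
lemma fact_cart {A B : (FactCat F).obj} (φ : A ⟶ B) {R S : C} (f : R ⟶ S)
    [h1 : 𝒳.p.IsStronglyCartesian f φ.hom.right] [h2 : 𝒴.p.IsStronglyCartesian f φ.hom.left] :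
    (FactCat F).p.IsStronglyCartesian f φ := by
  haveI : (FactCat F).p.IsHomLift f φ := (fact_isHomLift_iff φ f).2 h1.toIsHomLift
  refine { universal_property' := ?_ }
  intro A' g ψ hψ
  haveI hr := (fact_isHomLift_iff ψ (g ≫ f)).1 hψ
  haveI := fact_lift_left ψ (g ≫ f)
  let a := IsStronglyCartesian.map 𝒳.p f φ.hom.right (g := g) (f' := g ≫ f) rfl ψ.hom.right
  let b := IsStronglyCartesian.map 𝒴.p f φ.hom.left (g := g) (f' := g ≫ f) rfl ψ.hom.left
  have ha : a ≫ φ.hom.right = ψ.hom.right := IsStronglyCartesian.fac _ _ _ rfl _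
  have hb : b ≫ φ.hom.left = ψ.hom.left := IsStronglyCartesian.fac _ _ _ rfl _
  have hR : 𝒳.p.obj A.obj.right = R := IsHomLift.domain_eq 𝒳.p f φ.hom.right
  have hAR : 𝒴.p.IsHomLift (𝟙 R) A.obj.hom := by
    have := A.property
    rwa [show vertical F A.obj = 𝒴.p.IsHomLift (𝟙 (𝒳.p.obj A.obj.right)) A.obj.hom from rfl, hR]
      at this
  haveI := hAR
  haveI : 𝒴.p.IsHomLift (𝟙 (𝒳.p.obj A'.obj.right)) A'.obj.hom := A'.property
  haveI := hF f φ.hom.right h1
  haveI : 𝒴.p.IsHomLift g (F.map a) := inferInstance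
  haveI : 𝒴.p.IsHomLift g (A'.obj.hom ≫ F.map a) :=
    IsHomLift.comp_lift_id_left' (p := 𝒴.p) (𝒳.p.obj A'.obj.right) A'.obj.hom g (F.map a)
  have hw : b ≫ A.obj.hom = A'.obj.hom ≫ F.map a := by
    apply IsStronglyCartesian.ext 𝒴.p f (F.map φ.hom.right) g
    rw [Category.assoc, Category.assoc, ← F.map_comp, ha, ← φ.hom.w]
    erw [reassoc_of% hb]
    exact ψ.hom.w
  refine ⟨ObjectProperty.homMk (CommaMorphism.mk b a hw), ⟨(fact_isHomLift_iff _ g).2
    (inferInstanceAs (𝒳.p.IsHomLift g a)), ?_⟩, ?_⟩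
  · exact ObjectProperty.hom_ext _ (CommaMorphism.ext hb ha)
  · rintro χ ⟨hχ, hχ'⟩
    haveI h3 := (fact_isHomLift_iff χ g).1 hχ
    haveI := fact_lift_left χ g
    apply ObjectProperty.hom_ext
    apply CommaMorphism.ext
    · exact IsStronglyCartesian.map_uniq 𝒴.p f φ.hom.left rfl _ χ.hom.left (by
        rw [← hχ']; rfl)
    · exact IsStronglyCartesian.map_uniq 𝒳.p f φ.hom.right rfl _ χ.hom.right (by
        rw [← hχ']; rfl)

include hF in
/-- lifts with both components cartesian exist -/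
lemma fact_exists_lift [𝒳.p.IsFibered] [𝒴.p.IsFibered] {B : (FactCat F).obj} {R S : C}
    (hB : (FactCat F).p.obj B = S) (f : R ⟶ S) :
    ∃ (A : (FactCat F).obj) (φ : A ⟶ B), 𝒳.p.IsStronglyCartesian f φ.hom.right ∧
      𝒴.p.IsStronglyCartesian f φ.hom.left := by
  have hr : 𝒳.p.obj B.obj.right = S := hB
  have hl : 𝒴.p.obj B.obj.left = S := (fact_p_left B).trans hB
  obtain ⟨x', a, ha⟩ := exists_isStronglyCartesian (p := 𝒳.p) hr f
  obtain ⟨y', b, hb⟩ := exists_isStronglyCartesian (p := 𝒴.p) hl f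
  have hBS : 𝒴.p.IsHomLift (𝟙 S) B.obj.hom := by
    have := B.property
    rwa [show vertical F B.obj = 𝒴.p.IsHomLift (𝟙 (𝒳.p.obj B.obj.right)) B.obj.hom from rfl, hr]
      at this
  haveI := hF f a ha
  let h := IsStronglyCartesian.map 𝒴.p f (F.map a) (g := 𝟙 R) (f' := f) (by simp) (b ≫ B.obj.hom)
  have hh : h ≫ F.map a = b ≫ B.obj.hom := IsStronglyCartesian.fac _ _ _ (by simp) _
  have hx : 𝒳.p.obj x' = R := IsHomLift.domain_eq 𝒳.p f a
  have hv : 𝒴.p.IsHomLift (𝟙 (𝒳.p.obj x')) h := by rw [hx]; infer_instance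
  exact ⟨⟨⟨y', x', h⟩, hv⟩, ObjectProperty.homMk (CommaMorphism.mk b a hh.symm), ha, hb⟩

include hF in
lemma fact_isFibered [𝒳.p.IsFibered] [𝒴.p.IsFibered] : (FactCat F).p.IsFibered :=
  IsFibered.of_exists_isStronglyCartesian fun B R f =>
    have ⟨A, φ, h1, h2⟩ := fact_exists_lift hF (B := B) rfl f
    ⟨A, φ, @fact_cart _ _ _ _ _ hF _ _ φ _ _ f h1 h2⟩

include hF in
lemma fact_components [𝒳.p.IsFibered] [𝒴.p.IsFibered] {A B : (FactCat F).obj} (φ : A ⟶ B)
    {R S : C} (f : R ⟶ S) (hφ : (FactCat F).p.IsStronglyCartesian f φ) :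
    𝒳.p.IsStronglyCartesian f φ.hom.right ∧ 𝒴.p.IsStronglyCartesian f φ.hom.left := by
  obtain ⟨A', φ', h1, h2⟩ := fact_exists_lift hF (IsHomLift.codomain_eq (FactCat F).p f φ) f
  haveI := h1; haveI := h2
  haveI := fact_cart hF φ' f
  let e := IsCartesian.domainUniqueUpToIso (FactCat F).p f φ' φ
  have he : e.hom ≫ φ' = φ := IsCartesian.fac (FactCat F).p f φ' φ
  haveI hel : (FactCat F).p.IsHomLift (𝟙 R) e.hom := inferInstance
  haveI := (fact_isHomLift_iff e.hom (𝟙 R)).1 hel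
  haveI := fact_lift_left e.hom (𝟙 R)
  let er := ((vertical F).ι ⋙ Comma.snd (𝟭 𝒴.obj) F.toFunctor).mapIso e
  let el := ((vertical F).ι ⋙ Comma.fst (𝟭 𝒴.obj) F.toFunctor).mapIso e
  haveI : IsIso e.hom.hom.right := inferInstanceAs (IsIso er.hom)
  haveI : IsIso e.hom.hom.left := inferInstanceAs (IsIso el.hom)
  have r1 : 𝒳.p.IsStronglyCartesian (𝟙 R) e.hom.hom.right := inferInstance
  have r2 : 𝒴.p.IsStronglyCartesian (𝟙 R) e.hom.hom.left := inferInstance
  have r3 : 𝒳.p.IsStronglyCartesian (𝟙 R ≫ f) (e.hom.hom.right ≫ φ'.hom.right) := inferInstance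
  have r4 : 𝒴.p.IsStronglyCartesian (𝟙 R ≫ f) (e.hom.hom.left ≫ φ'.hom.left) := inferInstance
  rw [Category.id_comp] at r3 r4
  rw [← he]
  exact ⟨r3, r4⟩

variable (F)

/-- `x ↦ (x, F x, 𝟙)` -/
abbrev factU : 𝒳 ⥤ᵇ FactCat F where
  toFunctor :=
    { obj := fun x => ⟨⟨F.obj x, x, 𝟙 _⟩, IsHomLift.id (F.w_obj x)⟩
      map := fun a => ObjectProperty.homMk (CommaMorphism.mk (F.map a) a (by simp)) }
  w := rfl

/-- `(x, y) ↦ y` -/
abbrev factV : FactCat F ⥤ᵇ 𝒴 where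
  toFunctor := (vertical F).ι ⋙ Comma.fst (𝟭 𝒴.obj) F.toFunctor
  w := Functor.ext (fun A => fact_p_left A) (fun A B φ => by
    haveI := fact_lift_left φ (𝒳.p.map φ.hom.right)
    exact IsHomLift.fac' 𝒴.p (𝒳.p.map φ.hom.right) φ.hom.left)

/-- `(x, y) ↦ x` -/
abbrev factW : FactCat F ⥤ᵇ 𝒳 where
  toFunctor := (vertical F).ι ⋙ Comma.snd (𝟭 𝒴.obj) F.toFunctor
  w := rfl

def factAdj : (factW F).toFunctor ⊣ (factU F).toFunctor :=
  Adjunction.mkOfHomEquiv
    { homEquiv := fun A x =>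
        { toFun := fun a => ObjectProperty.homMk
            (CommaMorphism.mk (A.obj.hom ≫ F.map a) a (by exact Category.comp_id _))
          invFun := fun φ => φ.hom.right
          left_inv := fun a => rfl
          right_inv := fun φ => ObjectProperty.hom_ext _ (CommaMorphism.ext
            (by exact φ.hom.w.symm.trans (Category.comp_id _)) rfl) }
      homEquiv_naturality_left_symm := fun f g => rfl
      homEquiv_naturality_right := fun f g => ObjectProperty.hom_ext _ (CommaMorphism.ext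
        (by exact (congrArg (_ ≫ ·) (F.map_comp _ _)).trans (Category.assoc _ _ _).symm) rfl) }

lemma factU_fullyFaithful : (factU F).toFunctor.Full ∧ (factU F).toFunctor.Faithful := by
  refine ⟨⟨fun {x y} φ => ⟨φ.hom.right, ?_⟩⟩, ⟨fun {x y a b} h => congrArg (fun χ => χ.hom.right) h⟩⟩
  refine ObjectProperty.hom_ext _ (CommaMorphism.ext ?_ rfl)
  have := φ.hom.w
  simpa using this.symm

variable {F}

include hF in
lemma factV_isFibered [𝒳.p.IsFibered] : (factV F).toFunctor.IsFibered := by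
  refine IsFibered.of_exists_isStronglyCartesian fun B y' b => ?_
  let f := 𝒴.p.map b ≫ eqToHom (fact_p_left B)
  obtain ⟨x', a, ha⟩ := exists_isStronglyCartesian (p := 𝒳.p) (rfl : 𝒳.p.obj B.obj.right = _) f
  haveI := hF f a ha
  have hx : 𝒳.p.obj x' = 𝒴.p.obj y' := IsHomLift.domain_eq 𝒳.p f a
  haveI : 𝒴.p.IsHomLift (𝟙 (𝒳.p.obj B.obj.right)) B.obj.hom := B.property
  haveI : 𝒴.p.IsHomLift f (b ≫ B.obj.hom) := by
    have : 𝒴.p.IsHomLift f b :=
      IsHomLift.of_fac' 𝒴.p f b rfl (fact_p_left B) (by simp [f])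
    infer_instance
  let h := IsStronglyCartesian.map 𝒴.p f (F.map a) (g := 𝟙 (𝒴.p.obj y')) (f' := f) (by simp)
    (b ≫ B.obj.hom)
  have hh : h ≫ F.map a = b ≫ B.obj.hom := IsStronglyCartesian.fac _ _ _ (by simp) _
  have hv : 𝒴.p.IsHomLift (𝟙 (𝒳.p.obj x')) h := by rw [hx]; infer_instance
  let A : (FactCat F).obj := ⟨⟨y', x', h⟩, hv⟩
  let φ : A ⟶ B := ObjectProperty.homMk (CommaMorphism.mk b a hh.symm)
  haveI hl : (factV F).toFunctor.IsHomLift b φ := IsHomLift.map (factV F).toFunctor φ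
  refine ⟨A, φ, { universal_property' := ?_ }⟩
  intro A' g ψ hψ
  have hψl : ψ.hom.left = g ≫ b :=
    (IsHomLift.eq_of_isHomLift (factV F).toFunctor (g ≫ b) ψ).symm
  let g₀ : 𝒳.p.obj A'.obj.right ⟶ 𝒴.p.obj y' := eqToHom (fact_p_left A').symm ≫ 𝒴.p.map g
  haveI : 𝒳.p.IsHomLift (𝒳.p.map ψ.hom.right) ψ.hom.right := IsHomLift.map _ _
  haveI := fact_lift_left ψ (𝒳.p.map ψ.hom.right)
  have hbase : g₀ ≫ f = 𝒳.p.map ψ.hom.right := by
    have e := IsHomLift.fac 𝒴.p (𝒳.p.map ψ.hom.right) ψ.hom.left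
    rw [e]
    simp only [hψl]
    simp [g₀, f]
  haveI : 𝒳.p.IsHomLift (g₀ ≫ f) ψ.hom.right := by rw [hbase]; infer_instance
  let a' := IsStronglyCartesian.map 𝒳.p f a (g := g₀) (f' := g₀ ≫ f) rfl ψ.hom.right
  have ha' : a' ≫ a = ψ.hom.right := IsStronglyCartesian.fac _ _ _ rfl _
  haveI hg : 𝒴.p.IsHomLift g₀ g :=
    IsHomLift.of_fac' 𝒴.p g₀ g (fact_p_left A') rfl (by simp [g₀])
  haveI : 𝒴.p.IsHomLift (𝟙 (𝒴.p.obj y')) h := by rw [← hx]; exact hv
  haveI : 𝒴.p.IsHomLift (𝟙 (𝒳.p.obj A'.obj.right)) A'.obj.hom := A'.property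
  haveI : 𝒴.p.IsHomLift g₀ (F.map a') := inferInstance
  haveI : 𝒴.p.IsHomLift g₀ (A'.obj.hom ≫ F.map a') :=
    IsHomLift.comp_lift_id_left' (p := 𝒴.p) (𝒳.p.obj A'.obj.right) A'.obj.hom g₀ (F.map a')
  haveI : 𝒴.p.IsHomLift g₀ (g ≫ h) := inferInstance
  have hw : g ≫ h = A'.obj.hom ≫ F.map a' := by
    apply IsStronglyCartesian.ext 𝒴.p f (F.map a) g₀
    rw [Category.assoc, Category.assoc, ← F.map_comp, ha', hh]
    erw [← reassoc_of% hψl]
    exact ψ.hom.w
  refine ⟨ObjectProperty.homMk (CommaMorphism.mk g a' hw),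
    ⟨IsHomLift.map (factV F).toFunctor (ObjectProperty.homMk (CommaMorphism.mk g a' hw) : A' ⟶ A),
      ObjectProperty.hom_ext _ (CommaMorphism.ext hψl.symm ha')⟩, ?_⟩
  rintro χ ⟨hχ, hχ'⟩
  haveI : (factV F).toFunctor.IsHomLift (a := A') (b := A) g χ := hχ
  have hχl : χ.hom.left = g :=
    (IsHomLift.eq_of_isHomLift (factV F).toFunctor (a := A') (b := A) g χ).symm
  apply ObjectProperty.hom_ext
  apply CommaMorphism.ext
  · exact hχl
  · haveI : 𝒳.p.IsHomLift (𝒳.p.map χ.hom.right) χ.hom.right := IsHomLift.map _ _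
    haveI hcl := fact_lift_left χ (𝒳.p.map χ.hom.right)
    rw [hχl] at hcl
    have : 𝒳.p.map χ.hom.right = eqToHom rfl ≫ g₀ ≫ eqToHom hx.symm := by
      have e := IsHomLift.fac 𝒴.p (𝒳.p.map χ.hom.right) g
      rw [e]; simp [g₀]
    haveI : 𝒳.p.IsHomLift g₀ χ.hom.right :=
      IsHomLift.of_fac' 𝒳.p g₀ χ.hom.right rfl hx this
    exact IsStronglyCartesian.map_uniq 𝒳.p f a rfl _ χ.hom.right (by rw [← hχ']; rfl)

end Groth.Agent.FC16
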