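import Mathlib.CategoryTheory.Sites.Closed
import Mathlib.CategoryTheory.Sites.Continuous

/-! A separated presheaf of sets embeds into a sheaf; consequence for continuous functors. -/

universe w v₂ u₂ v u

open CategoryTheory Opposite

set_option linter.style.haveILetI false
set_option backward.isDefEq.respectTransparency false
set_option backward.isDefEq.respectTransparency.types false

namespace Groth.Agent.FC16.SepEmb

variable {D : Type u₂} [Category.{v₂} D] (K : GrothendieckTopology D)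

/-- closed sieves -/
abbrev Om (W : D) : Type (max u₂ v₂) := { T : Sieve W // K.IsClosed T }

variable {K} in
/-- pullback of closed sieves -/
abbrev Om.pull {W' W : D} (k : W' ⟶ W) (T : Om K W) : Om K W' :=
  ⟨T.1.pullback k, K.isClosed_pullback k T.1 T.2⟩

lemma om_sep {W : D} {S : Sieve W} (hS : S ∈ K W) (M N : Om K W)
    (h : ∀ ⦃V⦄ (k : V ⟶ W), S k → M.pull k = N.pull k) : M = N :=
  (classifier_isSheaf K S hS).isSeparatedFor.ext fun _ _ hk => h _ hk

variable (G : Dᵒᵖ ⥤ Type w)

/-- sections of the sheaf of closed sieve valued functions on `G` -/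
abbrev QObj (Z : D) : Type (max u₂ v₂ w) :=
  { s : ∀ (W : D), (W ⟶ Z) → G.obj (op W) → Om K W //
    ∀ ⦃W' W : D⦄ (k : W' ⟶ W) (h : W ⟶ Z) (c : G.obj (op W)),
      s W' (k ≫ h) (G.map k.op c) = (s W h c).pull k }

/-- the sheaf of closed sieve valued functions on `G` -/
def Qsh : Dᵒᵖ ⥤ Type (max u₂ v₂ w) where
  obj Z := QObj K G Z.unop
  map {Z Z'} f := TypeCat.ofHom fun s =>
    ⟨fun W h c => s.1 W (h ≫ f.unop) c, fun W' W k h c => by
      simp only [Category.assoc]
      exact s.2 k (h ≫ f.unop) c⟩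
  map_id Z := by
    ext s
    simp
  map_comp f g := by
    ext s
    simp

lemma qsh_isSheaf : Presieve.IsSheaf K (Qsh K G) := by
  intro Z S hS x hx
  rw [Presieve.compatible_iff_sieveCompatible] at hx
  have fam : ∀ (W : D) (h : W ⟶ Z) (c : G.obj (op W)), ∃! M : Om K W,
      ∀ ⦃V⦄ (k : V ⟶ W) (hk : S (k ≫ h)), M.pull k = (x (k ≫ h) hk).1 V (𝟙 V) (G.map k.op c) := by
    intro W h c
    let y : Presieve.FamilyOfElements (Functor.closedSieves K).toFunctor (S.pullback h).arrows :=
      fun V k hk => (x (k ≫ h) hk).1 V (𝟙 V) (G.map k.op c)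
    have hy : y.Compatible := by
      rw [Presieve.compatible_iff_sieveCompatible]
      intro V V' k l hk
      show (x ((l ≫ k) ≫ h) _).1 V' (𝟙 V') (G.map (l ≫ k).op c) =
        ((x (k ≫ h) hk).1 V (𝟙 V) (G.map k.op c)).pull l
      rw [← (x (k ≫ h) hk).2 l (𝟙 V) (G.map k.op c)]
      have e := hx (k ≫ h) l hk
      have e' : x ((l ≫ k) ≫ h) (by simpa using S.downward_closed hk l) = x (l ≫ k ≫ h) (S.downward_closed hk l) := by
        congr 1; simp
      rw [e', e]
      show (x (k ≫ h) hk).1 V' (𝟙 V' ≫ l) _ = _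
      simp
    obtain ⟨M, hM, hM'⟩ := classifier_isSheaf K (S.pullback h) (K.pullback_stable h hS) y hy
    exact ⟨M, fun V k hk => hM k hk, fun N hN => hM' N fun V k hk => hN k hk⟩
  choose M hM hM' using fam
  refine ⟨⟨M, fun W' W m h c => ?_⟩, fun Y f hf => ?_, fun t ht => ?_⟩
  · refine (hM' _ _ _ _ fun V k hk => ?_).symm
    have e := hM W h c (k ≫ m) (by simpa using hk)
    have e2 : Om.pull k (Om.pull m (M W h c)) = Om.pull (k ≫ m) (M W h c) :=
      Subtype.ext (Sieve.pullback_comp _).symm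
    rw [e2, e]
    have e3 : x ((k ≫ m) ≫ h) (by simpa using hk) = x (k ≫ m ≫ h) hk := by
      congr 1; simp
    rw [e3]
    simp
  · apply Subtype.ext
    funext W h c
    show M W (h ≫ f) c = (x f hf).1 W h c
    have e := hM W (h ≫ f) c (𝟙 W) (by simpa using S.downward_closed hf h)
    have e' : x (𝟙 W ≫ h ≫ f) (by simpa using S.downward_closed hf h) = (Qsh K G).map h.op (x f hf) := by
      rw [← hx f h hf]
      congr 1
      simp
    rw [e'] at e
    change _ = (x f hf).1 W (𝟙 W ≫ h) _ at e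
    simpa [Om.pull] using e
  · apply Subtype.ext
    funext W h c
    refine hM' W h c _ fun V k hk => ?_
    rw [← ht (k ≫ h) hk, ← t.2 k h c]
    show _ = t.1 V (𝟙 V ≫ k ≫ h) _
    simp

variable {K G}

/-- the embedding of a separated presheaf -/
def emb (hG : Presieve.IsSeparated K G) {Z : D} (a : G.obj (op Z)) : QObj K G Z :=
  ⟨fun W h c => ⟨{ arrows := fun V k => G.map k.op c = G.map (k ≫ h).op a
                   downward_closed := fun {V V' k} e l => by
                     simp only [op_comp, Functor.map_comp, ConcreteCategory.comp_apply] at e ⊢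
                     rw [e] },
      fun V k hk => by
        refine (hG _ hk).ext fun V' l hl => ?_
        simpa using hl⟩,
    fun W' W k h c => by
      apply Subtype.ext
      ext V l
      show G.map l.op (G.map k.op c) = G.map (l ≫ k ≫ h).op a ↔
        G.map (l ≫ k).op c = G.map ((l ≫ k) ≫ h).op a
      simp⟩

lemma emb_natural (hG : Presieve.IsSeparated K G) {Z' Z : D} (f : Z' ⟶ Z) (a : G.obj (op Z)) :
    (Qsh K G).map f.op (emb hG a) = emb hG (G.map f.op a) := by
  apply Subtype.ext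
  funext W h c
  apply Subtype.ext
  ext V k
  show G.map k.op c = G.map (k ≫ h ≫ f).op a ↔ G.map k.op c = G.map (k ≫ h).op (G.map f.op a)
  simp

lemma emb_injective (hG : Presieve.IsSeparated K G) {Z : D} {a b : G.obj (op Z)}
    (h : emb hG a = emb hG b) : a = b := by
  have e := congrArg (fun s : QObj K G Z => (s.1 Z (𝟙 Z) a).1.arrows (𝟙 Z)) h
  simp [emb] at e
  exact e

variable {C : Type u} [Category.{v} C] {J : GrothendieckTopology C}

lemma glue_eq (u : C ⥤ D) [u.IsContinuous J K] (hG : Presieve.IsSeparated K G) {U : C}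
    {R : Sieve U} (hR : R ∈ J U) (y : ∀ ⦃V⦄ (r : V ⟶ U), R r → G.obj (op (u.obj V)))
    (hy : ∀ ⦃V' V⦄ (k : V' ⟶ V) (r : V ⟶ U) (hr : R r),
      y (k ≫ r) (R.downward_closed hr k) = G.map (u.map k).op (y r hr))
    {Z : D} {V₁ V₂ : C} (g₁ : Z ⟶ u.obj V₁) (g₂ : Z ⟶ u.obj V₂) {r₁ : V₁ ⟶ U} {r₂ : V₂ ⟶ U}
    (h₁ : R r₁) (h₂ : R r₂) (e : g₁ ≫ u.map r₁ = g₂ ≫ u.map r₂) :
    G.map g₁.op (y r₁ h₁) = G.map g₂.op (y r₂ h₂) := by
  have hsh := u.op_comp_isSheaf_of_isSheaf_type (J := J) (qsh_isSheaf K G) R hR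
  have hc : Presieve.FamilyOfElements.Compatible (P := u.op ⋙ Qsh K G) (R := R.arrows)
      (fun V r hr => emb hG (y r hr)) := by
    rw [Presieve.compatible_iff_sieveCompatible]
    intro V V' r k hr
    show emb hG (y (k ≫ r) _) = (Qsh K G).map (u.map k).op (emb hG (y r hr))
    rw [emb_natural, hy k r hr]
  obtain ⟨z, hz, -⟩ := hsh _ hc
  have h1 : (Qsh K G).map (u.map r₁).op z = emb hG (y r₁ h₁) := hz r₁ h₁
  have h2 : (Qsh K G).map (u.map r₂).op z = emb hG (y r₂ h₂) := hz r₂ h₂
  apply emb_injective hG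
  rw [← emb_natural, ← emb_natural, ← h1, ← h2, ← ConcreteCategory.comp_apply, ← ConcreteCategory.comp_apply,
    ← Functor.map_comp, ← Functor.map_comp, ← op_comp, ← op_comp, e]

end Groth.Agent.FC16.SepEmb
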