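import Groth.Prelude.Def_FibSite
import Groth.Agent.Lib.FC16.SepEmb
import Mathlib.CategoryTheory.Sites.CoverPreserving
import Mathlib.CategoryTheory.Sites.InducedTopology

/-! The total topology of a pre-fibred site: covers, sheaves, continuity. -/

universe w v₃ u₃ v₂ u₂ v₁ u₁

open CategoryTheory Opposite Pseudofunctor Pseudofunctor.CoGrothendieck

set_option linter.style.haveILetI false
set_option backward.isDefEq.respectTransparency false
set_option backward.isDefEq.respectTransparency.types false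
set_option backward.defeqAttrib.useBackward true

namespace Groth.Agent.FC16.FibTotal

variable {𝒮 : Type u₁} [Category.{v₁} 𝒮] {F : Pseudofunctor (LocallyDiscrete 𝒮ᵒᵖ) Cat.{v₂, u₂}}

lemma fac {Y X : ∫ᶜ F} (φ : Y ⟶ X) :
    (ι F Y.base).map φ.fiber ≫ cartesianLift X.fiber φ.base = φ := by
  ext <;> simp [← Cat.Hom₂.comp_app, PrelaxFunctor.map₂_eqToHom, F.mapComp_id_right_inv_app, Bicategory.Strict.rightUnitor_eqToIso, F.mapComp_id_left_inv_app, Bicategory.Strict.leftUnitor_eqToIso]

lemma nat {R S : 𝒮} (f : R ⟶ S) {a b : F.obj ⟨op S⟩} (k : b ⟶ a) :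
    (ι F R).map ((FibSite.invImage F f).map k) ≫ cartesianLift a f =
      cartesianLift b f ≫ (ι F S).map k := by
  ext <;> simp [← Cat.Hom₂.comp_app, ← Functor.map_comp_assoc, PrelaxFunctor.map₂_eqToHom, F.mapComp_id_right_inv_app, Bicategory.Strict.rightUnitor_eqToIso, F.mapComp_id_left_inv_app, Bicategory.Strict.leftUnitor_eqToIso]

lemma cart_cancel {R S : 𝒮} {f : R ⟶ S} {a : F.obj ⟨op S⟩} {Z : F.obj ⟨op R⟩}
    {g g' : Z ⟶ (FibSite.invImage F f).obj a}
    (h : (ι F R).map g ≫ cartesianLift a f = (ι F R).map g' ≫ cartesianLift a f) : g = g' := by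
  obtain ⟨hb, hf⟩ := (Hom.ext_iff _ _).mp h
  simpa [cancel_mono, ← Cat.Hom₂.comp_app, PrelaxFunctor.map₂_eqToHom, F.mapComp_id_right_inv_app, Bicategory.Strict.rightUnitor_eqToIso] using hf

lemma ι_map_injective {S : 𝒮} {a b : F.obj ⟨op S⟩} {g g' : a ⟶ b}
    (h : (ι F S).map g = (ι F S).map g') : g = g' := by
  obtain ⟨hb, hf⟩ := (Hom.ext_iff _ _).mp h
  simpa [cancel_mono, ← Cat.Hom.toNatIso_inv] using hf

lemma exists_ι {S : 𝒮} {a b : F.obj ⟨op S⟩} (φ : (ι F S).obj a ⟶ (ι F S).obj b)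
    (h : φ.base = 𝟙 S) : ∃ g : a ⟶ b, φ = (ι F S).map g := by
  obtain ⟨f, k⟩ := φ
  dsimp at h
  subst h
  refine ⟨k ≫ (F.mapId ⟨op S⟩).hom.toNatTrans.app b, ?_⟩
  ext <;> simp [← Cat.Hom₂.comp_app]

lemma fac' {S : 𝒮} {Y : ∫ᶜ F} {a : F.obj ⟨op S⟩} (φ : Y ⟶ (ι F S).obj a) {f : Y.base ⟶ S}
    (h : φ.base = f) :
    ∃ g : Y.fiber ⟶ (FibSite.invImage F f).obj a, φ = (ι F Y.base).map g ≫ cartesianLift a f := by
  subst h
  exact ⟨φ.fiber, (fac φ).symm⟩

lemma mapTwo {E : Type*} [Category* E] (P : Eᵒᵖ ⥤ Type w) {a b c : E} (g : b ⟶ c) (f : a ⟶ b)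
    (t : P.obj (op c)) : P.map f.op (P.map g.op t) = P.map (f ≫ g).op t := by
  simp

variable {J : FibSite.Topologies F}

/-- the fibre trace of a sieve on the total category -/
abbrev trace {X : ∫ᶜ F} (S : Sieve X) : Sieve X.fiber :=
  Sieve.functorPullback (ι F X.base) (R := (S : Sieve ((ι F X.base).obj X.fiber)))

lemma trace_pullback_le {Y X : ∫ᶜ F} (φ : Y ⟶ X) (S : Sieve X) :
    ((trace S).functorPushforward (FibSite.invImage F φ.base)).pullback φ.fiber ≤
      trace (S.pullback φ) := by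
  rintro W h ⟨V, t, w, ht, e⟩
  show S.arrows ((ι F Y.base).map h ≫ φ)
  have e1 : (ι F Y.base).map h ≫ φ =
      ((ι F Y.base).map w ≫ cartesianLift V φ.base) ≫ (ι F X.base).map t := by
    rw [Category.assoc, ← nat, ← Functor.map_comp_assoc, ← e, Functor.map_comp_assoc, fac]
  rw [e1]
  exact S.downward_closed ht _

variable (hF : FibSite.IsPreFibSite F J)
include hF

/-- the topology of fibrewise traces -/
def traceTopology : GrothendieckTopology (∫ᶜ F) where
  sieves X := {S | trace S ∈ J X.base X.fiber}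
  top_mem' X := by
    show trace ⊤ ∈ J X.base X.fiber
    rw [trace, Sieve.functorPullback_top]
    exact (J X.base).top_mem _
  pullback_stable' {X Y S} φ hS := by
    haveI := hF φ.base
    exact GrothendieckTopology.superset_covering _ (trace_pullback_le φ S)
      ((J Y.base).pullback_stable φ.fiber
        ((CoverPreserving.of_isContinuous (J := J X.base) (K := J Y.base)
          (F := FibSite.invImage F φ.base)).cover_preserve hS))
  transitive' {X T} hT R hR := by
    refine (J X.base).transitive hT _ fun V t ht => ?_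
    have h := hR (f := (ι F X.base).map t) ht
    refine GrothendieckTopology.superset_covering _ ?_ h
    intro W k hk
    show R.arrows ((ι F X.base).map (k ≫ t))
    rw [Functor.map_comp]
    exact hk

lemma totalTopology_eq : FibSite.totalTopology F J = traceTopology hF := by
  apply le_antisymm
  · apply FibSite.totalTopology_le
    intro S U R hR
    exact (J S).superset_covering (R.le_functorPushforward_pullback (ι F S)) hR
  · intro X S hS
    refine GrothendieckTopology.superset_covering _ ?_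
      (FibSite.functorPushforward_mem_totalTopology (F := F) (J := J) (U := X.fiber) hS)
    exact (Sieve.functor_galoisConnection (ι F X.base) X.fiber).l_u_le S

lemma mem_total {X : ∫ᶜ F} (S : Sieve X) :
    S ∈ FibSite.totalTopology F J X ↔ trace S ∈ J X.base X.fiber := by
  rw [totalTopology_eq hF]
  rfl

lemma mem_total_iff {X : ∫ᶜ F} (S : Sieve X) :
    S ∈ FibSite.totalTopology F J X ↔
      ∃ R ∈ J X.base X.fiber, Sieve.functorPushforward (ι F X.base) R ≤ S := by
  rw [mem_total hF]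
  exact ⟨fun h => ⟨_, h, (Sieve.functor_galoisConnection (ι F X.base) X.fiber).l_u_le S⟩,
    fun ⟨R, hR, h⟩ => GrothendieckTopology.superset_covering _
      ((Sieve.functor_galoisConnection (ι F X.base) X.fiber _ _).1 h) hR⟩

variable {P : (∫ᶜ F)ᵒᵖ ⥤ Type w}

lemma isSheaf_fibre (hP : Presieve.IsSheaf (FibSite.totalTopology F J) P) (S : 𝒮) :
    Presieve.IsSheaf (J S) ((ι F S).op ⋙ P) := by
  have sep : ∀ T : 𝒮, Presieve.IsSeparated (J T) ((ι F T).op ⋙ P) := by
    intro T U R hR x t₁ t₂ h₁ h₂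
    refine (hP _ (FibSite.functorPushforward_mem_totalTopology hR)).isSeparatedFor.ext ?_
    rintro Z _ ⟨V, r, w, hr, rfl⟩
    rw [op_comp, Functor.map_comp, ConcreteCategory.comp_apply, ConcreteCategory.comp_apply]
    exact congrArg _ ((h₁ r hr).trans (h₂ r hr).symm)
  intro U R hR x hx
  rw [Presieve.compatible_iff_sieveCompatible] at hx
  have wd : ∀ {Y : ∫ᶜ F} {V₁ V₂ : F.obj ⟨op S⟩} (w₁ : Y ⟶ (ι F S).obj V₁) (w₂ : Y ⟶ (ι F S).obj V₂)
      {r₁ : V₁ ⟶ U} {r₂ : V₂ ⟶ U} (h₁ : R r₁) (h₂ : R r₂),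
      w₁ ≫ (ι F S).map r₁ = w₂ ≫ (ι F S).map r₂ →
      P.map w₁.op (x r₁ h₁) = P.map w₂.op (x r₂ h₂) := by
    intro Y V₁ V₂ w₁ w₂ r₁ r₂ h₁ h₂ e
    have hb : w₁.base = w₂.base := by simpa using congrArg Hom.base e
    obtain ⟨f, hf⟩ : ∃ f : Y.base ⟶ S, w₂.base = f := ⟨w₂.base, rfl⟩
    obtain ⟨g₁, rfl⟩ := fac' w₁ (hb.trans hf)
    obtain ⟨g₂, rfl⟩ := fac' w₂ hf
    have eg : g₁ ≫ (FibSite.invImage F f).map r₁ = g₂ ≫ (FibSite.invImage F f).map r₂ := by
      apply cart_cancel
      rw [Functor.map_comp, Functor.map_comp, Category.assoc, Category.assoc, nat, nat]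
      exact ((Category.assoc _ _ _).symm.trans e).trans (Category.assoc _ _ _)
    haveI := hF f
    have key := SepEmb.glue_eq (FibSite.invImage F f) (J := J S) (sep Y.base) hR
      (fun V r hr => P.map (cartesianLift V f).op (x r hr))
      (fun V' V k r hr => by
        show P.map (cartesianLift V' f).op _ = P.map ((ι F Y.base).map _).op _
        rw [hx r k hr]
        exact (mapTwo P _ _ _).trans ((congrArg (fun ψ => P.map (Quiver.Hom.op ψ) (x r hr)) (nat f k).symm).trans
          (mapTwo P _ _ _).symm))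
      g₁ g₂ h₁ h₂ eg
    rw [op_comp, op_comp, P.map_comp, P.map_comp, ConcreteCategory.comp_apply, ConcreteCategory.comp_apply]
    exact key
  let x' : Presieve.FamilyOfElements P (R.functorPushforward (ι F S)).arrows := fun Y ψ hψ =>
    P.map hψ.choose_spec.choose_spec.choose.op
      (x hψ.choose_spec.choose hψ.choose_spec.choose_spec.choose_spec.1)
  have x'_eq : ∀ {Y : ∫ᶜ F} {V : F.obj ⟨op S⟩} (w : Y ⟶ (ι F S).obj V) {r : V ⟶ U} (hr : R r)
      (hψ : (R.functorPushforward (ι F S)).arrows (w ≫ (ι F S).map r)),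
      x' _ hψ = P.map w.op (x r hr) := fun w r hr hψ =>
    wd _ w _ hr hψ.choose_spec.choose_spec.choose_spec.2.symm
  have hx' : x'.Compatible := by
    rw [Presieve.compatible_iff_sieveCompatible]
    rintro Y Z _ g ⟨V, r, w, hr, rfl⟩
    rw [x'_eq w hr]
    have : ∀ (ψ : Z ⟶ (ι F S).obj U) (hψ : (R.functorPushforward (ι F S)).arrows ψ),
        ψ = (g ≫ w) ≫ (ι F S).map r → x' ψ hψ = P.map g.op (P.map w.op (x r hr)) := by
      rintro _ hψ rfl
      rw [x'_eq (g ≫ w) hr, op_comp, P.map_comp, ConcreteCategory.comp_apply]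
    exact this _ _ (Category.assoc _ _ _).symm
  obtain ⟨t, ht, ht'⟩ := hP _ (FibSite.functorPushforward_mem_totalTopology hR) x' hx'
  refine ⟨t, fun V r hr => ?_, fun s hs => ?_⟩
  · have hm : (R.functorPushforward (ι F S)).arrows (𝟙 _ ≫ (ι F S).map r) :=
      ⟨V, r, 𝟙 _, hr, rfl⟩
    have := ht _ hm
    rw [x'_eq (𝟙 _) hr] at this
    simpa using this
  · refine ht' s ?_
    rintro Z _ ⟨V, r, w, hr, rfl⟩
    rw [x'_eq w hr, op_comp, P.map_comp, ConcreteCategory.comp_apply]
    exact congrArg _ (hs r hr)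

lemma isSheaf_total (hP : ∀ S : 𝒮, Presieve.IsSheaf (J S) ((ι F S).op ⋙ P)) :
    Presieve.IsSheaf (FibSite.totalTopology F J) P := by
  intro X S hS x hx
  rw [mem_total hF] at hS
  rw [Presieve.compatible_iff_sieveCompatible] at hx
  obtain ⟨t, ht, ht'⟩ := hP X.base (trace S) hS (fun V r hr => x ((ι F X.base).map r) hr) (by
    rw [Presieve.compatible_iff_sieveCompatible]
    intro V W r k hr
    show x ((ι F X.base).map (k ≫ r)) _ = P.map ((ι F X.base).map k).op _
    rw [← hx ((ι F X.base).map r) ((ι F X.base).map k) hr]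
    congr 1
    simp)
  refine ⟨t, fun Y φ hφ => ?_, fun s hs => ht' s fun V r hr => hs _ hr⟩
  haveI := hF φ.base
  refine ((hP Y.base) _ ((J Y.base).pullback_stable φ.fiber
    ((CoverPreserving.of_isContinuous (J := J X.base) (K := J Y.base)
      (F := FibSite.invImage F φ.base)).cover_preserve hS))).isSeparatedFor.ext ?_
  rintro W h ⟨V, r, w, hr, e⟩
  show P.map ((ι F Y.base).map h).op (P.map φ.op t) = P.map ((ι F Y.base).map h).op (x φ hφ)
  have e1 : (ι F Y.base).map h ≫ φ =
      ((ι F Y.base).map w ≫ cartesianLift V φ.base) ≫ (ι F X.base).map r := by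
    rw [Category.assoc, ← nat, ← Functor.map_comp_assoc, ← e, Functor.map_comp_assoc, fac]
  have ht2 : P.map ((ι F X.base).map r).op t = x ((ι F X.base).map r) hr := ht r hr
  refine (mapTwo P φ _ t).trans ?_
  rw [e1]
  refine ((mapTwo P ((ι F X.base).map r) _ t).symm.trans (congrArg _ ht2)).trans ?_
  refine (hx ((ι F X.base).map r) ((ι F Y.base).map w ≫ cartesianLift V φ.base) hr).symm.trans ?_
  refine Eq.trans ?_ (hx φ ((ι F Y.base).map h) hφ)
  congr 1
  exact e1.symm

omit hF in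
lemma presheaf_iff (hF : FibSite.IsPreFibSite F J) {A : Type u₃} [Category.{v₃} A] (P : (∫ᶜ F)ᵒᵖ ⥤ A) :
    Presheaf.IsSheaf (FibSite.totalTopology F J) P ↔
      ∀ S : 𝒮, Presheaf.IsSheaf (J S) ((ι F S).op ⋙ P) :=
  ⟨fun h S E => isSheaf_fibre hF (h E) S, fun h E => isSheaf_total hF fun S => h S E⟩

lemma ι_isContinuous (S : 𝒮) : (ι F S).IsContinuous (J S) (FibSite.totalTopology F J) where
  op_comp_isSheaf_of_types G := isSheaf_fibre hF ((isSheaf_iff_isSheaf_of_type _ _).1 G.2) S

lemma ι_isCocontinuous (S : 𝒮) : (ι F S).IsCocontinuous (J S) (FibSite.totalTopology F J) where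
  cover_lift {U T} hT := (mem_total hF (X := (ι F S).obj U) T).1 hT

lemma induced_eq (S : 𝒮) : (ι F S).inducedTopology (FibSite.totalTopology F J) = J S := by
  refine le_antisymm ?_ ((Functor.le_inducedTopology_iff).2 (ι_isContinuous hF S))
  intro U R hR
  have h := (mem_total hF _).1 ((CoverPreserving.of_isContinuous
    (J := (ι F S).inducedTopology (FibSite.totalTopology F J)) (K := FibSite.totalTopology F J)
    (F := ι F S)).cover_preserve hR)
  refine GrothendieckTopology.superset_covering _ ?_ h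
  rintro V v ⟨V', r, w, hr, e⟩
  have hb : w.base = 𝟙 S := by simpa using (congrArg Hom.base e).symm
  obtain ⟨g, rfl⟩ := exists_ι w hb
  rw [ι_map_injective (S := S) (e.trans ((ι F S).map_comp g r).symm)]
  exact R.downward_closed hr g

lemma isContinuous_iff {D : Type u₃} [Category.{v₃} D] (K : GrothendieckTopology D) (m : ∫ᶜ F ⥤ D) :
    m.IsContinuous (FibSite.totalTopology F J) K ↔ ∀ S : 𝒮, (ι F S ⋙ m).IsContinuous (J S) K := by
  constructor
  · intro h S
    haveI := ι_isContinuous hF S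
    exact Functor.isContinuous_comp (ι F S) m (J S) (FibSite.totalTopology F J) K
  · intro h
    refine ⟨fun G => isSheaf_total hF fun S => ?_⟩
    haveI := h S
    exact Functor.op_comp_isSheaf_of_types (ι F S ⋙ m) (J S) K G

end Groth.Agent.FC16.FibTotal
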