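import Mathlib.LinearAlgebra.TensorProduct.RightExactness
import Mathlib.RingTheory.Flat.Basic

/-! Tensoring a short exact sequence with flat last term. -/

open TensorProduct

namespace Groth.Agent.FC16.FlatChase

variable {R : Type*} [CommRing R] {A B C K L G : Type*} [AddCommGroup A] [Module R A]
  [AddCommGroup B] [Module R B] [AddCommGroup C] [Module R C] [AddCommGroup K] [Module R K]
  [AddCommGroup L] [Module R L] [AddCommGroup G] [Module R G]

lemma sq {M N P Q : Type*} [AddCommGroup M] [Module R M] [AddCommGroup N] [Module R N]
    [AddCommGroup P] [Module R P] [AddCommGroup Q] [Module R Q] (a : M →ₗ[R] N) (b : P →ₗ[R] Q) (x : M ⊗[R] P) :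
    b.lTensor N (a.rTensor P x) = a.rTensor Q (b.lTensor M x) := by
  induction x using TensorProduct.induction_on with
  | zero => simp
  | tmul x y => simp
  | add x y hx hy => simp [hx, hy]

lemma rTensor_injective (f : A →ₗ[R] B) (g : B →ₗ[R] C) (hf : Function.Injective f)
    (hfg : Function.Exact f g) (hg : Function.Surjective g) (i : K →ₗ[R] L) (p : L →ₗ[R] G)
    (hip : Function.Exact i p) (hp : Function.Surjective p) [Module.Flat R L]
    (hC : Function.Injective (i.rTensor C)) : Function.Injective (f.rTensor G) := by
  have hCl : Function.Injective (i.lTensor C) := by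
    intro a b h
    apply (TensorProduct.comm R C K).injective
    apply hC
    have e : ∀ x, i.rTensor C (TensorProduct.comm R C K x) = TensorProduct.comm R C L (i.lTensor C x) := by
      intro x
      induction x using TensorProduct.induction_on with
      | zero => simp
      | tmul x y => simp
      | add x y hx hy => simp [hx, hy]
    rw [e, e, h]
  rw [injective_iff_map_eq_zero]
  intro x hx
  obtain ⟨y, rfl⟩ := LinearMap.lTensor_surjective A hp x
  rw [← sq f p] at hx
  obtain ⟨z, hz⟩ := (lTensor_exact B hip hp _).1 hx
  have hgz : g.rTensor K z = 0 := by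
    apply hCl
    rw [map_zero, sq g i, hz]
    exact (rTensor_exact L hfg hg).apply_apply_eq_zero y
  obtain ⟨w, rfl⟩ := (rTensor_exact K hfg hg _).1 hgz
  rw [sq f i] at hz
  have : i.lTensor A w = y := Module.Flat.rTensor_preserves_injective_linearMap f hf hz
  rw [← this]
  exact (lTensor_exact A hip hp).apply_apply_eq_zero w

end Groth.Agent.FC16.FlatChase
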