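import Groth.Agent.Lib.FC16.Descent
import Groth.Agent.Lib.FC16.Self

/-! Locally essentially surjective functors; full subcategories. -/

universe v₄ u₄ v₃ u₃ v₂ u₂ v u

open CategoryTheory CategoryTheory.Functor

set_option linter.style.haveILetI false
set_option linter.unusedSimpArgs false
set_option linter.unusedVariables false
set_option linter.unusedSectionVars false
set_option backward.isDefEq.respectTransparency false
set_option backward.isDefEq.respectTransparency.types false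

namespace Groth.Agent.FC16

variable {C : Type u} [Category.{v} C] (J : GrothendieckTopology C) {𝒳 : BasedCategory.{v₂, u₂} C}
  {𝒴 : BasedCategory.{v₃, u₃} C}

section Equiv

variable (hX : Stk.IsStack J 𝒳) (hY : Stk.IsStack J 𝒴) (F : 𝒳 ⥤ᵇ 𝒴)

include hX hY in
lemma exists_iso_of_locally [F.toFunctor.Full] [F.toFunctor.Faithful] {U : C} (R : Sieve U)
    (hR : R ∈ J U) {y : 𝒴.obj} (hy : 𝒴.p.obj y = U)
    (h : ∀ ⦃V : C⦄ (f : V ⟶ U), R f → ∃ (x : 𝒳.obj) (φ : F.obj x ⟶ y), 𝒴.p.IsHomLift f φ) :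
    ∃ (x : 𝒳.obj) (e : F.obj x ≅ y), 𝒴.p.IsHomLift (𝟙 U) e.hom := by
  haveI := isFibered hY.1
  haveI : (Stk.resSieve R 𝒳).IsEquivalence := hX.2 R hR
  haveI : (Stk.resSieve R 𝒴).IsEquivalence := hY.2 R hR
  choose x φ hφ using h
  let H := ofObj hy
  let H' := BasedFunctor.comp (Stk.sieveIncl R) H
  have hH := ofObj_presCart hy
  haveI := ofObjIso_lift hy
  have he : ∀ a : (Stk.sieveCat R).obj, ∃ e : H'.obj a ≅ F.obj (x a.obj.hom a.property),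
      𝒴.p.IsHomLift (𝟙 a.obj.left) e.hom := by
    intro a
    haveI := hφ a.obj.hom a.property
    haveI := map_toTerm_cart hH a.obj
    obtain ⟨e, he, -⟩ := exists_iso_of_lifts hY.1 a.obj.hom
      (H.map (toTerm a.obj) ≫ (ofObjIso hy).hom) (φ a.obj.hom a.property)
    exact ⟨e, he⟩
  choose e he using he
  -- the descent datum in the source
  let t₀ := conjFunctor H' e he
  let t : Stk.sieveCat R ⥤ᵇ 𝒳 :=
    { toFunctor :=
        { obj := fun a => x a.obj.hom a.property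
          map := fun g => F.toFunctor.preimage (t₀.map g)
          map_id := fun a => F.toFunctor.map_injective (by
            rw [Functor.map_preimage, F.toFunctor.map_id]; exact t₀.toFunctor.map_id a)
          map_comp := fun {a b c} g g' => F.toFunctor.map_injective (by
            rw [Functor.map_preimage, F.toFunctor.map_comp, Functor.map_preimage, Functor.map_preimage]
            exact t₀.toFunctor.map_comp g g') }
      w := by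
        refine CategoryTheory.Functor.ext (fun a => ?_) (fun a b g => ?_)
        · exact (F.w_obj _).symm.trans (t₀.w_obj a)
        · haveI : 𝒴.p.IsHomLift ((Stk.sieveCat R).p.map g) (F.map (F.toFunctor.preimage (t₀.map g))) := by
            rw [Functor.map_preimage]
            exact BasedFunctor.preserves_isHomLift t₀ _ g
          haveI := BasedFunctor.isHomLift_map F ((Stk.sieveCat R).p.map g) (F.toFunctor.preimage (t₀.map g))
          exact IsHomLift.fac' 𝒳.p ((Stk.sieveCat R).p.map g) (F.toFunctor.preimage (t₀.map g)) }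
  have hK : BasedFunctor.comp t F = t₀ := by
    refine basedFunctor_ext (CategoryTheory.Functor.ext (fun a => rfl) (fun a b g => ?_))
    simp only [eqToHom_refl, Category.comp_id, Category.id_comp]
    exact F.toFunctor.map_preimage (t₀.map g)
  let s := (Stk.resSieve R 𝒳).objPreimage t
  let i : BasedFunctor.comp (Stk.sieveIncl R) s ≅ t := (Stk.resSieve R 𝒳).objObjPreimageIso t
  let d : (Stk.resSieve R 𝒴).obj (BasedFunctor.comp s F) ≅ (Stk.resSieve R 𝒴).obj H :=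
    (postFun _ F).mapIso i ≪≫ eqToIso hK ≪≫ (conjIso H' e he).symm
  let j := (Stk.resSieve R 𝒴).preimageIso d
  haveI := isHomLift_appIso_hom j (Over.mk (𝟙 U)) (U := U) rfl
  exact ⟨s.obj (Over.mk (𝟙 U)), appIso j (Over.mk (𝟙 U)) ≪≫ ofObjIso hy,
    inferInstanceAs (𝒴.p.IsHomLift (𝟙 U) ((appIso j (Over.mk (𝟙 U))).hom ≫ (ofObjIso hy).hom))⟩

include hX hY in
lemma isEquivOver_iff_locally [F.toFunctor.Full] [F.toFunctor.Faithful] :
    FibCat.IsEquivOver F ↔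
      ∀ y : 𝒴.obj, ∃ R ∈ J (𝒴.p.obj y), ∀ ⦃V : C⦄ (f : V ⟶ 𝒴.p.obj y), R f →
        ∃ (x : 𝒳.obj) (φ : F.obj x ⟶ y), 𝒴.p.IsHomLift f φ := by
  refine ⟨fun hF y => ⟨⊤, J.top_mem _, fun V f _ => ?_⟩, fun h => isEquivOver_of F (fun y => ?_)⟩
  · obtain ⟨x, e, he⟩ := essSurjOver_of_isEquivOver hF y
    have hx : 𝒳.p.obj x = 𝒴.p.obj y :=
      (F.w_obj x).symm.trans (IsHomLift.domain_eq 𝒴.p (𝟙 _) e.hom)
    obtain ⟨x', π, hπ⟩ := exists_lift hX.1 hx f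
    haveI := hπ; haveI := he
    refine ⟨x', F.map π ≫ e.hom, ?_⟩
    exact IsHomLift.comp_lift_id_right' (p := 𝒴.p) f (F.map π) (𝒴.p.obj y) e.hom
  · obtain ⟨R, hR, h'⟩ := h y
    exact exists_iso_of_locally J hX hY F R hR rfl h'

end Equiv

section Cancel

variable {𝒯 : BasedCategory.{v₄, u₄} C} (F : 𝒳 ⥤ᵇ 𝒴) (G : 𝒯 ⥤ᵇ 𝒴)

/-- lifts of a common morphism through `F` and `G` give an object of the fibre product -/
lemma exists_fpObj (hY : FibCat.IsFibGrpd 𝒴.p) {V U : C} (h : V ⟶ U) {x : 𝒳.obj} {a z : 𝒯.obj}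
    (φ : F.obj x ⟶ G.obj a) (π : z ⟶ a) [𝒴.p.IsHomLift h φ] [𝒯.p.IsHomLift h π] :
    ∃ e : F.obj x ≅ G.obj z, 𝒴.p.IsHomLift (𝟙 V) e.hom :=
  let ⟨e, he, _⟩ := exists_iso_of_lifts hY h φ (G.map π)
  ⟨e, he⟩

lemma faithful_of_faithful_fpFst (hY : FibCat.IsFibGrpd 𝒴.p) (hT : Stk.IsPrestack J 𝒯)
    (hF : ∀ y : 𝒴.obj, ∃ R ∈ J (𝒴.p.obj y), ∀ ⦃V : C⦄ (f : V ⟶ 𝒴.p.obj y), R f →
      ∃ (x : 𝒳.obj) (φ : F.obj x ⟶ y), 𝒴.p.IsHomLift f φ)
    (hG : (FibCat.fpFst F G).toFunctor.Faithful) : G.toFunctor.Faithful := by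
  haveI := isFibered hT.1
  refine faithful_of_fib (presCart_of_isFibGrpd hY G) (fun U a b φ ψ hφ hψ h => ?_)
  haveI := hφ; haveI := hψ
  have ha : 𝒯.p.obj a = U := IsHomLift.domain_eq 𝒯.p (𝟙 U) φ
  obtain ⟨R, hR, hR'⟩ := hF (G.obj a)
  have hGa : 𝒴.p.obj (G.obj a) = U := (G.w_obj a).trans ha
  subst hGa
  haveI := (hT.2 R hR).2
  refine hom_ext_of_cover hT.1 R (f := 𝟙 _) φ ψ (fun V f hf => ?_)
  obtain ⟨x, ξ, hξ⟩ := hR' f hf
  haveI := hξ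
  obtain ⟨z, π, hπ⟩ := exists_lift hT.1 ha f
  obtain ⟨z', π', hπ'⟩ := exists_lift hT.1 (IsHomLift.codomain_eq 𝒯.p (𝟙 _) φ) f
  haveI := hπ; haveI := hπ'
  haveI := isStronglyCartesian hT.1 f π'
  haveI : 𝒯.p.IsHomLift f (π ≫ φ) := IsHomLift.comp_lift_id_right' (p := 𝒯.p) f π (𝒴.p.obj (G.obj a)) φ
  haveI : 𝒯.p.IsHomLift f (π ≫ ψ) := IsHomLift.comp_lift_id_right' (p := 𝒯.p) f π (𝒴.p.obj (G.obj a)) ψ
  let χ := IsCartesian.map 𝒯.p f π' (π ≫ φ)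
  let χ' := IsCartesian.map 𝒯.p f π' (π ≫ ψ)
  have e1 : χ ≫ π' = π ≫ φ := IsCartesian.fac 𝒯.p f π' (π ≫ φ)
  have e2 : χ' ≫ π' = π ≫ ψ := IsCartesian.fac 𝒯.p f π' (π ≫ ψ)
  have hGχ : G.map χ = G.map χ' := by
    haveI := isStronglyCartesian hY f (G.map π')
    apply IsCartesian.ext 𝒴.p f (G.map π')
    rw [← G.map_comp, ← G.map_comp, e1, e2, G.map_comp, G.map_comp, h]
  obtain ⟨e, he⟩ := exists_fpObj F G hY f ξ π
  haveI := he
  have hx : 𝒳.p.obj x = V := (F.w_obj x).symm.trans (IsHomLift.domain_eq 𝒴.p f ξ)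
  haveI : IsIso χ := isIso_of_isHomLift hT.1 (𝟙 V) χ
  let e' : F.obj x ≅ G.obj z' := e ≪≫ asIso (G.map χ)
  have he' : 𝒴.p.IsHomLift (𝟙 V) e'.hom :=
    inferInstanceAs (𝒴.p.IsHomLift (𝟙 V) (e.hom ≫ G.map χ))
  let A := fpObj (F := F) (G := G) x z e hx he
  let B := fpObj (F := F) (G := G) x z' e' hx he'
  let m₁ : A ⟶ B := fpHom (𝟙 x) χ (by
    show F.map (𝟙 x) ≫ e.hom ≫ G.map χ = e.hom ≫ G.map χ
    rw [F.toFunctor.map_id, Category.id_comp])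
  let m₂ : A ⟶ B := fpHom (𝟙 x) χ' (by
    show F.map (𝟙 x) ≫ e.hom ≫ G.map χ = e.hom ≫ G.map χ'
    rw [F.toFunctor.map_id, Category.id_comp, hGχ])
  have : m₁ = m₂ := (FibCat.fpFst F G).toFunctor.map_injective rfl
  refine ⟨z, π, hπ, ?_⟩
  have h2 : χ = χ' := congrArg (fun m => m.hom.snd) this
  rw [← e1, ← e2, h2]

lemma isFibSetoid_of_fp [F.toFunctor.Full] (hY : FibCat.IsFibGrpd 𝒴.p) (hT : Stk.IsPrestack J 𝒯)
    (hF : ∀ y : 𝒴.obj, ∃ R ∈ J (𝒴.p.obj y), ∀ ⦃V : C⦄ (f : V ⟶ 𝒴.p.obj y), R f →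
      ∃ (x : 𝒳.obj) (φ : F.obj x ⟶ y), 𝒴.p.IsHomLift f φ)
    (h : FibCat.IsFibSetoid (FibCat.fp F G).p) : FibCat.IsFibSetoid 𝒯.p := by
  refine ⟨hT.1, fun U a b => ⟨fun φ ψ => Subtype.ext ?_⟩⟩
  obtain ⟨a, ha⟩ := a
  obtain ⟨b, hb⟩ := b
  obtain ⟨φ, hφ⟩ := φ
  obtain ⟨ψ, hψ⟩ := ψ
  show φ = ψ
  haveI := hφ; haveI := hψ
  obtain ⟨R, hR, hR'⟩ := hF (G.obj a)
  have hGa : 𝒴.p.obj (G.obj a) = U := (G.w_obj a).trans ha
  subst hGa
  haveI := (hT.2 R hR).2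
  refine hom_ext_of_cover hT.1 R (f := 𝟙 _) φ ψ (fun V f hf => ?_)
  obtain ⟨x, ξ, hξ⟩ := hR' f hf
  haveI := hξ
  obtain ⟨z, π, hπ⟩ := exists_lift hT.1 ha f
  obtain ⟨z', π', hπ'⟩ := exists_lift hT.1 hb f
  haveI := hπ; haveI := hπ'
  haveI := isStronglyCartesian hT.1 f π'
  haveI : 𝒯.p.IsHomLift f (π ≫ φ) := IsHomLift.comp_lift_id_right' (p := 𝒯.p) f π (𝒴.p.obj (G.obj a)) φ
  haveI : 𝒯.p.IsHomLift f (π ≫ ψ) := IsHomLift.comp_lift_id_right' (p := 𝒯.p) f π (𝒴.p.obj (G.obj a)) ψ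
  let χ := IsCartesian.map 𝒯.p f π' (π ≫ φ)
  let χ' := IsCartesian.map 𝒯.p f π' (π ≫ ψ)
  have e1 : χ ≫ π' = π ≫ φ := IsCartesian.fac 𝒯.p f π' (π ≫ φ)
  have e2 : χ' ≫ π' = π ≫ ψ := IsCartesian.fac 𝒯.p f π' (π ≫ ψ)
  obtain ⟨e, he⟩ := exists_fpObj F G hY f ξ π
  haveI := he
  have hx : 𝒳.p.obj x = V := (F.w_obj x).symm.trans (IsHomLift.domain_eq 𝒴.p f ξ)
  haveI : IsIso χ := isIso_of_isHomLift hT.1 (𝟙 V) χ
  let e' : F.obj x ≅ G.obj z' := e ≪≫ asIso (G.map χ)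
  have he' : 𝒴.p.IsHomLift (𝟙 V) e'.hom :=
    inferInstanceAs (𝒴.p.IsHomLift (𝟙 V) (e.hom ≫ G.map χ))
  haveI := he'
  let A := fpObj (F := F) (G := G) x z e hx he
  let B := fpObj (F := F) (G := G) x z' e' hx he'
  haveI : 𝒳.p.IsHomLift (𝟙 V) (𝟙 x) := IsHomLift.id hx
  haveI : 𝒴.p.IsHomLift (𝟙 V) (F.map (F.toFunctor.preimage (e.hom ≫ G.map χ' ≫ e'.inv))) := by
    rw [Functor.map_preimage]; infer_instance
  haveI := BasedFunctor.isHomLift_map F (𝟙 V) (F.toFunctor.preimage (e.hom ≫ G.map χ' ≫ e'.inv))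
  let m₁ : A ⟶ B := fpHom (𝟙 x) χ (by
    show F.map (𝟙 x) ≫ e.hom ≫ G.map χ = e.hom ≫ G.map χ
    rw [F.toFunctor.map_id, Category.id_comp])
  let m₂ : A ⟶ B := fpHom (F.toFunctor.preimage (e.hom ≫ G.map χ' ≫ e'.inv)) χ' (by
    show F.map (F.toFunctor.preimage (e.hom ≫ G.map χ' ≫ e'.inv)) ≫ e'.hom = e.hom ≫ G.map χ'
    rw [Functor.map_preimage]
    simp)
  haveI : (FibCat.fp F G).p.IsHomLift (𝟙 V) m₁ :=
    @isHomLift_of_fst _ _ _ _ _ F G A B _ _ (𝟙 V) m₁ (inferInstanceAs (𝒳.p.IsHomLift (𝟙 V) (𝟙 x)))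
  haveI : (FibCat.fp F G).p.IsHomLift (𝟙 V) m₂ :=
    @isHomLift_of_fst _ _ _ _ _ F G A B _ _ (𝟙 V) m₂
      (inferInstanceAs (𝒳.p.IsHomLift (𝟙 V) (F.toFunctor.preimage (e.hom ≫ G.map χ' ≫ e'.inv))))
  have : m₁ = m₂ := hom_ext_of_thin h.2 (U := V) m₁ m₂
  refine ⟨z, π, hπ, ?_⟩
  have h2 : χ = χ' := congrArg (fun m => m.hom.snd) this
  rw [← e1, ← e2, h2]

end Cancel

section FullSub

variable (Q : ObjectProperty 𝒳.obj)

/-- a full subcategory over the base -/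
abbrev subCat : BasedCategory.{v₂, u₂} C := BasedCategory.ofFunctor (Q.ι ⋙ 𝒳.p)

/-- its inclusion -/
abbrev subIncl : subCat Q ⥤ᵇ 𝒳 := ⟨Q.ι, rfl⟩

lemma subCat_isFibGrpd (hX : FibCat.IsFibGrpd 𝒳.p)
    (h1 : ∀ ⦃y x : 𝒳.obj⦄ (φ : y ⟶ x), Q x →
      ∃ (y' : 𝒳.obj) (e : y ≅ y'), Q y' ∧ 𝒳.p.IsHomLift (𝟙 (𝒳.p.obj y)) e.hom) :
    FibCat.IsFibGrpd (subCat Q).p where
  exists_lift {a V} f := by
    obtain ⟨y, φ, hφ⟩ := hX.exists_lift f
    obtain ⟨y', e, hy', he⟩ := h1 φ a.property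
    haveI := hφ; haveI := he
    haveI : 𝒳.p.IsHomLift (𝟙 V) e.hom := by rw [IsHomLift.domain_eq 𝒳.p f φ] at he; exact he
    refine ⟨⟨y', hy'⟩, ObjectProperty.homMk (e.inv ≫ φ), ?_⟩
    exact (BasedFunctor.isHomLift_iff (subIncl Q) f _).1
      (IsHomLift.comp_lift_id_left' (p := 𝒳.p) V e.inv f φ)
  isStronglyCartesian {b a} φ := by
    haveI := hX.isStronglyCartesian φ.hom
    haveI : (subCat Q).p.IsHomLift ((subCat Q).p.map φ) φ := IsHomLift.map _ φ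
    refine { universal_property' := ?_ }
    intro c g ψ hψ
    haveI : 𝒳.p.IsHomLift (g ≫ 𝒳.p.map φ.hom) ψ.hom :=
      (BasedFunctor.isHomLift_iff (subIncl Q) (g ≫ (subCat Q).p.map φ) ψ).2 hψ
    let χ := IsStronglyCartesian.map 𝒳.p (𝒳.p.map φ.hom) φ.hom (g := g) (f' := g ≫ 𝒳.p.map φ.hom) rfl ψ.hom
    refine ⟨ObjectProperty.homMk χ, ⟨?_, ObjectProperty.hom_ext _ ?_⟩, ?_⟩
    · exact (BasedFunctor.isHomLift_iff (subIncl Q) g _).1 (inferInstanceAs (𝒳.p.IsHomLift g χ))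
    · exact IsStronglyCartesian.fac 𝒳.p (𝒳.p.map φ.hom) φ.hom rfl ψ.hom
    · rintro χ' ⟨h1, h2⟩
      haveI : 𝒳.p.IsHomLift g χ'.hom := (BasedFunctor.isHomLift_iff (subIncl Q) g χ').2 h1
      apply ObjectProperty.hom_ext
      exact IsStronglyCartesian.map_uniq 𝒳.p (𝒳.p.map φ.hom) φ.hom rfl ψ.hom χ'.hom (by rw [← h2]; rfl)

lemma subCat_isStack (hX : Stk.IsStack J 𝒳)
    (h1 : ∀ ⦃y x : 𝒳.obj⦄ (φ : y ⟶ x), Q x →
      ∃ (y' : 𝒳.obj) (e : y ≅ y'), Q y' ∧ 𝒳.p.IsHomLift (𝟙 (𝒳.p.obj y)) e.hom)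
    (h3 : ∀ ⦃U : C⦄ (R : Sieve U), R ∈ J U → ∀ (x : 𝒳.obj), 𝒳.p.obj x = U →
      (∀ ⦃V : C⦄ (f : V ⟶ U), R f → ∀ (y : 𝒳.obj) (φ : y ⟶ x), 𝒳.p.IsHomLift f φ →
        ∃ (y' : 𝒳.obj) (e : y ≅ y'), Q y' ∧ 𝒳.p.IsHomLift (𝟙 V) e.hom) →
      ∃ (x' : 𝒳.obj) (e : x ≅ x'), Q x' ∧ 𝒳.p.IsHomLift (𝟙 U) e.hom) :
    Stk.IsStack J (subCat Q) := by
  refine ⟨subCat_isFibGrpd Q hX.1 h1, fun U R hR => ?_⟩
  haveI : (subIncl Q).toFunctor.Full := inferInstanceAs Q.ι.Full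
  haveI : (subIncl Q).toFunctor.Faithful := inferInstanceAs Q.ι.Faithful
  haveI := postFun_faithful (Stk.sieveCat R) (subIncl Q)
  haveI := postFun_full (Stk.sieveCat R) (subIncl Q)
  haveI := postFun_faithful (FibCat.overCat U) (subIncl Q)
  haveI := postFun_full (FibCat.overCat U) (subIncl Q)
  haveI : (Stk.resSieve R 𝒳).IsEquivalence := hX.2 R hR
  let P := postFun (FibCat.overCat U) (subIncl Q)
  let P' := postFun (Stk.sieveCat R) (subIncl Q)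
  haveI : (Stk.resSieve R (subCat Q) ⋙ P').Full := inferInstanceAs (P ⋙ Stk.resSieve R 𝒳).Full
  haveI : (Stk.resSieve R (subCat Q) ⋙ P').Faithful := inferInstanceAs (P ⋙ Stk.resSieve R 𝒳).Faithful
  haveI : (Stk.resSieve R (subCat Q)).Full := Functor.Full.of_comp_faithful (Stk.resSieve R (subCat Q)) P'
  haveI : (Stk.resSieve R (subCat Q)).Faithful := Functor.Faithful.of_comp (Stk.resSieve R (subCat Q)) P'
  haveI : (Stk.resSieve R (subCat Q)).EssSurj := by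
    refine ⟨fun t => ?_⟩
    let s := (Stk.resSieve R 𝒳).objPreimage (P'.obj t)
    let i : BasedFunctor.comp (Stk.sieveIncl R) s ≅ P'.obj t := (Stk.resSieve R 𝒳).objObjPreimageIso (P'.obj t)
    obtain ⟨x', e₀, hx', he₀⟩ := h3 R hR (s.obj (Over.mk (𝟙 U))) (s.w_obj _) (fun V f hf y φ hφ => by
      haveI := hφ
      let a : (Stk.sieveCat R).obj := ⟨Over.mk f, hf⟩
      haveI : 𝒳.p.IsHomLift f (s.map (toTerm a.obj)) := map_toTerm_lift s a.obj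
      obtain ⟨e₁, he₁, -⟩ := exists_iso_of_lifts hX.1 f φ (s.map (toTerm a.obj))
      haveI := he₁
      haveI := isHomLift_appIso_hom i a (U := V) rfl
      exact ⟨(t.obj a).obj, e₁ ≪≫ appIso i a, (t.obj a).property,
        inferInstanceAs (𝒳.p.IsHomLift (𝟙 V) (e₁.hom ≫ (appIso i a).hom))⟩)
    haveI := he₀
    have hq : ∀ b : Over U, ∃ (q : 𝒳.obj) (e : s.obj b ≅ q), Q q ∧ 𝒳.p.IsHomLift (𝟙 b.left) e.hom := by
      intro b
      obtain ⟨q, e, hq, he⟩ := h1 (s.map (toTerm b) ≫ e₀.hom) hx'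
      rw [show 𝒳.p.obj (s.obj b) = b.left from s.w_obj b] at he
      exact ⟨q, e, hq, he⟩
    choose q e hQ he using hq
    let s' := conjFunctor s e he
    let u : FibCat.overCat U ⥤ᵇ subCat Q :=
      { toFunctor := Q.lift s'.toFunctor hQ
        w := s'.w }
    exact ⟨u, ⟨P'.preimageIso (wlIso (Stk.sieveIncl R) (conjIso s e he).symm ≪≫ i)⟩⟩
  exact ({ } : (Stk.resSieve R (subCat Q)).IsEquivalence)

end FullSub

end Groth.Agent.FC16
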