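import Groth.Agent.Lib.FC16.Contract2
import Groth.Agent.Lib.FC16.BaseChange
import Groth.Agent.Lib.FC16.OverStack
import Mathlib.CategoryTheory.Limits.Shapes.Pullback.Categorical.Basic
import Mathlib.CategoryTheory.Sites.CoverPreserving

/-! Stacks pulled back along a functor of sites. -/

universe v₅ u₅ v₄ u₄ v₃ u₃ v₂ u₂ v u

open CategoryTheory CategoryTheory.Functor CategoryTheory.Limits

set_option linter.style.haveILetI false
set_option linter.unusedSimpArgs false
set_option linter.unusedVariables false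
set_option linter.unusedSectionVars false
set_option backward.isDefEq.respectTransparency false
set_option backward.isDefEq.respectTransparency.types false

namespace Groth.Agent.FC16

variable {C : Type u} [Category.{v} C] {D : Type u₂} [Category.{v₂} D] (u : C ⥤ D)
  (𝒮 : BasedCategory.{v₃, u₃} D)

/-- the base change of `𝒮` along `u` -/
abbrev pullBase : BasedCategory C := BasedCategory.ofFunctor (CategoricalPullback.π₁ u 𝒮.p)

variable {u 𝒮}

lemma pullBase_isFibGrpd (hS : FibCat.IsFibGrpd 𝒮.p) : FibCat.IsFibGrpd (pullBase u 𝒮).p where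
  exists_lift {x V} f := by
    haveI := isFibered hS
    obtain ⟨y, φ, hφ⟩ := hS.exists_lift (u.map f ≫ x.iso.hom)
    haveI := hφ
    have hy : 𝒮.p.obj y = u.obj V := IsHomLift.domain_eq 𝒮.p (u.map f ≫ x.iso.hom) φ
    refine ⟨{ fst := V, snd := y, iso := eqToIso hy.symm }, { fst := f, snd := φ, w := ?_ }, ?_⟩
    · rw [IsHomLift.fac' 𝒮.p (u.map f ≫ x.iso.hom) φ]
      simp
    · exact IsHomLift.of_fac' (CategoricalPullback.π₁ u 𝒮.p) _ _ rfl rfl (by simp)
  isStronglyCartesian {y x} φ := by
    haveI := hS.isStronglyCartesian φ.snd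
    haveI : (pullBase u 𝒮).p.IsHomLift ((pullBase u 𝒮).p.map φ) φ := IsHomLift.map _ φ
    refine { universal_property' := ?_ }
    intro z g ψ hψ
    haveI := hψ
    have hfst : ψ.fst = g ≫ φ.fst :=
      (IsHomLift.eq_of_isHomLift (pullBase u 𝒮).p (g ≫ (pullBase u 𝒮).p.map φ) ψ).symm
    let g' : 𝒮.p.obj z.snd ⟶ 𝒮.p.obj y.snd := z.iso.inv ≫ u.map g ≫ y.iso.hom
    have hb : g' ≫ 𝒮.p.map φ.snd = 𝒮.p.map ψ.snd := by
      simp only [g', Category.assoc]
      rw [← φ.w, ← u.map_comp_assoc, ← hfst, ψ.w, Iso.inv_hom_id_assoc]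
    let χ := IsStronglyCartesian.map 𝒮.p (𝒮.p.map φ.snd) φ.snd (g := g') hb.symm ψ.snd
    have hχ : χ ≫ φ.snd = ψ.snd := IsStronglyCartesian.fac _ _ _ hb.symm _
    have hw : u.map g ≫ y.iso.hom = z.iso.hom ≫ 𝒮.p.map χ := by
      rw [← IsHomLift.eq_of_isHomLift 𝒮.p g' χ]
      simp [g']
    let m : z ⟶ y := { fst := g, snd := χ, w := hw }
    refine ⟨m, ⟨IsHomLift.map (pullBase u 𝒮).p m, CategoricalPullback.hom_ext hfst.symm hχ⟩, ?_⟩
    rintro m' ⟨h1, h2⟩
    haveI := h1
    have e1 : m'.fst = g := (IsHomLift.eq_of_isHomLift (pullBase u 𝒮).p g m').symm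
    refine CategoricalPullback.hom_ext e1 ?_
    have e2 : 𝒮.p.map m'.snd = g' := by
      have := m'.w
      rw [e1] at this
      simp only [g']
      rw [this, Iso.inv_hom_id_assoc]
    haveI : 𝒮.p.IsHomLift g' m'.snd := by rw [← e2]; exact IsHomLift.map 𝒮.p m'.snd
    exact IsStronglyCartesian.map_uniq 𝒮.p (𝒮.p.map φ.snd) φ.snd hb.symm ψ.snd m'.snd
      (congrArg (fun k => k.snd) h2)

section LemmaE

variable (u) in
/-- push a category over `C` along `u` -/
abbrev pushU (𝒵 : BasedCategory.{v₄, u₄} C) : BasedCategory.{v₄, u₄} D :=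
  BasedCategory.ofFunctor (𝒵.p ⋙ u)

variable {𝒜 : BasedCategory.{v₄, u₄} C} {ℬ : BasedCategory.{v₅, u₅} C}

variable (u) in
/-- push a functor over `C` along `u` -/
abbrev pushUMap (ι : 𝒜 ⥤ᵇ ℬ) : pushU u 𝒜 ⥤ᵇ pushU u ℬ :=
  ⟨ι.toFunctor, congrArg (fun m => m ⋙ u) ι.w⟩

/-- the comparison isomorphism of a functor into the base change -/
def pullTheta {𝒵 : BasedCategory.{v₄, u₄} C} (s : 𝒵 ⥤ᵇ pullBase u 𝒮) :
    𝒵.p ⋙ u ≅ (s.toFunctor ⋙ CategoricalPullback.π₂ u 𝒮.p) ⋙ 𝒮.p :=
  Functor.isoWhiskerRight (eqToIso s.w.symm) u ≪≫ Functor.associator _ _ _ ≪≫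
    Functor.isoWhiskerLeft s.toFunctor
      (NatIso.ofComponents (fun x => x.iso) (fun f => f.w) :
        CategoricalPullback.π₁ u 𝒮.p ⋙ u ≅ CategoricalPullback.π₂ u 𝒮.p ⋙ 𝒮.p) ≪≫
    (Functor.associator _ _ _).symm

lemma pullTheta_hom {𝒵 : BasedCategory.{v₄, u₄} C} (s : 𝒵 ⥤ᵇ pullBase u 𝒮) (a : 𝒵.obj) :
    (pullTheta s).hom.app a = eqToHom (congrArg u.obj (s.w_obj a)).symm ≫ (s.obj a).iso.hom := by
  simp [pullTheta, eqToHom_map]

lemma restr_pullBase_isEquivalence (hS : FibCat.IsFibGrpd 𝒮.p) (ι : 𝒜 ⥤ᵇ ℬ)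
    [(Stk.restr (pushUMap u ι) 𝒮).IsEquivalence] :
    (Stk.restr ι (pullBase u 𝒮)).IsEquivalence := by
  have fstEq : ∀ {s t : ℬ ⥤ᵇ pullBase u 𝒮} (α : s ⟶ t) (b : ℬ.obj),
      (α.toNatTrans.app b).fst = eqToHom ((s.w_obj b).trans (t.w_obj b).symm) := by
    intro s t α b
    haveI : (pullBase u 𝒮).p.IsHomLift (𝟙 (ℬ.p.obj b)) (α.toNatTrans.app b) := α.isHomLift' b
    exact (IsHomLift.fac' (pullBase u 𝒮).p (𝟙 (ℬ.p.obj b)) (α.toNatTrans.app b)).trans (by simp)
  have str := fun (s : ℬ ⥤ᵇ pullBase u 𝒮) =>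
    exists_strictify (𝒳 := 𝒮) hS (𝒜 := pushU u ℬ) (s.toFunctor ⋙ CategoricalPullback.π₂ u 𝒮.p) (pullTheta s)
  choose S η hη using str
  have vert : ∀ {s t : ℬ ⥤ᵇ pullBase u 𝒮} (b : ℬ.obj) (k : (s.obj b).snd ⟶ (t.obj b).snd),
      (pullTheta s).hom.app b ≫ 𝒮.p.map k = (pullTheta t).hom.app b →
      𝒮.p.IsHomLift (𝟙 (u.obj (ℬ.p.obj b))) ((η s).hom.app b ≫ k ≫ (η t).inv.app b) := by
    intro s t b k hk
    haveI := hη s b; haveI := hη t b
    haveI := IsHomLift.map 𝒮.p k
    haveI : 𝒮.p.IsHomLift (inv ((pullTheta t).hom.app b)) ((η t).inv.app b) := by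
      have : 𝒮.p.IsHomLift (inv ((pullTheta t).hom.app b)) (inv ((η t).hom.app b)) := inferInstance
      simpa using this
    have : 𝒮.p.IsHomLift ((pullTheta s).hom.app b ≫ 𝒮.p.map k ≫ inv ((pullTheta t).hom.app b))
        ((η s).hom.app b ≫ k ≫ (η t).inv.app b) := inferInstance
    rw [← Category.assoc, hk, IsIso.hom_inv_id] at this
    exact this
  have wsnd : ∀ {s t : ℬ ⥤ᵇ pullBase u 𝒮} (α : s ⟶ t) (b : ℬ.obj),
      (pullTheta s).hom.app b ≫ 𝒮.p.map (α.toNatTrans.app b).snd = (pullTheta t).hom.app b := by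
    intro s t α b
    rw [pullTheta_hom, pullTheta_hom, Category.assoc]
    erw [← (α.toNatTrans.app b).w, fstEq α b, eqToHom_map, eqToHom_trans_assoc]
  let down : ∀ {s t : ℬ ⥤ᵇ pullBase u 𝒮}, (s ⟶ t) → (S s ⟶ S t) := fun {s t} α =>
    { toNatTrans :=
        { app := fun b => (η s).hom.app b ≫ (α.toNatTrans.app b).snd ≫ (η t).inv.app b
          naturality := fun b b' g => by
            erw [(η s).hom.naturality_assoc g]
            simp only [Category.assoc]
            have h1 : (s.map g).snd ≫ (α.toNatTrans.app b').snd = (α.toNatTrans.app b).snd ≫ (t.map g).snd :=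
              congrArg (fun k => k.snd) (α.toNatTrans.naturality g)
            erw [reassoc_of% h1, (η t).inv.naturality g] }
      isHomLift' := fun b => vert b _ (wsnd α b) }
  haveI : (Stk.restr ι (pullBase u 𝒮)).Faithful := ⟨fun {s t α β} h => by
    have e : down α = down β := by
      apply (Stk.restr (pushUMap u ι) 𝒮).map_injective
      apply BasedNatTrans.homCategory.ext
      apply NatTrans.ext
      funext a
      exact congrArg (fun k => (η s).hom.app (ι.obj a) ≫ k ≫ (η t).inv.app (ι.obj a))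
        (congrArg (fun γ => (γ.toNatTrans.app a).snd) h)
    apply BasedNatTrans.homCategory.ext
    apply NatTrans.ext
    funext b
    refine CategoricalPullback.hom_ext ((fstEq α b).trans (fstEq β b).symm) ?_
    have := congrArg (fun γ : S s ⟶ S t => (η s).inv.app b ≫ γ.toNatTrans.app b ≫ (η t).hom.app b) e
    simp [down] at this
    erw [Category.comp_id, Category.comp_id] at this
    exact this⟩
  haveI : (Stk.restr ι (pullBase u 𝒮)).Full := ⟨fun {s t} γ => by
    have hγfst : ∀ a, (γ.toNatTrans.app a).fst =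
        eqToHom ((s.w_obj (ι.obj a)).trans (t.w_obj (ι.obj a)).symm) := by
      intro a
      haveI : (pullBase u 𝒮).p.IsHomLift (𝟙 (𝒜.p.obj a)) (γ.toNatTrans.app a) := γ.isHomLift' a
      exact (IsHomLift.fac' (pullBase u 𝒮).p (𝟙 (𝒜.p.obj a)) (γ.toNatTrans.app a)).trans (by simp)
    let n : BasedFunctor.comp (pushUMap u ι) (S s) ⟶ BasedFunctor.comp (pushUMap u ι) (S t) :=
      { toNatTrans :=
          { app := fun a => (η s).hom.app (ι.obj a) ≫ (γ.toNatTrans.app a).snd ≫ (η t).inv.app (ι.obj a)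
            naturality := fun a a' g => by
              erw [(η s).hom.naturality_assoc (ι.map g)]
              simp only [Category.assoc]
              have h1 : (s.map (ι.map g)).snd ≫ (γ.toNatTrans.app a').snd =
                  (γ.toNatTrans.app a).snd ≫ (t.map (ι.map g)).snd :=
                congrArg (fun k => k.snd) (γ.toNatTrans.naturality g)
              erw [reassoc_of% h1, (η t).inv.naturality (ι.map g)]
              rfl }
        isHomLift' := fun a => by
          have hk : (pullTheta s).hom.app (ι.obj a) ≫ 𝒮.p.map (γ.toNatTrans.app a).snd =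
              (pullTheta t).hom.app (ι.obj a) := by
            rw [pullTheta_hom, pullTheta_hom, Category.assoc]
            erw [← (γ.toNatTrans.app a).w, hγfst a, eqToHom_map, eqToHom_trans_assoc]
            rfl
          have := vert (ι.obj a) (γ.toNatTrans.app a).snd hk
          rw [ι.w_obj a] at this
          exact this }
    obtain ⟨m, hm⟩ := (Stk.restr (pushUMap u ι) 𝒮).map_surjective n
    refine ⟨{ toNatTrans :=
                { app := fun b =>
                    { fst := eqToHom ((s.w_obj b).trans (t.w_obj b).symm)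
                      snd := (η s).inv.app b ≫ m.toNatTrans.app b ≫ (η t).hom.app b
                      w := ?_ }
                  naturality := fun b b' g => ?_ }
              isHomLift' := fun b => ?_ }, ?_⟩
    · haveI := hη s b; haveI := hη t b
      haveI : 𝒮.p.IsHomLift (𝟙 (u.obj (ℬ.p.obj b))) (m.toNatTrans.app b) := m.isHomLift' b
      have e1 : 𝒮.p.map ((η s).inv.app b ≫ m.toNatTrans.app b ≫ (η t).hom.app b) =
          (pullTheta s).inv.app b ≫ (pullTheta t).hom.app b := by
        haveI : 𝒮.p.IsHomLift ((pullTheta s).inv.app b) ((η s).inv.app b) := by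
          have : 𝒮.p.IsHomLift (inv ((pullTheta s).hom.app b)) (inv ((η s).hom.app b)) := inferInstance
          simpa using this
        haveI : 𝒮.p.IsHomLift ((pullTheta t).hom.app b) (m.toNatTrans.app b ≫ (η t).hom.app b) :=
          IsHomLift.comp_lift_id_left' (p := 𝒮.p) (u.obj (ℬ.p.obj b)) (m.toNatTrans.app b)
            ((pullTheta t).hom.app b) ((η t).hom.app b)
        exact (IsHomLift.eq_of_isHomLift 𝒮.p ((pullTheta s).inv.app b ≫ (pullTheta t).hom.app b)
          ((η s).inv.app b ≫ m.toNatTrans.app b ≫ (η t).hom.app b)).symm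
      rw [e1]
      have e2 : (pullTheta s).hom.app b ≫ (pullTheta s).inv.app b = 𝟙 _ := Iso.hom_inv_id_app _ b
      rw [pullTheta_hom] at e2
      have e3 := pullTheta_hom t b
      rw [e3, eqToHom_map]
      have e4 : (s.obj b).iso.hom ≫ (pullTheta s).inv.app b = eqToHom (congrArg u.obj (s.w_obj b)) := by
        erw [Category.assoc, eqToHom_comp_iff, Category.comp_id] at e2
        exact e2
      erw [← Category.assoc (s.obj b).iso.hom, e4]
      simp
    · refine CategoricalPullback.hom_ext ?_ ?_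
      · show (s.map g).fst ≫ eqToHom ((s.w_obj b').trans (t.w_obj b').symm) =
          eqToHom ((s.w_obj b).trans (t.w_obj b).symm) ≫ (t.map g).fst
        have h1 : (s.map g).fst = eqToHom (s.w_obj b) ≫ ℬ.p.map g ≫ eqToHom (s.w_obj b').symm :=
          Functor.congr_hom s.w g
        have h2 : (t.map g).fst = eqToHom (t.w_obj b) ≫ ℬ.p.map g ≫ eqToHom (t.w_obj b').symm :=
          Functor.congr_hom t.w g
        rw [h1, h2]
        simp
      · show (s.map g).snd ≫ _ = _ ≫ (t.map g).snd
        have h1 : (s.map g).snd ≫ (η s).inv.app b' = (η s).inv.app b ≫ (S s).map g := (η s).inv.naturality g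
        have h2 : (S t).map g ≫ (η t).hom.app b' = (η t).hom.app b ≫ (t.map g).snd := (η t).hom.naturality g
        simp only [Category.assoc]
        erw [reassoc_of% h1, reassoc_of% m.toNatTrans.naturality g, h2]

    · exact IsHomLift.of_fac' (CategoricalPullback.π₁ u 𝒮.p) _ _ (s.w_obj b) (t.w_obj b) (by simp)
    · apply BasedNatTrans.homCategory.ext
      apply NatTrans.ext
      funext a
      refine CategoricalPullback.hom_ext (hγfst a).symm ?_
      have hm' : m.toNatTrans.app (ι.obj a) = (η s).hom.app (ι.obj a) ≫ (γ.toNatTrans.app a).snd ≫ (η t).inv.app (ι.obj a) :=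
        congrArg (fun k => k.toNatTrans.app a) hm
      show (η s).inv.app (ι.obj a) ≫ m.toNatTrans.app (ι.obj a) ≫ (η t).hom.app (ι.obj a) = _
      rw [hm']
      simp
      exact Category.comp_id _⟩
  haveI : (Stk.restr ι (pullBase u 𝒮)).EssSurj := ⟨fun t => by
    obtain ⟨t', ε, hε⟩ := exists_strictify (𝒳 := 𝒮) hS (𝒜 := pushU u 𝒜)
      (t.toFunctor ⋙ CategoricalPullback.π₂ u 𝒮.p) (pullTheta t)
    let σ := (Stk.restr (pushUMap u ι) 𝒮).objPreimage t'
    let j : BasedFunctor.comp (pushUMap u ι) σ ≅ t' := (Stk.restr (pushUMap u ι) 𝒮).objObjPreimageIso t'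
    let s : ℬ ⥤ᵇ pullBase u 𝒮 :=
      { toFunctor :=
          { obj := fun b => { fst := ℬ.p.obj b, snd := σ.obj b, iso := eqToIso (σ.w_obj b).symm }
            map := fun g =>
              { fst := ℬ.p.map g
                snd := σ.map g
                w := by
                  rw [map_heq σ g]
                  simp
                  rfl }
            map_id := fun b => CategoricalPullback.hom_ext (ℬ.p.map_id b) (σ.toFunctor.map_id b)
            map_comp := fun g g' => CategoricalPullback.hom_ext (ℬ.p.map_comp g g') (σ.toFunctor.map_comp g g') }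
        w := rfl }
    refine ⟨s, ⟨BasedNatIso.mkNatIso (NatIso.ofComponents
      (fun a => CategoricalPullback.mkIso (eqToIso ((ι.w_obj a).trans (t.w_obj a).symm))
        (appIso j a ≪≫ ε.app a) ?_) ?_) ?_⟩⟩
    · haveI := hε a
      haveI := isHomLift_appIso_hom j a (U := u.obj (𝒜.p.obj a)) rfl
      haveI : 𝒮.p.IsHomLift ((pullTheta t).hom.app a) ((appIso j a).hom ≫ ε.hom.app a) :=
        IsHomLift.comp_lift_id_left' (p := 𝒮.p) (u.obj (𝒜.p.obj a)) (appIso j a).hom
          ((pullTheta t).hom.app a) (ε.hom.app a)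
      have e := IsHomLift.fac' 𝒮.p ((pullTheta t).hom.app a) ((appIso j a).hom ≫ ε.hom.app a)
      show u.map (eqToHom ((ι.w_obj a).trans (t.w_obj a).symm)) ≫ (t.obj a).iso.hom =
        eqToHom (σ.w_obj (ι.obj a)).symm ≫ 𝒮.p.map ((appIso j a).hom ≫ ε.hom.app a)
      rw [e, eqToHom_map]
      simp [pullTheta_hom]
    · intro a a' g
      refine CategoricalPullback.hom_ext ?_ ?_
      · show ℬ.p.map (ι.map g) ≫ eqToHom ((ι.w_obj a').trans (t.w_obj a').symm) =
          eqToHom ((ι.w_obj a).trans (t.w_obj a).symm) ≫ (t.map g).fst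
        have h2 : (t.map g).fst = eqToHom (t.w_obj a) ≫ 𝒜.p.map g ≫ eqToHom (t.w_obj a').symm :=
          Functor.congr_hom t.w g
        rw [h2, map_heq ι g]
        simp
      · show σ.map (ι.map g) ≫ (appIso j a').hom ≫ ε.hom.app a' =
          ((appIso j a).hom ≫ ε.hom.app a) ≫ (t.map g).snd
        have h1 : σ.map (ι.map g) ≫ (appIso j a').hom = (appIso j a).hom ≫ t'.map g :=
          j.hom.toNatTrans.naturality g
        rw [reassoc_of% h1]
        erw [ε.hom.naturality g]
        simp

    · exact fun a => IsHomLift.of_fac' (CategoricalPullback.π₁ u 𝒮.p) _ _ (ι.w_obj a) (t.w_obj a) (by simp)⟩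
  exact { }

end LemmaE

section Cofiltered

variable [HasPullbacks C] [PreservesLimitsOfShape WalkingCospan u] {U : C} (R : Sieve U)

variable (u) in
/-- a sieve maps to its image sieve -/
def sieveImage : pushU u (Stk.sieveCat R) ⥤ᵇ Stk.sieveCat (R.functorPushforward u) where
  toFunctor :=
    { obj := fun a => ⟨(Over.post u).obj a.obj, Sieve.image_mem_functorPushforward u R a.property⟩
      map := fun g => ObjectProperty.homMk ((Over.post u).map g.hom)
      map_id := fun a => ObjectProperty.hom_ext _ ((Over.post u).map_id a.obj)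
      map_comp := fun g g' => ObjectProperty.hom_ext _ ((Over.post u).map_comp g.hom g'.hom) }
  w := rfl

lemma sieveImage_cofiltered (Y : (Stk.sieveCat (R.functorPushforward u)).obj) :
    IsCofiltered (StructuredArrow Y (sieveImage u R).toFunctor) := by
  let mk : ∀ (a : (Stk.sieveCat R).obj) (k : Y.obj.left ⟶ u.obj a.obj.left),
      k ≫ u.map a.obj.hom = Y.obj.hom → (Y ⟶ (sieveImage u R).obj a) :=
    fun a k hk => ObjectProperty.homMk (Over.homMk k hk)
  haveI : Nonempty (StructuredArrow Y (sieveImage u R).toFunctor) := by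
    obtain ⟨V, g, k, hg, e⟩ := Y.property
    exact ⟨StructuredArrow.mk (mk ⟨Over.mk g, hg⟩ k e.symm)⟩
  haveI : IsCofilteredOrEmpty (StructuredArrow Y (sieveImage u R).toFunctor) := by
    constructor
    · intro A B
      let a : (Stk.sieveCat R).obj := A.right
      let b : (Stk.sieveCat R).obj := B.right
      let kA : Y.obj.left ⟶ u.obj a.obj.left := A.hom.hom.left
      let kB : Y.obj.left ⟶ u.obj b.obj.left := B.hom.hom.left
      have hA : kA ≫ u.map a.obj.hom = Y.obj.hom := Over.w A.hom.hom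
      have hB : kB ≫ u.map b.obj.hom = Y.obj.hom := Over.w B.hom.hom
      have hP := (IsPullback.of_hasPullback a.obj.hom b.obj.hom).map u
      let P : (Stk.sieveCat R).obj := ⟨Over.mk (pullback.fst a.obj.hom b.obj.hom ≫ a.obj.hom),
        R.downward_closed a.property _⟩
      let f₁ : P ⟶ a := ObjectProperty.homMk (Over.homMk (pullback.fst a.obj.hom b.obj.hom) rfl)
      let f₂ : P ⟶ b := ObjectProperty.homMk (Over.homMk (pullback.snd a.obj.hom b.obj.hom)
        pullback.condition.symm)
      let k := hP.lift kA kB (hA.trans hB.symm)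
      have hk : k ≫ u.map (pullback.fst a.obj.hom b.obj.hom ≫ a.obj.hom) = Y.obj.hom := by
        rw [u.map_comp, ← Category.assoc, hP.lift_fst, hA]
      refine ⟨StructuredArrow.mk (mk P k hk), StructuredArrow.homMk f₁ ?_, StructuredArrow.homMk f₂ ?_, trivial⟩
      · apply ObjectProperty.hom_ext
        apply Over.OverMorphism.ext
        show k ≫ u.map (pullback.fst a.obj.hom b.obj.hom) = kA
        exact hP.lift_fst _ _ _
      · apply ObjectProperty.hom_ext
        apply Over.OverMorphism.ext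
        show k ≫ u.map (pullback.snd a.obj.hom b.obj.hom) = kB
        exact hP.lift_snd _ _ _
    · intro A B f g
      let a : (Stk.sieveCat R).obj := A.right
      let b : (Stk.sieveCat R).obj := B.right
      let f₀ : a.obj.left ⟶ b.obj.left := f.right.hom.left
      let g₀ : a.obj.left ⟶ b.obj.left := g.right.hom.left
      have hf : f₀ ≫ b.obj.hom = a.obj.hom := Over.w f.right.hom
      have hg : g₀ ≫ b.obj.hom = a.obj.hom := Over.w g.right.hom
      let kA : Y.obj.left ⟶ u.obj a.obj.left := A.hom.hom.left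
      let kB : Y.obj.left ⟶ u.obj b.obj.left := B.hom.hom.left
      have hA : kA ≫ u.map a.obj.hom = Y.obj.hom := Over.w A.hom.hom
      have hkf : kA ≫ u.map f₀ = kB :=
        congrArg (fun m => m.hom.left) (StructuredArrow.w f)
      have hkg : kA ≫ u.map g₀ = kB :=
        congrArg (fun m => m.hom.left) (StructuredArrow.w g)
      let l := pullback.lift (f := b.obj.hom) (g := b.obj.hom) f₀ g₀ (hf.trans hg.symm)
      let Δ := pullback.lift (f := b.obj.hom) (g := b.obj.hom) (𝟙 b.obj.left) (𝟙 b.obj.left) rfl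
      have hB := (IsPullback.of_hasPullback b.obj.hom b.obj.hom).map u
      have hN := (IsPullback.of_hasPullback l Δ).map u
      have hl : kA ≫ u.map l = kB ≫ u.map Δ := by
        apply hB.hom_ext
        · simp only [Category.assoc, ← u.map_comp, l, Δ, pullback.lift_fst, u.map_id, Category.comp_id]
          exact hkf
        · simp only [Category.assoc, ← u.map_comp, l, Δ, pullback.lift_snd, u.map_id, Category.comp_id]
          exact hkg
      let N : (Stk.sieveCat R).obj := ⟨Over.mk (pullback.fst l Δ ≫ a.obj.hom),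
        R.downward_closed a.property _⟩
      let e : N ⟶ a := ObjectProperty.homMk (Over.homMk (pullback.fst l Δ) rfl)
      let k := hN.lift kA kB hl
      have hk : k ≫ u.map (pullback.fst l Δ ≫ a.obj.hom) = Y.obj.hom := by
        rw [u.map_comp, ← Category.assoc, hN.lift_fst, hA]
      refine ⟨StructuredArrow.mk (mk N k hk), StructuredArrow.homMk e ?_, ?_⟩
      · apply ObjectProperty.hom_ext
        apply Over.OverMorphism.ext
        show k ≫ u.map (pullback.fst l Δ) = kA
        exact hN.lift_fst _ _ _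
      · apply StructuredArrow.hom_ext
        apply ObjectProperty.hom_ext
        apply Over.OverMorphism.ext
        show pullback.fst l Δ ≫ f₀ = pullback.fst l Δ ≫ g₀
        have h1 := congrArg (fun m => m ≫ pullback.fst b.obj.hom b.obj.hom) (pullback.condition (f := l) (g := Δ))
        have h2 := congrArg (fun m => m ≫ pullback.snd b.obj.hom b.obj.hom) (pullback.condition (f := l) (g := Δ))
        simp only [Category.assoc, l, Δ, pullback.lift_fst, pullback.lift_snd, Category.comp_id] at h1 h2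
        exact h1.trans h2.symm
  exact { }

variable (hS : FibCat.IsFibGrpd 𝒮.p)

include hS in
lemma restr_sieveImage : (Stk.restr (sieveImage u R) 𝒮).IsEquivalence :=
  Gen.restr_isEquivalence hS (fun Y =>
    haveI := sieveImage_cofiltered (u := u) R Y
    contr_of_isCofiltered)

/-- the slice maps to the slice of its image -/
def overImage (u : C ⥤ D) (U : C) : pushU u (FibCat.overCat U) ⥤ᵇ FibCat.overCat (u.obj U) where
  toFunctor := Over.post u
  w := rfl

include hS in
lemma restr_overImage : (Stk.restr (overImage u U) 𝒮).IsEquivalence := by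
  have htop : ∀ {E : Type u₂} [Category.{v₂} E] {V : E} (T : Sieve V), T = ⊤ →
      (Stk.sieveIncl T).toFunctor.IsEquivalence := by
    intro E _ V T hT
    haveI : (Stk.sieveIncl T).toFunctor.Full := inferInstanceAs (ObjectProperty.ι _).Full
    haveI : (Stk.sieveIncl T).toFunctor.Faithful := inferInstanceAs (ObjectProperty.ι _).Faithful
    haveI : (Stk.sieveIncl T).toFunctor.EssSurj :=
      ⟨fun b => ⟨⟨b, by show T b.hom; rw [hT]; trivial⟩, ⟨Iso.refl _⟩⟩⟩
    exact { }
  haveI : (Stk.sieveIncl ((⊤ : Sieve U).functorPushforward u)).toFunctor.IsEquivalence :=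
    htop _ (Sieve.functorPushforward_top u U)
  haveI : (Stk.sieveIncl (⊤ : Sieve U)).toFunctor.Full := inferInstanceAs (ObjectProperty.ι _).Full
  haveI : (Stk.sieveIncl (⊤ : Sieve U)).toFunctor.Faithful := inferInstanceAs (ObjectProperty.ι _).Faithful
  haveI : (Stk.sieveIncl (⊤ : Sieve U)).toFunctor.EssSurj :=
    ⟨fun b => ⟨⟨b, trivial⟩, ⟨Iso.refl _⟩⟩⟩
  haveI : (Stk.sieveIncl (⊤ : Sieve U)).toFunctor.IsEquivalence := { }
  haveI : (pushUMap u (Stk.sieveIncl (⊤ : Sieve U))).toFunctor.IsEquivalence :=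
    inferInstanceAs (Stk.sieveIncl (⊤ : Sieve U)).toFunctor.IsEquivalence
  haveI := restr_isEquivalence_of_isEquivalence (𝒳 := 𝒮) (Stk.sieveIncl ((⊤ : Sieve U).functorPushforward u)) hS
  haveI := restr_isEquivalence_of_isEquivalence (𝒳 := 𝒮) (pushUMap u (Stk.sieveIncl (⊤ : Sieve U))) hS
  haveI := restr_sieveImage (u := u) (⊤ : Sieve U) hS
  haveI : (Stk.restr (overImage u U) 𝒮 ⋙ Stk.restr (pushUMap u (Stk.sieveIncl (⊤ : Sieve U))) 𝒮).IsEquivalence :=
    inferInstanceAs (Stk.restr (Stk.sieveIncl ((⊤ : Sieve U).functorPushforward u)) 𝒮 ⋙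
      Stk.restr (sieveImage u (⊤ : Sieve U)) 𝒮).IsEquivalence
  exact Functor.isEquivalence_of_comp_right (Stk.restr (overImage u U) 𝒮)
    (Stk.restr (pushUMap u (Stk.sieveIncl (⊤ : Sieve U))) 𝒮)

end Cofiltered

lemma isStack_pullBase [HasPullbacks C] [PreservesLimitsOfShape WalkingCospan u]
    (J : GrothendieckTopology C) (K : GrothendieckTopology D) (hu : CoverPreserving J K u)
    (hS : Stk.IsStack K 𝒮) : Stk.IsStack J (pullBase u 𝒮) := by
  refine ⟨pullBase_isFibGrpd hS.1, fun U R hR => ?_⟩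
  haveI := restr_sieveImage (u := u) R hS.1
  haveI := restr_overImage (u := u) (U := U) hS.1
  haveI : (Stk.restr (Stk.sieveIncl (R.functorPushforward u)) 𝒮).IsEquivalence :=
    hS.2 _ (hu.cover_preserve hR)
  haveI : (Stk.restr (overImage u U) 𝒮 ⋙ Stk.restr (pushUMap u (Stk.sieveIncl R)) 𝒮).IsEquivalence :=
    inferInstanceAs (Stk.restr (Stk.sieveIncl (R.functorPushforward u)) 𝒮 ⋙
      Stk.restr (sieveImage u R) 𝒮).IsEquivalence
  haveI : (Stk.restr (pushUMap u (Stk.sieveIncl R)) 𝒮).IsEquivalence :=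
    Functor.isEquivalence_of_comp_left (Stk.restr (overImage u U) 𝒮) _
  exact restr_pullBase_isEquivalence hS.1 (Stk.sieveIncl R)

end Groth.Agent.FC16
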