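import Groth.Prelude.Def_FibClv
import Mathlib.CategoryTheory.Bicategory.Functor.LocallyDiscrete
import Mathlib.CategoryTheory.Category.Cat

/-! The canonical cleavage of a strict functor is a splitting. -/

universe v₁ v₂ u₁ u₂

open CategoryTheory CategoryTheory.Functor Opposite Pseudofunctor

set_option backward.isDefEq.respectTransparency false
set_option backward.isDefEq.respectTransparency.types false

namespace Groth.Agent.FC16

variable {𝒮 : Type u₁} [Category.{v₁} 𝒮] (F : 𝒮ᵒᵖ ⥤ Cat.{v₂, u₂})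

lemma toNatTrans_eqToHom_app {A B : Cat.{v₂, u₂}} {G H : A ⟶ B} (h : G = H) (x : A) :
    (eqToHom h).toNatTrans.app x = eqToHom (by rw [h]) := by
  subst h; rfl

lemma strict_map_id_obj (S : 𝒮) (x : F.obj (op S)) : (F.map (𝟙 S).op).toFunctor.obj x = x := by
  simp

lemma strict_map_comp_obj {R S T : 𝒮} (g : R ⟶ S) (f : S ⟶ T) (x : F.obj (op T)) :
    (F.map (g ≫ f).op).toFunctor.obj x = (F.map g.op).toFunctor.obj ((F.map f.op).toFunctor.obj x) := by
  simp

variable {F}

/-- the fibre component is an identity up to `eqToHom` -/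
def EqFib {a b : CoGrothendieck F.toPseudofunctor'} (φ : a ⟶ b) : Prop :=
  ∃ h, φ.fiber = eqToHom h

lemma eqFib_id (a : CoGrothendieck F.toPseudofunctor') : EqFib (𝟙 a) := by
  refine ⟨(strict_map_id_obj F a.base a.fiber).symm, ?_⟩
  erw [CoGrothendieck.categoryStruct_id_fiber, toNatTrans_eqToHom_app]
  · exact (F.map_id _).symm

lemma eqFib_eqToHom {a b : CoGrothendieck F.toPseudofunctor'} (h : a = b) : EqFib (eqToHom h) := by
  subst h; exact eqFib_id a

lemma eqFib_comp {a b c : CoGrothendieck F.toPseudofunctor'} {φ : a ⟶ b} {ψ : b ⟶ c}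
    (hφ : EqFib φ) (hψ : EqFib ψ) : EqFib (φ ≫ ψ) := by
  obtain ⟨h1, e1⟩ := hφ
  obtain ⟨h2, e2⟩ := hψ
  refine ⟨?_, ?_⟩
  · rw [h1, h2]
    exact (strict_map_comp_obj F φ.base ψ.base c.fiber).symm
  · rw [CoGrothendieck.categoryStruct_comp_fiber, e1, e2, eqToHom_map]
    erw [toNatTrans_eqToHom_app]
    · erw [eqToHom_trans, eqToHom_trans]
    · exact (F.map_comp _ _).symm

lemma eqFib_cartesianLift {R S : 𝒮} (x : F.obj (op S)) (f : R ⟶ S) :
    EqFib (CoGrothendieck.cartesianLift (F := F.toPseudofunctor') x f) :=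
  ⟨rfl, rfl⟩

lemma eqFib_ext {a b : CoGrothendieck F.toPseudofunctor'} {φ ψ : a ⟶ b} (hφ : EqFib φ) (hψ : EqFib ψ)
    (h : φ.base = ψ.base) : φ = ψ := by
  obtain ⟨h1, e1⟩ := hφ
  obtain ⟨h2, e2⟩ := hψ
  refine CoGrothendieck.Hom.ext φ ψ h ?_
  rw [e1, e2, eqToHom_trans]

lemma cg_base_eqToHom {a b : CoGrothendieck F.toPseudofunctor'} (h : a = b) :
    (eqToHom h).base = eqToHom (congrArg CoGrothendieck.base h) := by
  subst h; rfl

variable (F)

lemma ofCoGrothendieck_isSplitting :
    (FibCat.Cleavage.ofCoGrothendieck F.toPseudofunctor').IsSplitting := by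
  refine ⟨fun S a ha => ?_, fun S T U f g a ha => ?_⟩
  · cases a
    rename_i Sa x
    change Sa = S at ha
    subst ha
    have h : CoGrothendieck.domainCartesianLift (F := F.toPseudofunctor') x (𝟙 Sa ≫ eqToHom rfl) =
        ⟨Sa, x⟩ := by
      refine CoGrothendieck.ext rfl (heq_of_eq ?_)
      rw [eqToHom_refl, Category.comp_id]
      exact strict_map_id_obj F Sa x
    refine ⟨h, eqFib_ext (eqFib_cartesianLift x _) (eqFib_eqToHom h) ?_⟩
    rw [cg_base_eqToHom]
    simp [FibCat.Cleavage.ofCoGrothendieck]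
  · cases a
    rename_i Sa x
    change Sa = S at ha
    subst ha
    have h : CoGrothendieck.domainCartesianLift (F := F.toPseudofunctor')
        ((F.map (f ≫ eqToHom rfl).op).toFunctor.obj x) (g ≫ eqToHom rfl) =
        CoGrothendieck.domainCartesianLift (F := F.toPseudofunctor') x ((g ≫ f) ≫ eqToHom rfl) := by
      refine CoGrothendieck.ext rfl (heq_of_eq ?_)
      simp only [eqToHom_refl, Category.comp_id]
      exact (strict_map_comp_obj F g f x).symm
    refine ⟨h, eqFib_ext (eqFib_comp (eqFib_cartesianLift _ _) (eqFib_cartesianLift _ _))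
      (eqFib_comp (eqFib_eqToHom h) (eqFib_cartesianLift _ _)) ?_⟩
    rw [CoGrothendieck.categoryStruct_comp_base, CoGrothendieck.categoryStruct_comp_base, cg_base_eqToHom]
    simp [FibCat.Cleavage.ofCoGrothendieck]

end Groth.Agent.FC16
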