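import Groth.Agent.Lib.FC16.Split

/-! Split categories and strict functors. -/

universe v₁ v₂ v₃ u₁ u₂ u₃

open CategoryTheory CategoryTheory.Functor Opposite Pseudofunctor

set_option backward.isDefEq.respectTransparency false
set_option backward.isDefEq.respectTransparency.types false
set_option linter.style.haveILetI false

namespace Groth.Agent.FC16

variable {𝒮 : Type u₁} [Category.{v₁} 𝒮] {𝒳 : Type u₂} [Category.{v₂} 𝒳]

section Transport

variable {𝒴 : Type u₃} [Category.{v₃} 𝒴] {q : 𝒴 ⥤ 𝒮}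

lemma isCartesian_eqToHom_comp {R S : 𝒮} {y y' a : 𝒴} (h : y = y') (f : R ⟶ S) (φ : y' ⟶ a)
    [q.IsCartesian f φ] : q.IsCartesian f (eqToHom h ≫ φ) := by
  subst h; simpa

lemma isHomLift_comp_functor {Φ : 𝒳 ⥤ 𝒴} {R S : 𝒮} (f : R ⟶ S) {b a : 𝒳} (φ : b ⟶ a) :
    (Φ ⋙ q).IsHomLift f φ ↔ q.IsHomLift f (Φ.map φ) := by
  constructor
  · intro h
    have hd : q.obj (Φ.obj b) = R := IsHomLift.domain_eq (Φ ⋙ q) f φ
    have hc : q.obj (Φ.obj a) = S := IsHomLift.codomain_eq (Φ ⋙ q) f φ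
    exact IsHomLift.of_fac q f (Φ.map φ) hd hc (IsHomLift.fac (Φ ⋙ q) f φ)
  · intro h
    have hd : q.obj (Φ.obj b) = R := IsHomLift.domain_eq q f (Φ.map φ)
    have hc : q.obj (Φ.obj a) = S := IsHomLift.codomain_eq q f (Φ.map φ)
    exact IsHomLift.of_fac (Φ ⋙ q) f φ hd hc (IsHomLift.fac q f (Φ.map φ))

lemma isCartesian_comp_functor {Φ : 𝒳 ⥤ 𝒴} [Φ.Full] [Φ.Faithful] {R S : 𝒮} (f : R ⟶ S) {b a : 𝒳}
    (φ : b ⟶ a) [q.IsCartesian f (Φ.map φ)] : (Φ ⋙ q).IsCartesian f φ := by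
  haveI : (Φ ⋙ q).IsHomLift f φ := (isHomLift_comp_functor f φ).2 inferInstance
  refine { universal_property := ?_ }
  intro b' φ' hφ'
  haveI := (isHomLift_comp_functor (q := q) f φ').1 hφ'
  obtain ⟨χ, hχ⟩ := Φ.map_surjective (IsCartesian.map q f (Φ.map φ) (Φ.map φ'))
  refine ⟨χ, ⟨(isHomLift_comp_functor _ χ).2 (hχ ▸ inferInstance), Φ.map_injective ?_⟩, ?_⟩
  · rw [Φ.map_comp, hχ, IsCartesian.fac]
  · rintro χ' ⟨h1, h2⟩
    haveI := (isHomLift_comp_functor (q := q) _ χ').1 h1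
    apply Φ.map_injective
    rw [hχ]
    exact IsCartesian.map_uniq q f (Φ.map φ) _ _ (by rw [← Φ.map_comp, h2])

lemma lift_congr (L : FibCat.Cleavage q) {R S : 𝒮} {a a' : 𝒴} (e : a = a') (ha : q.obj a = S)
    (ha' : q.obj a' = S) (f : R ⟶ S) :
    ∃ h : L.obj ha f = L.obj ha' f, L.lift ha f ≫ eqToHom e = eqToHom h ≫ L.lift ha' f := by
  subst e; exact ⟨rfl, by simp⟩

lemma exists_isSplitting_of_iso (p : 𝒳 ⥤ 𝒮) (Φ : 𝒳 ⥤ 𝒴) (Ψ : 𝒴 ⥤ 𝒳) (h₁ : Φ ⋙ Ψ = 𝟭 𝒳)
    (h₂ : Ψ ⋙ Φ = 𝟭 𝒴) (h₃ : Φ ⋙ q = p) (L : FibCat.Cleavage q) (hL : L.IsSplitting) :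
    ∃ K : FibCat.Cleavage p, K.IsSplitting := by
  subst h₃
  let e : 𝒳 ≌ 𝒴 := CategoryTheory.Equivalence.mk Φ Ψ (eqToIso h₁.symm) (eqToIso h₂)
  haveI : Φ.Full := inferInstanceAs e.functor.Full
  haveI : Φ.Faithful := inferInstanceAs e.functor.Faithful
  have hy : ∀ y, Φ.obj (Ψ.obj y) = y := fun y => Functor.congr_obj h₂ y
  have hx : ∀ x, Ψ.obj (Φ.obj x) = x := fun x => Functor.congr_obj h₁ x
  let K : FibCat.Cleavage (Φ ⋙ q) :=
    { obj := fun {_ _ a} ha f => Ψ.obj (L.obj (a := Φ.obj a) ha f)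
      lift := fun {_ _ a} ha f => Φ.preimage (eqToHom (hy _) ≫ L.lift (a := Φ.obj a) ha f)
      isCartesian := fun {_ _ a} ha f => by
        haveI : q.IsCartesian f
            (Φ.map (Φ.preimage (eqToHom (hy _) ≫ L.lift (a := Φ.obj a) ha f))) := by
          rw [Φ.map_preimage]
          exact isCartesian_eqToHom_comp _ _ _
        exact isCartesian_comp_functor f _ }
  refine ⟨K, fun S a ha => ?_, fun S T U f g a ha => ?_⟩
  · obtain ⟨h, hl⟩ := hL.1 (show q.obj (Φ.obj a) = S from ha)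
    refine ⟨(congrArg Ψ.obj h).trans (hx a), Φ.map_injective ?_⟩
    rw [eqToHom_map]
    change Φ.map (Φ.preimage _) = _
    rw [Φ.map_preimage, hl, eqToHom_trans]
  · obtain ⟨h, hl⟩ := hL.2 f g (show q.obj (Φ.obj a) = S from ha)
    obtain ⟨h', hl'⟩ := lift_congr L (hy (L.obj (a := Φ.obj a) ha f)) (K.obj_proj ha f)
      (L.obj_proj ha f) g
    refine ⟨congrArg Ψ.obj (h'.trans h), Φ.map_injective ?_⟩
    rw [Φ.map_comp, Φ.map_comp, eqToHom_map]
    change Φ.map (Φ.preimage _) ≫ Φ.map (Φ.preimage _) = _ ≫ Φ.map (Φ.preimage _)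
    simp only [Φ.map_preimage, Category.assoc]
    erw [reassoc_of% hl', hl]
    erw [eqToHom_trans_assoc, eqToHom_trans_assoc, eqToHom_trans_assoc]

end Transport

section StrictFunctor

variable {p : 𝒳 ⥤ 𝒮} (K : FibCat.Cleavage p)

lemma inverseImage_id (hK : K.IsSplitting) (S : 𝒮) : K.inverseImage (𝟙 S) = 𝟭 (p.Fiber S) := by
  refine Functor.ext (fun a => Subtype.ext (hK.1 a.2).1) (fun a b φ => ?_)
  apply Fiber.hom_ext
  simp only [Functor.map_comp, eqToHom_map, FibCat.Cleavage.inverseImage_map, Functor.id_map]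
  obtain ⟨ha, hla⟩ := hK.1 a.2
  obtain ⟨hb, hlb⟩ := hK.1 b.2
  rw [← cancel_mono (eqToHom hb)]
  conv_lhs => arg 2; rw [← hlb]
  rw [IsCartesian.fac]
  simp only [hla]
  erw [Category.assoc, Category.assoc, eqToHom_trans, eqToHom_refl, Category.comp_id]

lemma inverseImage_comp (hK : K.IsSplitting) {R S T : 𝒮} (g : R ⟶ S) (f : S ⟶ T) :
    K.inverseImage (g ≫ f) = K.inverseImage f ⋙ K.inverseImage g := by
  refine Functor.ext (fun a => Subtype.ext (hK.2 f g a.2).1.symm) (fun a b φ => ?_)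
  apply Fiber.hom_ext
  simp only [Functor.map_comp, eqToHom_map, FibCat.Cleavage.inverseImage_map, Functor.comp_map]
  obtain ⟨ha, hla⟩ := hK.2 f g a.2
  obtain ⟨hb, hlb⟩ := hK.2 f g b.2
  symm
  apply IsCartesian.map_uniq
  erw [Category.assoc, Category.assoc, ← hlb]
  erw [IsCartesian.fac_assoc, Category.assoc, IsCartesian.fac, reassoc_of% hla]
  simp

noncomputable def strictFunctor (hK : K.IsSplitting) : 𝒮ᵒᵖ ⥤ Cat.{v₂, u₂} where
  obj S := Cat.of (p.Fiber S.unop)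
  map f := (K.inverseImage f.unop).toCatHom
  map_id S := congrArg Functor.toCatHom (inverseImage_id K hK S.unop)
  map_comp f g := congrArg Functor.toCatHom (inverseImage_comp K hK g.unop f.unop)

section Iso

variable (hK : K.IsSplitting)

set_option quotPrecheck false in
local notation "G" => CoGrothendieck (strictFunctor K hK).toPseudofunctor'

/-- the morphism of `𝒳` underlying a morphism of pairs -/
noncomputable def backMap {a b : G} (φ : a ⟶ b) : a.fiber.1 ⟶ b.fiber.1 :=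
  φ.fiber.1 ≫ K.lift b.fiber.2 φ.base

lemma backMap_isHomLift {a b : G} (φ : a ⟶ b) : p.IsHomLift φ.base (backMap K hK φ) :=
  haveI := φ.fiber.2
  haveI : p.IsHomLift φ.base (K.lift b.fiber.2 φ.base) := inferInstance
  IsHomLift.comp_lift_id_left' (p := p) a.base φ.fiber.1 φ.base (K.lift b.fiber.2 φ.base)

lemma backMap_id (a : G) : backMap K hK (𝟙 a) = 𝟙 a.fiber.1 := by
  obtain ⟨h, hl⟩ := hK.1 a.fiber.2
  unfold backMap
  erw [CoGrothendieck.categoryStruct_id_fiber, toNatTrans_eqToHom_app]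
  · change Fiber.fiberInclusion.map _ ≫ _ = _
    rw [eqToHom_map]
    simp only [CoGrothendieck.categoryStruct_id_base]
    erw [hl, eqToHom_trans, eqToHom_refl]
    rfl
  · exact ((strictFunctor K hK).map_id _).symm

lemma backMap_comp {a b c : G} (φ : a ⟶ b) (ψ : b ⟶ c) :
    backMap K hK (φ ≫ ψ) = backMap K hK φ ≫ backMap K hK ψ := by
  obtain ⟨h, hl⟩ := hK.2 ψ.base φ.base c.fiber.2
  unfold backMap
  erw [CoGrothendieck.categoryStruct_comp_fiber, toNatTrans_eqToHom_app]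
  · change Fiber.fiberInclusion.map (_ ≫ (K.inverseImage φ.base).map ψ.fiber ≫ _) ≫ _ = _
    simp only [Functor.map_comp, eqToHom_map, FibCat.Cleavage.inverseImage_map,
      CoGrothendieck.categoryStruct_comp_base, Category.assoc]
    erw [← hl, IsCartesian.fac_assoc]
    simp only [Category.assoc]
    rfl
  · exact ((strictFunctor K hK).map_comp _ _).symm

lemma backMap_injective {a b : G} {φ ψ : a ⟶ b} (h : φ.base = ψ.base)
    (h' : backMap K hK φ = backMap K hK ψ) : φ = ψ := by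
  obtain ⟨f, x⟩ := φ
  obtain ⟨g, y⟩ := ψ
  dsimp at h
  subst h
  congr 1
  apply Fiber.hom_ext
  haveI := x.2
  haveI := y.2
  exact IsCartesian.ext p f (K.lift b.fiber.2 f) _ _ h'

noncomputable def backFunctor : G ⥤ 𝒳 where
  obj a := a.fiber.1
  map φ := backMap K hK φ
  map_id a := backMap_id K hK a
  map_comp φ ψ := backMap_comp K hK φ ψ

noncomputable def toMap {a b : 𝒳} (φ : a ⟶ b) :
    (⟨p.obj a, ⟨a, rfl⟩⟩ : G) ⟶ ⟨p.obj b, ⟨b, rfl⟩⟩ :=
  ⟨p.map φ, Fiber.homMk p (p.obj a)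
    (IsCartesian.map p (p.map φ) (K.lift (rfl : p.obj b = p.obj b) (p.map φ)) φ)⟩

lemma backMap_toMap {a b : 𝒳} (φ : a ⟶ b) : backMap K hK (toMap K hK φ) = φ :=
  IsCartesian.fac p (p.map φ) (K.lift (rfl : p.obj b = p.obj b) (p.map φ)) φ

noncomputable def toFunctorG : 𝒳 ⥤ G where
  obj a := ⟨p.obj a, ⟨a, rfl⟩⟩
  map φ := toMap K hK φ
  map_id a := backMap_injective K hK (by simp [toMap])
    (by erw [backMap_toMap, backMap_id])
  map_comp φ ψ := backMap_injective K hK (by simp [toMap])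
    (by rw [backMap_comp, backMap_toMap, backMap_toMap, backMap_toMap])

lemma base_eq_of_eqToHom {a b : G} (h : a = b) :
    (eqToHom h).base = eqToHom (congrArg CoGrothendieck.base h) := by
  subst h; rfl

lemma exists_iso_coGrothendieck :
    toFunctorG K hK ⋙ backFunctor K hK = 𝟭 𝒳 ∧ backFunctor K hK ⋙ toFunctorG K hK = 𝟭 _ ∧
      toFunctorG K hK ⋙ CoGrothendieck.forget (strictFunctor K hK).toPseudofunctor' = p := by
  refine ⟨?_, ?_, rfl⟩
  · refine Functor.ext (fun a => rfl) (fun a b φ => ?_)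
    simp only [eqToHom_refl, Category.comp_id, Category.id_comp]
    exact backMap_toMap K hK φ
  · refine Functor.ext (fun a => ?_) (fun a b φ => ?_)
    · obtain ⟨S, ⟨x, hx⟩⟩ := a
      have hx' : p.obj x = S := hx
      cases hx'
      rfl
    · apply backMap_injective K hK
      · simp only [CoGrothendieck.categoryStruct_comp_base, base_eq_of_eqToHom, Functor.id_map]
        have := backMap_isHomLift K hK φ
        exact IsHomLift.fac' p φ.base (backMap K hK φ)
      · change (backFunctor K hK).map _ = (backFunctor K hK).map _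
        simp only [Functor.map_comp, eqToHom_map]
        exact (backMap_toMap K hK _).trans ((Category.comp_id _).symm.trans (Category.id_comp _).symm)

end Iso

end StrictFunctor

end Groth.Agent.FC16
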