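import Groth.Agent.Lib.FC16.Stack
import Mathlib.CategoryTheory.Sites.SheafOfTypes

/-! `ofPsh P` is a stack iff `P` is a sheaf. -/

universe w v₂ u₂ v u
set_option linter.unusedVariables false

open CategoryTheory CategoryTheory.Functor Opposite

set_option linter.style.haveILetI false
set_option backward.isDefEq.respectTransparency false
set_option backward.isDefEq.respectTransparency.types false

namespace Groth.Agent.FC16

variable {C : Type u} [Category.{v} C] {P : Cᵒᵖ ⥤ Type w} {𝒜 : BasedCategory.{v₂, u₂} C}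

lemma map2 {X Y Z : C} (f : Y ⟶ X) (g : Z ⟶ Y) (x : P.obj (op X)) :
    P.map g.op (P.map f.op x) = P.map (g ≫ f).op x := by
  rw [op_comp, Functor.map_comp_apply]

/-- value of a functor into `ofPsh P` -/
def pval (s : 𝒜 ⥤ᵇ Stk.ofPsh P) (a : 𝒜.obj) : P.obj (op (𝒜.p.obj a)) :=
  P.map (eqToHom (s.w_obj a).symm).op (s.obj a).sec

lemma pval_nat (s : 𝒜 ⥤ᵇ Stk.ofPsh P) {a b : 𝒜.obj} (g : a ⟶ b) :
    P.map (𝒜.p.map g).op (pval s b) = pval s a := by
  have hw : (s.map g).hom = eqToHom (s.w_obj a) ≫ 𝒜.p.map g ≫ eqToHom (s.w_obj b).symm :=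
    Functor.congr_hom s.w g
  unfold pval
  refine (map2 (X := (s.obj b).base) _ _ _).trans (Eq.trans ?_
    ((map2 (X := (s.obj b).base) _ _ _).symm.trans
      (congrArg (P.map (eqToHom (s.w_obj a).symm).op) (s.map g).map_sec)))
  rw [hw]
  erw [eqToHom_trans_assoc, eqToHom_refl, Category.id_comp]

lemma pval_hom {s t : 𝒜 ⥤ᵇ Stk.ofPsh P} (α : s ⟶ t) (a : 𝒜.obj) : pval s a = pval t a := by
  have hl : (Stk.ofPsh P).p.IsHomLift (𝟙 (𝒜.p.obj a)) (α.toNatTrans.app a) := α.isHomLift' a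
  have hw : (α.toNatTrans.app a).hom = eqToHom (s.w_obj a) ≫ eqToHom (t.w_obj a).symm :=
    (IsHomLift.fac' (Stk.ofPsh P).p (𝟙 (𝒜.p.obj a)) (α.toNatTrans.app a)).trans (by simp)
  unfold pval
  refine ((congrArg (P.map (eqToHom (s.w_obj a).symm).op) (α.toNatTrans.app a).map_sec).symm.trans
    (map2 (X := (t.obj a).base) _ _ _)).trans ?_
  rw [hw]
  erw [eqToHom_trans_assoc, eqToHom_refl, Category.id_comp]
  rfl

lemma psh_natTrans_ext {s t : 𝒜 ⥤ᵇ Stk.ofPsh P} (α β : s ⟶ t) : α = β := by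
  apply BasedNatTrans.homCategory.ext
  apply NatTrans.ext
  funext a
  apply Stk.EltObj.hom_ext
  haveI := α.isHomLift' a
  haveI := β.isHomLift' a
  exact (IsHomLift.fac' (Stk.ofPsh P).p (𝟙 (𝒜.p.obj a)) (α.toNatTrans.app a)).trans
    (IsHomLift.fac' (Stk.ofPsh P).p (𝟙 (𝒜.p.obj a)) (β.toNatTrans.app a)).symm

/-- morphism from equal values -/
def homOfPval {s t : 𝒜 ⥤ᵇ Stk.ofPsh P} (h : ∀ a, pval s a = pval t a) : s ⟶ t where
  toNatTrans :=
    { app := fun a => ⟨eqToHom ((s.w_obj a).trans (t.w_obj a).symm), by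
        have e := congrArg (P.map (eqToHom (s.w_obj a)).op) (h a)
        unfold pval at e
        erw [map2, map2, eqToHom_trans, eqToHom_trans, eqToHom_refl, op_id, P.map_id] at e
        exact e.symm⟩
      naturality := fun a b g => by
        apply Stk.EltObj.hom_ext
        show (s.map g).hom ≫ eqToHom ((s.w_obj b).trans (t.w_obj b).symm) =
          eqToHom ((s.w_obj a).trans (t.w_obj a).symm) ≫ (t.map g).hom
        have h1 : (s.map g).hom = eqToHom (s.w_obj a) ≫ 𝒜.p.map g ≫ eqToHom (s.w_obj b).symm :=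
          Functor.congr_hom s.w g
        have h2 : (t.map g).hom = eqToHom (t.w_obj a) ≫ 𝒜.p.map g ≫ eqToHom (t.w_obj b).symm :=
          Functor.congr_hom t.w g
        rw [h1, h2]
        simp }
  isHomLift' a := IsHomLift.of_fac' (Stk.ofPsh P).p _ _ (s.w_obj a) (t.w_obj a) (by simp)

/-- isomorphism from equal values -/
def isoOfPval {s t : 𝒜 ⥤ᵇ Stk.ofPsh P} (h : ∀ a, pval s a = pval t a) : s ≅ t where
  hom := homOfPval h
  inv := homOfPval (fun a => (h a).symm)
  hom_inv_id := psh_natTrans_ext _ _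
  inv_hom_id := psh_natTrans_ext _ _

/-- functor with given values -/
def ofFamily (v : ∀ a : 𝒜.obj, P.obj (op (𝒜.p.obj a)))
    (hv : ∀ {a b : 𝒜.obj} (g : a ⟶ b), P.map (𝒜.p.map g).op (v b) = v a) : 𝒜 ⥤ᵇ Stk.ofPsh P where
  toFunctor :=
    { obj := fun a => ⟨𝒜.p.obj a, v a⟩
      map := fun g => ⟨𝒜.p.map g, hv g⟩
      map_id := fun a => Stk.EltObj.hom_ext (𝒜.p.map_id a)
      map_comp := fun g g' => Stk.EltObj.hom_ext (𝒜.p.map_comp g g') }
  w := rfl

lemma pval_ofFamily (v : ∀ a : 𝒜.obj, P.obj (op (𝒜.p.obj a)))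
    (hv : ∀ {a b : 𝒜.obj} (g : a ⟶ b), P.map (𝒜.p.map g).op (v b) = v a) (a : 𝒜.obj) :
    pval (ofFamily v hv) a = v a := by
  unfold pval
  show P.map (eqToHom rfl).op (v a) = v a
  simp

lemma pval_over {U : C} (s : FibCat.overCat U ⥤ᵇ Stk.ofPsh P) (a : Over U) :
    pval s a = P.map a.hom.op (pval s (Over.mk (𝟙 U))) :=
  (pval_nat s (Over.homMk a.hom (by simp) : a ⟶ Over.mk (𝟙 U))).symm

/-- functor out of a slice with given value -/
def ofSec {U : C} (y : P.obj (op U)) : FibCat.overCat U ⥤ᵇ Stk.ofPsh P :=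
  ofFamily (fun a => P.map a.hom.op y) (fun {a b} g => by
    refine (map2 (X := U) b.hom g.left y).trans ?_
    exact congrArg (fun m : a.left ⟶ U => P.map m.op y) (Over.w g))

lemma pval_ofSec {U : C} (y : P.obj (op U)) (a : Over U) : pval (ofSec y) a = P.map a.hom.op y := by
  unfold pval
  show P.map (eqToHom rfl).op (P.map a.hom.op y) = _
  simp

lemma isStackFor_iff_isSheafFor {U : C} (R : Sieve U) :
    Stk.IsStackFor R (Stk.ofPsh P) ↔ Presieve.IsSheafFor P R.arrows := by
  constructor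
  · intro h x hx
    haveI : (Stk.resSieve R (Stk.ofPsh P)).IsEquivalence := h
    rw [Presieve.compatible_iff_sieveCompatible] at hx
    let t : Stk.sieveCat R ⥤ᵇ Stk.ofPsh P :=
      ofFamily (fun a => x a.obj.hom a.property) (fun {a b} g => by
        have := hx b.obj.hom g.hom.left b.property
        refine this.symm.trans ?_
        have e : g.hom.left ≫ b.obj.hom = a.obj.hom := Over.w g.hom
        congr 1)
    let s := (Stk.resSieve R (Stk.ofPsh P)).objPreimage t
    let i := (Stk.resSieve R (Stk.ofPsh P)).objObjPreimageIso t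
    refine ⟨pval s (Over.mk (𝟙 U)), fun V f hf => ?_, fun y hy => ?_⟩
    · exact (pval_over s (Over.mk f)).symm.trans ((pval_hom i.hom ⟨Over.mk f, hf⟩).trans
        (pval_ofFamily (𝒜 := Stk.sieveCat R) (fun a => x a.obj.hom a.property) _
          (⟨Over.mk f, hf⟩ : (Stk.sieveCat R).obj)))
    · have hval : ∀ a, pval ((Stk.resSieve R (Stk.ofPsh P)).obj (ofSec y)) a =
          pval ((Stk.resSieve R (Stk.ofPsh P)).obj s) a := fun a =>
        (pval_ofSec y a.obj).trans ((hy a.obj.hom a.property).trans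
          ((pval_hom i.hom a).trans (pval_ofFamily _ _ a)).symm)
      obtain ⟨α, -⟩ := (Stk.resSieve R (Stk.ofPsh P)).map_surjective (homOfPval hval)
      have := pval_hom α (Over.mk (𝟙 U))
      rw [pval_ofSec] at this
      simpa using this
  · intro h
    haveI : (Stk.resSieve R (Stk.ofPsh P)).Faithful := ⟨fun {s t α β} _ => psh_natTrans_ext α β⟩
    haveI : (Stk.resSieve R (Stk.ofPsh P)).Full := ⟨fun {s t} γ => by
      refine ⟨homOfPval (fun a => ?_), psh_natTrans_ext _ _⟩
      rw [pval_over s, pval_over t]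
      congr 1
      refine h.isSeparatedFor.ext (fun V f hf => ?_)
      exact (pval_over s (Over.mk f)).symm.trans
        ((pval_hom γ ⟨Over.mk f, hf⟩).trans (pval_over t (Over.mk f)))⟩
    haveI : (Stk.resSieve R (Stk.ofPsh P)).EssSurj := ⟨fun t => by
      let x : Presieve.FamilyOfElements P R.arrows := fun V f hf => pval t ⟨Over.mk f, hf⟩
      have hx : x.Compatible := by
        rw [Presieve.compatible_iff_sieveCompatible]
        intro Y Z f g hf
        exact (pval_nat t (ObjectProperty.homMk (Over.homMk g rfl) :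
          (⟨Over.mk (g ≫ f), R.downward_closed hf g⟩ : (Stk.sieveCat R).obj) ⟶ ⟨Over.mk f, hf⟩)).symm
      obtain ⟨y, hy, -⟩ := h x hx
      exact ⟨ofSec y, ⟨isoOfPval fun a => (pval_ofSec y a.obj).trans (hy a.obj.hom a.property)⟩⟩⟩
    exact { }

lemma isStack_ofPsh_iff (J : GrothendieckTopology C) (P : Cᵒᵖ ⥤ Type w) :
    Stk.IsStack J (Stk.ofPsh P) ↔ Presieve.IsSheaf J P :=
  ⟨fun h U R hR => (isStackFor_iff_isSheafFor R).1 (h.2 R hR),
    fun h => ⟨Stk.isFibGrpd_ofPsh P, fun U R hR => (isStackFor_iff_isSheafFor R).2 (h R hR)⟩⟩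

/-- sections of a representable presheaf as objects of the slice -/
def ofPshYoneda (U : C) : Stk.ofPsh (yoneda.obj U) ⥤ᵇ FibCat.overCat U where
  toFunctor :=
    { obj := fun a => Over.mk (a.sec : a.base ⟶ U)
      map := fun f => Over.homMk f.hom f.map_sec
      map_id := fun a => by apply Over.OverMorphism.ext; rfl
      map_comp := fun f g => by apply Over.OverMorphism.ext; rfl }
  w := rfl

lemma ofPshYoneda_isEquivOver (U : C) : FibCat.IsEquivOver (ofPshYoneda U) := by
  haveI : (ofPshYoneda U).toFunctor.Faithful :=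
    ⟨fun h => Stk.EltObj.hom_ext (congrArg CommaMorphism.left h)⟩
  haveI : (ofPshYoneda U).toFunctor.Full :=
    ⟨fun g => ⟨⟨g.left, Over.w g⟩, by apply Over.OverMorphism.ext; rfl⟩⟩
  refine isEquivOver_of _ fun b => ⟨⟨b.left, b.hom⟩, Iso.refl _, ?_⟩
  exact IsHomLift.id rfl

lemma isStack_overCat_iff (J : GrothendieckTopology C) (U : C) :
    Stk.IsStack J (FibCat.overCat U) ↔ Presieve.IsSheaf J (yoneda.obj U) :=
  (isStack_iff_of_isEquivOver J (ofPshYoneda_isEquivOver U)).symm.trans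
    (isStack_ofPsh_iff J (yoneda.obj U))

end Groth.Agent.FC16
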