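import Groth.Agent.Lib.FC16.Slices
import Groth.Agent.Lib.FC16.Split
import Groth.Agent.Lib.FC16.Self
import Mathlib.CategoryTheory.InducedCategory

/-! Every fibred category is equivalent to a split one. -/

universe v₂ u₂ v u

open CategoryTheory CategoryTheory.Functor Opposite Pseudofunctor

set_option linter.style.haveILetI false
set_option linter.unusedSimpArgs false
set_option backward.isDefEq.respectTransparency false
set_option backward.isDefEq.respectTransparency.types false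

namespace Groth.Agent.FC16

variable {C : Type u} [Category.{v} C] {𝒳 : BasedCategory.{v₂, u₂} C}

variable (𝒳) in
/-- cartesian functors out of a slice -/
abbrev PC (U : C) := {G : FibCat.overCat U ⥤ᵇ 𝒳 // PresCart G}

/-- value at the identity -/
abbrev evalTerm {U : C} (G : PC 𝒳 U) : 𝒳.p.Fiber U :=
  ⟨G.1.obj (Over.mk (𝟙 U)), G.1.w_obj (Over.mk (𝟙 U))⟩

variable (𝒳) in
/-- the fibre of the split category over `U` -/
abbrev SF (U : C) := InducedCategory (𝒳.p.Fiber U) (evalTerm (𝒳 := 𝒳) (U := U))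

lemma presCart_comp_overCat {U U' : C} {G : FibCat.overCat U ⥤ᵇ 𝒳} (hG : PresCart G)
    (φ : FibCat.overCat U' ⥤ᵇ FibCat.overCat U) : PresCart (BasedFunctor.comp φ G) := by
  intro R S f a b g hg
  haveI := presCart_of_isFibGrpd (overCat_isFibGrpd U) φ f g hg
  exact hG f (φ.map g) this

lemma extApp_eq_app {U : C} {G H : FibCat.overCat U ⥤ᵇ 𝒳} (hH : PresCart H) (α : G ⟶ H)
    (χ : G.obj (Over.mk (𝟙 U)) ⟶ H.obj (Over.mk (𝟙 U))) [𝒳.p.IsHomLift (𝟙 U) χ]
    (h : α.toNatTrans.app (Over.mk (𝟙 U)) = χ) (a : Over U) :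
    extApp hH χ a = α.toNatTrans.app a :=
  congrArg (fun β : G ⟶ H => β.toNatTrans.app a)
    (natTrans_ext hH (ext hH χ) α ((ext_app_term hH χ).trans h.symm))

/-- restriction along a functor between slices -/
noncomputable def R {U U' : C} (φ : FibCat.overCat U' ⥤ᵇ FibCat.overCat U) : SF 𝒳 U ⥤ SF 𝒳 U' where
  obj G := (⟨BasedFunctor.comp φ G.1, presCart_comp_overCat G.2 φ⟩ : PC 𝒳 U')
  map {G H} η := InducedCategory.homMk
    (haveI := η.hom.2
     ⟨extApp H.2 η.hom.1 (φ.obj (Over.mk (𝟙 U'))), by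
        have := extApp_lift H.2 η.hom.1 (φ.obj (Over.mk (𝟙 U')))
        rwa [show (φ.obj (Over.mk (𝟙 U'))).left = U' from φ.w_obj (Over.mk (𝟙 U'))] at this⟩)
  map_id G := by
    apply InducedCategory.hom_ext
    apply Subtype.ext
    haveI : 𝒳.p.IsHomLift (𝟙 U) (𝟙 (G.1.obj (Over.mk (𝟙 U)))) :=
      IsHomLift.id (G.1.w_obj (Over.mk (𝟙 U)))
    exact extApp_eq_app G.2 (𝟙 G.1) (𝟙 _) rfl (φ.obj (Over.mk (𝟙 U')))
  map_comp {G H K} η θ := by
    apply InducedCategory.hom_ext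
    apply Subtype.ext
    haveI := η.hom.2
    haveI := θ.hom.2
    haveI : 𝒳.p.IsHomLift (𝟙 U) (η.hom.1 ≫ θ.hom.1) := inferInstance
    refine extApp_eq_app K.2 (ext H.2 η.hom.1 ≫ ext K.2 θ.hom.1) (η.hom.1 ≫ θ.hom.1) ?_
      (φ.obj (Over.mk (𝟙 U')))
    show (ext H.2 η.hom.1).toNatTrans.app _ ≫ (ext K.2 θ.hom.1).toNatTrans.app _ = _
    rw [ext_app_term, ext_app_term]

lemma R_id (U : C) : R (𝒳 := 𝒳) (BasedFunctor.id (FibCat.overCat U)) = 𝟭 (SF 𝒳 U) := by
  refine Functor.ext (fun G => rfl) (fun G H η => ?_)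
  simp only [eqToHom_refl, Category.comp_id, Category.id_comp]
  apply InducedCategory.hom_ext
  apply Subtype.ext
  haveI := η.hom.2
  exact ext_app_term H.2 η.hom.1

lemma R_comp {U U' U'' : C} (ψ : FibCat.overCat U'' ⥤ᵇ FibCat.overCat U')
    (φ : FibCat.overCat U' ⥤ᵇ FibCat.overCat U) :
    R (𝒳 := 𝒳) (BasedFunctor.comp ψ φ) = R φ ⋙ R ψ := by
  refine Functor.ext (fun G => rfl) (fun G H η => ?_)
  simp only [eqToHom_refl, Category.comp_id, Category.id_comp]
  apply InducedCategory.hom_ext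
  apply Subtype.ext
  haveI := η.hom.2
  haveI := ((R φ).map η).hom.2
  symm
  refine extApp_eq_app (G := ((R φ).obj G).1) ((R φ).obj H).2
    (BasedCategory.whiskerLeft φ (ext H.2 η.hom.1)) ((R φ).map η).hom.1 ?_ (ψ.obj (Over.mk (𝟙 U'')))
  rfl

lemma overMap_id (U : C) : overMap (𝟙 U) = BasedFunctor.id (FibCat.overCat U) :=
  basedFunctor_ext (Over.mapId_eq U)

lemma overMap_comp {X Y Z : C} (f : X ⟶ Y) (g : Y ⟶ Z) :
    overMap (f ≫ g) = BasedFunctor.comp (overMap f) (overMap g) :=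
  basedFunctor_ext (Over.mapComp_eq f g)

section

universe w

variable {C : Type u} [Category.{v} C] (𝒳 : BasedCategory.{v, w} C)

/-- the strict functor of a fibred category -/
noncomputable def SFunctor : Cᵒᵖ ⥤ Cat.{v, max u v w} where
  obj U := Cat.of (SF 𝒳 U.unop)
  map f := (R (overMap f.unop)).toCatHom
  map_id U := congrArg Functor.toCatHom ((congrArg R (overMap_id U.unop)).trans (R_id U.unop))
  map_comp f g := congrArg Functor.toCatHom
    ((congrArg R (overMap_comp g.unop f.unop)).trans (R_comp (overMap g.unop) (overMap f.unop)))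

/-- its category of pairs -/
noncomputable abbrev SCat : BasedCategory.{v, max u v w} C :=
  BasedCategory.ofFunctor (CoGrothendieck.forget (SFunctor 𝒳).toPseudofunctor')

variable {𝒳}

/-- the morphism to the terminal object, after composing with `f` -/
abbrev toTermAlong {U V : C} (f : U ⟶ V) :
    (Over.map f).obj (Over.mk (𝟙 U)) ⟶ Over.mk (𝟙 V) :=
  toTerm _

noncomputable def evalMap {a b : (SCat 𝒳).obj} (φ : a ⟶ b) :
    a.fiber.1.obj (Over.mk (𝟙 a.base)) ⟶ b.fiber.1.obj (Over.mk (𝟙 b.base)) :=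
  φ.fiber.hom.1 ≫ b.fiber.1.map (toTermAlong φ.base)

lemma evalMap_isHomLift {a b : (SCat 𝒳).obj} (φ : a ⟶ b) :
    𝒳.p.IsHomLift φ.base (evalMap φ) := by
  haveI := φ.fiber.hom.2
  haveI : 𝒳.p.IsHomLift φ.base (b.fiber.1.map (toTermAlong φ.base)) := by
    have := map_toTerm_lift b.fiber.1 ((Over.map φ.base).obj (Over.mk (𝟙 a.base)))
    simpa using this
  exact IsHomLift.comp_lift_id_left' (p := 𝒳.p) a.base φ.fiber.hom.1 φ.base
    (b.fiber.1.map (toTermAlong φ.base))

lemma map_toTermAlong_cart {U V : C} (G : PC 𝒳 V) (f : U ⟶ V) :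
    𝒳.p.IsStronglyCartesian f (G.1.map (toTermAlong f)) := by
  have := map_toTerm_cart G.2 ((Over.map f).obj (Over.mk (𝟙 U)))
  simpa using this

lemma SF_eqToHom_hom {U : C} {G H : SF 𝒳 U} (h : G = H) :
    (eqToHom h).hom.1 = eqToHom (by rw [h]) := by
  subst h; rfl

lemma toTerm_eq_eqToHom {U : C} {a : Over U} (h : a = Over.mk (𝟙 U)) : toTerm a = eqToHom h := by
  subst h
  ext
  simp

lemma evalMap_id (a : (SCat 𝒳).obj) : evalMap (𝟙 a) = 𝟙 _ := by
  unfold evalMap
  erw [CoGrothendieck.categoryStruct_id_fiber, toNatTrans_eqToHom_app]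
  · erw [SF_eqToHom_hom]
    have ht : toTermAlong (𝟙 a.base) = eqToHom (by rw [Over.mapId_eq]; rfl) :=
      toTerm_eq_eqToHom _
    show eqToHom _ ≫ a.fiber.1.map (toTermAlong (𝟙 a.base)) = _
    rw [ht, eqToHom_map]
    erw [eqToHom_trans, eqToHom_refl]
  · exact ((SFunctor 𝒳).map_id _).symm

lemma evalMap_comp {a b c : (SCat 𝒳).obj} (φ : a ⟶ b) (ψ : b ⟶ c) :
    evalMap (φ ≫ ψ) = evalMap φ ≫ evalMap ψ := by
  unfold evalMap
  erw [CoGrothendieck.categoryStruct_comp_fiber, toNatTrans_eqToHom_app]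
  · have key : ∀ {G H K L : SF 𝒳 a.base} (x : G ⟶ H) (y : H ⟶ K) (h : K = L),
        (x ≫ y ≫ eqToHom h).hom.1 = x.hom.1 ≫ y.hom.1 ≫ eqToHom (by rw [h]) := by
      intro G H K L x y h
      subst h
      simp only [eqToHom_refl, Category.comp_id]
      rfl
    erw [key]
    haveI := ψ.fiber.hom.2
    let a₀ : Over b.base := (Over.map φ.base).obj (Over.mk (𝟙 a.base))
    have hfac := extApp_fac (G := b.fiber.1)
      (H := BasedFunctor.comp (overMap ψ.base) c.fiber.1)
      (presCart_comp_overCat c.fiber.2 (overMap ψ.base)) ψ.fiber.hom.1 a₀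
    have hobj : (Over.map ψ.base).obj a₀ =
        (Over.map (φ ≫ ψ).base).obj (Over.mk (𝟙 a.base)) := by
      show _ = (Over.map (φ.base ≫ ψ.base)).obj (Over.mk (𝟙 a.base))
      rw [Over.mapComp_eq]; rfl
    have hterm : (Over.map ψ.base).map (toTerm a₀) ≫ toTermAlong ψ.base =
        eqToHom hobj ≫ toTermAlong (φ ≫ ψ).base := by
      ext
      simp [a₀, Over.eqToHom_left]
      rfl
    have hterm' : c.fiber.1.map ((Over.map ψ.base).map (toTerm a₀)) ≫
        c.fiber.1.map (toTermAlong ψ.base) =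
        eqToHom (congrArg c.fiber.1.obj hobj) ≫ c.fiber.1.map (toTermAlong (φ ≫ ψ).base) := by
      rw [← Functor.map_comp, hterm, Functor.map_comp, eqToHom_map]
    show (φ.fiber.hom.1 ≫ extApp (G := b.fiber.1) (H := BasedFunctor.comp (overMap ψ.base) c.fiber.1)
      (presCart_comp_overCat c.fiber.2 (overMap ψ.base)) ψ.fiber.hom.1 a₀ ≫ eqToHom _) ≫ _ = _
    simp only [Category.assoc]
    erw [← hterm']
    erw [reassoc_of% hfac]
  · exact ((SFunctor 𝒳).map_comp _ _).symm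

/-- evaluation at the identities -/
noncomputable def evalFunctor : SCat 𝒳 ⥤ᵇ 𝒳 where
  toFunctor :=
    { obj := fun a => a.fiber.1.obj (Over.mk (𝟙 a.base))
      map := fun φ => evalMap φ
      map_id := evalMap_id
      map_comp := evalMap_comp }
  w := Functor.ext (fun a => a.fiber.1.w_obj (Over.mk (𝟙 a.base)))
    (fun a b φ => by
      haveI := evalMap_isHomLift φ
      exact IsHomLift.fac' 𝒳.p φ.base (evalMap φ))

lemma evalFunctor_faithful : (evalFunctor (𝒳 := 𝒳)).toFunctor.Faithful where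
  map_injective {a b φ ψ} h := by
    have hb : φ.base = ψ.base := by
      haveI := evalMap_isHomLift φ
      haveI : 𝒳.p.IsHomLift ψ.base (evalMap φ) := by
        rw [show evalMap φ = evalMap ψ from h]; exact evalMap_isHomLift ψ
      exact isHomLift_unique (p := 𝒳.p) φ.base ψ.base (evalMap φ)
    obtain ⟨f, x⟩ := φ
    obtain ⟨g, y⟩ := ψ
    dsimp at hb
    subst hb
    congr 1
    apply InducedCategory.hom_ext
    apply Subtype.ext
    haveI := x.hom.2
    haveI := y.hom.2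
    haveI := map_toTermAlong_cart b.fiber f
    exact IsStronglyCartesian.ext 𝒳.p f (b.fiber.1.map (toTermAlong f)) (𝟙 a.base) h

lemma evalFunctor_full : (evalFunctor (𝒳 := 𝒳)).toFunctor.Full where
  map_surjective {a b} g := by
    have ha : 𝒳.p.obj ((evalFunctor (𝒳 := 𝒳)).obj a) = a.base := a.fiber.1.w_obj _
    have hb : 𝒳.p.obj ((evalFunctor (𝒳 := 𝒳)).obj b) = b.base := b.fiber.1.w_obj _
    let f : a.base ⟶ b.base := eqToHom ha.symm ≫ 𝒳.p.map g ≫ eqToHom hb
    haveI : 𝒳.p.IsHomLift f g := IsHomLift.of_fac 𝒳.p f g ha hb rfl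
    haveI := map_toTermAlong_cart b.fiber f
    exact ⟨⟨f, InducedCategory.homMk
      ⟨IsStronglyCartesian.map 𝒳.p f (b.fiber.1.map (toTermAlong f)) (g := 𝟙 a.base) (f' := f)
        (by simp) g, by infer_instance⟩⟩,
      IsStronglyCartesian.fac 𝒳.p f (b.fiber.1.map (toTermAlong f)) (g := 𝟙 a.base) (f' := f) (by simp) g⟩

lemma evalFunctor_essSurjOver [𝒳.p.IsFibered] : EssSurjOver (evalFunctor (𝒳 := 𝒳)) := fun x =>
  ⟨⟨𝒳.p.obj x, (⟨ofObj (rfl : 𝒳.p.obj x = 𝒳.p.obj x), ofObj_presCart _⟩ : PC 𝒳 (𝒳.p.obj x))⟩,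
    ofObjIso rfl, ofObjIso_lift rfl⟩

lemma evalFunctor_isEquivOver [𝒳.p.IsFibered] :
    FibCat.IsEquivOver (evalFunctor (𝒳 := 𝒳)) :=
  haveI := evalFunctor_faithful (𝒳 := 𝒳)
  haveI := evalFunctor_full (𝒳 := 𝒳)
  isEquivOver_of _ evalFunctor_essSurjOver

lemma SFunctor_isGroupoid (h : FibCat.IsFibGrpd 𝒳.p) (U : Cᵒᵖ) :
    IsGroupoid ((SFunctor 𝒳).obj U) where
  all_isIso {G H} η := by
    haveI := (isGroupoid_fiber h U.unop).all_isIso η.hom
    exact (InducedCategory.isoMk (asIso η.hom)).isIso_hom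

end

end Groth.Agent.FC16
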