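import Mathlib.CategoryTheory.Sites.Over
import Mathlib.CategoryTheory.Sites.CoverLifting
import Mathlib.CategoryTheory.Sites.Pullback
import Mathlib.CategoryTheory.Adjunction.Triple
import Mathlib.CategoryTheory.Functor.KanExtension.Adjunction
import Mathlib.CategoryTheory.Sites.LeftExact
import Mathlib.CategoryTheory.Limits.Types.Limits
import Mathlib.Algebra.Category.Grp.Limits

/-! Extension from a subterminal object is fully faithful. -/

universe w u' v u

open CategoryTheory Opposite Limits

set_option linter.style.haveILetI false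
set_option backward.isDefEq.respectTransparency false
set_option backward.isDefEq.respectTransparency.types false

namespace Groth.Agent.FC16.Subterminal

variable {C : Type u} [Category.{v} C] (J : GrothendieckTopology C) {U : C}

lemma isIso_unit (hU : ∀ V : C, Subsingleton (V ⟶ U)) (A : Type u') [Category.{w} A]
    [HasLimitsOfSize.{v, max u v} A]
    [((Over.forget U).sheafPushforwardContinuous A (J.over U) J).IsRightAdjoint]
    (F : Sheaf (J.over U) A) :
    IsIso (((Over.forget U).sheafAdjunctionContinuous A (J.over U) J).unit.app F) := by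
  haveI : (Over.forget U).Full :=
    ⟨fun {a b} f => ⟨Over.homMk f ((hU a.left).elim _ _), rfl⟩⟩
  let t : Adjunction.Triple _ ((Over.forget U).sheafPushforwardContinuous A (J.over U) J) _ :=
    ⟨(Over.forget U).sheafAdjunctionContinuous A (J.over U) J,
      (Over.forget U).sheafAdjunctionCocontinuous A (J.over U) J⟩
  haveI : IsIso t.adj₂.counit := by
    refine @NatIso.isIso_of_isIso_app _ _ _ _ _ _ _ (fun G => ?_)
    haveI : IsIso ((sheafToPresheaf (J.over U) A).map (t.adj₂.counit.app G)) := by
      show IsIso (((Over.forget U).sheafAdjunctionCocontinuous A (J.over U) J).counit.app G).hom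
      rw [Functor.sheafAdjunctionCocontinuous_counit_app_hom]
      infer_instance
    exact isIso_of_reflects_iso (t.adj₂.counit.app G) (sheafToPresheaf (J.over U) A)
  haveI : IsIso t.adj₁.unit := t.isIso_unit_iff_isIso_counit.2 inferInstance
  exact NatIso.isIso_app_of_isIso t.adj₁.unit F

lemma surjective_of_epi (hU : ∀ V : C, Subsingleton (V ⟶ U))
    [((Over.forget U).sheafPushforwardContinuous (Type max u v) (J.over U) J).IsRightAdjoint]
    (V : C) (hV : ∀ (A B : Sheaf J (Type max u v)) (ψ : A ⟶ B), Epi ψ →
      Function.Surjective (ψ.hom.app (op V)))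
    (a : V ⟶ U) (A B : Sheaf (J.over U) (Type max u v)) (ψ : A ⟶ B) [Epi ψ] :
    Function.Surjective (ψ.hom.app (op (Over.mk a))) := by
  haveI : HasLimitsOfSize.{v, max u v} (Type max u v) := hasLimitsOfSizeShrink.{v, max u v, max u v, max u v} _
  let adj := (Over.forget U).sheafAdjunctionContinuous (Type max u v) (J.over U) J
  haveI := isIso_unit J hU (Type max u v) A
  haveI := isIso_unit J hU (Type max u v) B
  let L := (Over.forget U).sheafPullback (Type max u v) (J.over U) J
  haveI : L.PreservesEpimorphisms := Functor.preservesEpimorphisms_of_adjunction adj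
  intro b
  obtain ⟨z, hz⟩ := hV _ _ (L.map ψ) inferInstance ((adj.unit.app B).hom.app (op (Over.mk a)) b)
  refine ⟨(inv (adj.unit.app A)).hom.app (op (Over.mk a)) z, ?_⟩
  have e : (inv (adj.unit.app A)) ≫ ψ =
      ((Over.forget U).sheafPushforwardContinuous (Type max u v) (J.over U) J).map (L.map ψ) ≫
        inv (adj.unit.app B) := by
    rw [IsIso.eq_comp_inv, Category.assoc, IsIso.inv_comp_eq]
    exact adj.unit.naturality ψ
  have e1 := congr_arg (fun φ => φ.hom.app (op (Over.mk a)) z) e
  change ψ.hom.app _ ((inv (adj.unit.app A)).hom.app (op (Over.mk a)) z) = (inv (adj.unit.app B)).hom.app (op (Over.mk a)) ((L.map ψ).hom.app (op V) z) at e1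
  rw [e1, hz]
  exact congr_arg (fun φ => φ.hom.app (op (Over.mk a)) b) (IsIso.hom_inv_id (adj.unit.app B))

end Groth.Agent.FC16.Subterminal
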