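import Groth.Prelude.Def_W4stkalgstUpp
import Groth.Agent.Lib.FC16.Basic
import Mathlib.CategoryTheory.FiberedCategory.Fibered
import Mathlib.CategoryTheory.Localization.CalculusOfFractions
import Mathlib.CategoryTheory.Limits.Shapes.FiniteLimits
import Mathlib.CategoryTheory.Limits.Shapes.Pullback.IsPullback.Basic
import Mathlib.CategoryTheory.Limits.Shapes.Equalizers
import Mathlib.CategoryTheory.Limits.Preserves.Shapes.Equalizers
import Mathlib.CategoryTheory.Limits.Preserves.Shapes.Pullbacks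

/-! The localisation `u_p` of a fibred category along a functor preserving nonempty finite limits. -/

universe v₃ u₃ v₂ u₂ v u

open CategoryTheory CategoryTheory.Functor CategoryTheory.Limits

set_option linter.style.haveILetI false
set_option backward.isDefEq.respectTransparency false
set_option backward.isDefEq.respectTransparency.types false

namespace Groth.Agent.FC16.Upp

section Base

variable {C : Type u} [Category.{v} C] {X : Type u₃} [Category.{v₃} X] (p : X ⥤ C)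

lemma exists_cartLift [p.IsFibered] {x : X} {R : C} (f : R ⟶ p.obj x) :
    ∃ (z : X) (c : z ⟶ x) (e : p.obj z ≅ R), p.map c = e.hom ≫ f ∧
      p.IsStronglyCartesian (p.map c) c := by
  obtain ⟨z, c, hc⟩ := IsPreFibered.exists_isCartesian' f
  obtain rfl : p.obj z = R := IsHomLift.domain_eq p f c
  have hf : f = p.map c := IsHomLift.eq_of_isHomLift p f c
  refine ⟨z, c, Iso.refl _, by simp [hf], ?_⟩
  rw [← hf]
  infer_instance

variable {p}

lemma cart_desc {z x a : X} {c : z ⟶ x} (hc : p.IsStronglyCartesian (p.map c) c)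
    (g : p.obj a ⟶ p.obj z) (ψ : a ⟶ x) (h : p.map ψ = g ≫ p.map c) :
    ∃ χ : a ⟶ z, p.map χ = g ∧ χ ≫ c = ψ := by
  haveI : p.IsHomLift (g ≫ p.map c) ψ := by rw [← h]; exact IsHomLift.map p ψ
  obtain ⟨χ, ⟨h1, h2⟩, -⟩ := hc.universal_property' g ψ
  haveI := h1
  exact ⟨χ, (IsHomLift.eq_of_isHomLift p g χ).symm, h2⟩

lemma cart_ext {z x a : X} {c : z ⟶ x} (hc : p.IsStronglyCartesian (p.map c) c)
    {χ χ' : a ⟶ z} (h : p.map χ = p.map χ') (h' : χ ≫ c = χ' ≫ c) : χ = χ' := by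
  haveI := hc
  haveI := IsHomLift.map p χ
  haveI : p.IsHomLift (p.map χ) χ' := by rw [h]; exact IsHomLift.map p χ'
  exact IsStronglyCartesian.ext p (p.map c) c (p.map χ) h'

lemma cart_id (x : X) : p.IsStronglyCartesian (p.map (𝟙 x)) (𝟙 x) :=
  haveI := IsHomLift.map p (𝟙 x)
  inferInstance

lemma cart_comp {x y z : X} {a : x ⟶ y} {b : y ⟶ z} (ha : p.IsStronglyCartesian (p.map a) a)
    (hb : p.IsStronglyCartesian (p.map b) b) : p.IsStronglyCartesian (p.map (a ≫ b)) (a ≫ b) := by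
  haveI := ha
  haveI := hb
  rw [p.map_comp]
  infer_instance

end Base

variable {C : Type u} [Category.{v} C] {D : Type u₂} [Category.{v₂} D] {u : C ⥤ D}
  {𝒮 : BasedCategory.{v₃, u₃} C}

lemma hasRightCalculus [𝒮.p.IsFibered]
    (hC : ∀ (I : Type) [SmallCategory I] [FinCategory I], Nonempty I → HasLimitsOfShape I C)
    (hu : ∀ (I : Type) [SmallCategory I] [FinCategory I], Nonempty I → PreservesLimitsOfShape I u) :
    (Stk.uppR u 𝒮).HasRightCalculusOfFractions := by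
  haveI : HasLimitsOfShape WalkingCospan C := hC WalkingCospan ⟨none⟩
  haveI : HasLimitsOfShape WalkingParallelPair C := hC WalkingParallelPair ⟨.zero⟩
  haveI : PreservesLimitsOfShape WalkingCospan u := hu WalkingCospan ⟨none⟩
  haveI : PreservesLimitsOfShape WalkingParallelPair u := hu WalkingParallelPair ⟨.zero⟩
  haveI : (Stk.uppR u 𝒮).IsMultiplicative :=
    { id_mem := fun a => ⟨cart_id a.x, by simp; infer_instance⟩
      comp_mem := fun f g hf hg => ⟨cart_comp hf.1 hg.1, by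
        haveI := hf.2; haveI := hg.2; simp; infer_instance⟩ }
  refine { exists_rightFraction := ?_, ext := ?_ }
  · intro a b φ
    obtain ⟨hs, hs'⟩ := φ.hs
    haveI := hs'
    have hP := (IsPullback.of_hasPullback (𝒮.p.map φ.f.top) (𝒮.p.map φ.s.top)).map u
    obtain ⟨z, c, e, hce, hc⟩ := exists_cartLift 𝒮.p (pullback.fst (𝒮.p.map φ.f.top) (𝒮.p.map φ.s.top))
    have h1 : 𝒮.p.map (c ≫ φ.f.top) =
        (e.hom ≫ pullback.snd (𝒮.p.map φ.f.top) (𝒮.p.map φ.s.top)) ≫ 𝒮.p.map φ.s.top := by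
      rw [𝒮.p.map_comp, hce, Category.assoc, Category.assoc, pullback.condition]
    obtain ⟨g, hg, hg'⟩ := cart_desc hs _ _ h1
    let k := hP.lift a.φ ((φ.f.bot ≫ inv φ.s.bot) ≫ b.φ) (by
      rw [φ.f.w, Category.assoc, φ.s.w, Category.assoc, IsIso.inv_hom_id_assoc])
    let Z : Stk.UppObj u 𝒮 := ⟨z, a.V, k ≫ u.map e.inv⟩
    let t : Z ⟶ a := ⟨c, 𝟙 _, by
      simp only [Z, hce, u.map_comp, Category.assoc, Category.id_comp]
      rw [← u.map_comp_assoc, e.inv_hom_id, u.map_id, Category.id_comp]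
      exact hP.lift_fst _ _ _⟩
    let g' : Z ⟶ b := ⟨g, φ.f.bot ≫ inv φ.s.bot, by
      simp only [Z, hg, u.map_comp, Category.assoc]
      rw [← u.map_comp_assoc, e.inv_hom_id, u.map_id, Category.id_comp]
      exact (hP.lift_snd _ _ _).trans (Category.assoc _ _ _)⟩
    refine ⟨MorphismProperty.RightFraction.mk t ⟨hc, by simp [t]; infer_instance⟩ g', ?_⟩
    apply Stk.UppObj.hom_ext
    · exact hg'.symm
    · simp [t, g']
  · intro a b b' f₁ f₂ s hs h
    obtain ⟨hs, hs'⟩ := hs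
    haveI := hs'
    have hbot : f₁.bot = f₂.bot := by
      rw [← cancel_mono s.bot]
      exact congrArg (fun k => k.bot) h
    have htop : f₁.top ≫ s.top = f₂.top ≫ s.top := congrArg (fun k => k.top) h
    let a₁ := 𝒮.p.map f₁.top
    let a₂ := 𝒮.p.map f₂.top
    obtain ⟨z, c, e, hce, hc⟩ := exists_cartLift 𝒮.p (equalizer.ι a₁ a₂)
    let hE := isLimitForkMapOfIsLimit u (equalizer.condition a₁ a₂) (equalizerIsEqualizer a₁ a₂)
    have hk : a.φ ≫ u.map a₁ = a.φ ≫ u.map a₂ := by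
      rw [f₁.w, f₂.w, hbot]
    obtain ⟨k, hk'⟩ := Fork.IsLimit.lift' hE a.φ hk
    let Z : Stk.UppObj u 𝒮 := ⟨z, a.V, k ≫ u.map e.inv⟩
    let t : Z ⟶ a := ⟨c, 𝟙 _, by
      simp only [Z, hce, u.map_comp, Category.assoc, Category.id_comp]
      rw [← u.map_comp_assoc, e.inv_hom_id, u.map_id, Category.id_comp]
      exact hk'⟩
    refine ⟨Z, t, ⟨hc, by simp [t]; infer_instance⟩, ?_⟩
    apply Stk.UppObj.hom_ext
    · show c ≫ f₁.top = c ≫ f₂.top
      apply cart_ext hs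
      · simp only [𝒮.p.map_comp, hce, Category.assoc]
        rw [equalizer.condition a₁ a₂]
      · simp only [Category.assoc, htop]
    · show t.bot ≫ f₁.bot = t.bot ≫ f₂.bot
      rw [hbot]

section Loc

variable [(Stk.uppR u 𝒮).HasRightCalculusOfFractions]

set_option quotPrecheck false
local notation "Q" => MorphismProperty.Q (Stk.uppR u 𝒮)

lemma up_map {a b : Stk.UppObj u 𝒮} (h : a ⟶ b) : (Stk.up u 𝒮).p.map ((Q).map h) = h.bot := by
  have := Functor.congr_hom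
    (Localization.Construction.fac (Stk.UppObj.forget u 𝒮) (Stk.uppR_isInvertedBy u 𝒮)) h
  refine Eq.trans this ?_
  simp

lemma up_iso {a b : Stk.UppObj u 𝒮} {t : a ⟶ b} (ht : Stk.uppR u 𝒮 t) :
    IsIso ((Q).map t) := Localization.inverts (Q) (Stk.uppR u 𝒮) t ht

lemma exists_fraction {a b : Stk.UppObj u 𝒮} (ψ : (Q).obj a ⟶ (Q).obj b) :
    ∃ (a' : Stk.UppObj u 𝒮) (t : a' ⟶ a) (h : a' ⟶ b), Stk.uppR u 𝒮 t ∧
      (Q).map t ≫ ψ = (Q).map h := by
  obtain ⟨φ, hφ⟩ := Localization.exists_rightFraction (Q) (Stk.uppR u 𝒮) ψ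
  exact ⟨φ.X', φ.s, φ.f, φ.hs, by rw [hφ]; exact φ.map_s_comp_map _ _⟩

/-- restriction of an object along a morphism to its base -/
abbrev restrObj (a : Stk.UppObj u 𝒮) {V' : D} (f : V' ⟶ a.V) : Stk.UppObj u 𝒮 := ⟨a.x, V', f ≫ a.φ⟩

/-- the restriction map -/
abbrev restrMap (a : Stk.UppObj u 𝒮) {V' : D} (f : V' ⟶ a.V) : restrObj a f ⟶ a := ⟨𝟙 _, f, by simp⟩

lemma restrMap_isStronglyCartesian (a : Stk.UppObj u 𝒮) {V' : D} (f : V' ⟶ a.V) :
    (Stk.up u 𝒮).p.IsStronglyCartesian f ((Q).map (restrMap a f)) := by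
  haveI : (Stk.up u 𝒮).p.IsHomLift f ((Q).map (restrMap a f)) :=
    IsHomLift.of_fac' (Stk.up u 𝒮).p _ _ rfl rfl (by rw [up_map]; simp)
  refine { universal_property' := ?_ }
  intro b g ψ hψ
  haveI := hψ
  obtain ⟨b₀, rfl⟩ : ∃ b₀, (Q).obj b₀ = b := ⟨b.as.obj, rfl⟩
  let gf : (Stk.up u 𝒮).p.obj ((Q).obj b₀) ⟶ (Stk.up u 𝒮).p.obj ((Q).obj a) := g ≫ f
  haveI : (Stk.up u 𝒮).p.IsHomLift gf ψ := hψ
  have eψ : (Stk.up u 𝒮).p.map ψ = g ≫ f := (IsHomLift.eq_of_isHomLift (Stk.up u 𝒮).p gf ψ).symm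
  obtain ⟨b', t, h, ht, hth⟩ := exists_fraction ψ
  have eb : h.bot = t.bot ≫ g ≫ f := by
    rw [← up_map h, ← hth, Functor.map_comp, up_map, eψ]
  let h' : b' ⟶ restrObj a f := ⟨h.top, t.bot ≫ g, by rw [h.w, eb]; simp⟩
  haveI := up_iso ht
  refine ⟨inv ((Q).map t) ≫ (Q).map h', ⟨?_, ?_⟩, ?_⟩
  · refine IsHomLift.of_fac' (Stk.up u 𝒮).p _ _ rfl rfl ?_
    simp only [eqToHom_refl]
    erw [Category.id_comp, Category.comp_id]
    rw [Functor.map_comp, Functor.map_inv, up_map h']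
    simp only [IsIso.inv_comp_eq]
    rw [up_map]
  · rw [Category.assoc, IsIso.inv_comp_eq, hth, ← (Q).map_comp]
    congr 1
    apply Stk.UppObj.hom_ext
    · simp [h']
    · simp [h', eb]
  · rintro χ ⟨h1, h2⟩
    haveI := h1
    have eχ : (Stk.up u 𝒮).p.map χ = g := (IsHomLift.eq_of_isHomLift (Stk.up u 𝒮).p g χ).symm
    obtain ⟨b'', t₂, h₂, ht₂, hth₂⟩ := exists_fraction ((Q).map t ≫ χ)
    haveI := up_iso ht₂
    rw [← cancel_epi ((Q).map t), IsIso.hom_inv_id_assoc, ← cancel_epi ((Q).map t₂), ← (Q).map_comp, hth₂]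
    have e : (Q).map (h₂ ≫ restrMap a f) = (Q).map ((t₂ ≫ h') ≫ restrMap a f) := by
      rw [(Q).map_comp, ← hth₂, Category.assoc, Category.assoc, h2, hth, ← (Q).map_comp]
      congr 1
      apply Stk.UppObj.hom_ext
      · simp [h']
      · simp [h', eb]
    have ebot : h₂.bot = (t₂ ≫ h').bot := by
      rw [← up_map h₂, ← hth₂]
      simp only [Functor.map_comp, up_map, eχ]
      rfl
    obtain ⟨c, s, hs, hse⟩ := (MorphismProperty.map_eq_iff_precomp (Q) (Stk.uppR u 𝒮) _ _).1 e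
    rw [MorphismProperty.map_eq_iff_precomp (Q) (Stk.uppR u 𝒮)]
    refine ⟨c, s, hs, ?_⟩
    apply Stk.UppObj.hom_ext
    · simpa using congrArg (fun k => k.top) hse
    · simp only [Stk.UppObj.comp_bot, ebot]

lemma up_isFibered : (Stk.up u 𝒮).p.IsFibered :=
  IsFibered.of_exists_isStronglyCartesian fun a R f =>
    ⟨_, _, restrMap_isStronglyCartesian a.as.obj f⟩

lemma up_isFibGrpd (hS : FibCat.IsFibGrpd 𝒮.p) : FibCat.IsFibGrpd (Stk.up u 𝒮).p where
  exists_lift {a V} f :=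
    ⟨_, _, (restrMap_isStronglyCartesian a.as.obj f).toIsHomLift⟩
  isStronglyCartesian {y x} ψ := by
    obtain ⟨b₀, rfl⟩ : ∃ b₀, (Q).obj b₀ = y := ⟨y.as.obj, rfl⟩
    obtain ⟨a₀, rfl⟩ : ∃ a₀, (Q).obj a₀ = x := ⟨x.as.obj, rfl⟩
    obtain ⟨b', t, h, ht, hth⟩ := exists_fraction ψ
    let h₀ : b' ⟶ restrObj a₀ h.bot := ⟨h.top, 𝟙 _, by rw [h.w]; simp⟩
    have hh : h₀ ≫ restrMap a₀ h.bot = h := by
      apply Stk.UppObj.hom_ext <;> simp [h₀]
    haveI := up_iso ht
    haveI := up_iso (t := h₀) ⟨hS.isStronglyCartesian _, by simp [h₀]; infer_instance⟩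
    have e : ψ = (inv ((Q).map t) ≫ (Q).map h₀) ≫ (Q).map (restrMap a₀ h.bot) := by
      rw [Category.assoc, ← (Q).map_comp, hh, ← hth, IsIso.inv_hom_id_assoc]
    rw [e, Functor.map_comp (Stk.up u 𝒮).p, up_map (restrMap a₀ h.bot)]
    haveI := restrMap_isStronglyCartesian a₀ h.bot
    haveI := IsHomLift.map (Stk.up u 𝒮).p (inv ((Q).map t) ≫ (Q).map h₀)
    infer_instance

end Loc

end Groth.Agent.FC16.Upp
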